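import Mathlib
import Cfsg.Prelude.Def_LieRecognition
import Cfsg.Agent.Lib.Helper87.LinPoly
import Cfsg.Agent.Lib.Helper1.Hig.Defs

set_option autoImplicit false

/-!
# HIG (D2c): the action on `P / C_P(M)` is fixed-point-free (piece of helper1's lemma server HIG)
-/

namespace Cfsg.Agent.Helper88.Hig

open Cfsg.Agent.Helper1.Hig Cfsg.Agent.Helper87
open scoped commutatorElement

/-- iterating `f_ξ` -/
theorem h88_f_pow {P : Type*} [Group P] (S : SuzNF P) (C : Cfg S) {F : Type*} [Field F]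
    (Φ : FMap S C F) (j : ℕ) (y : P) (x : F) :
    Φ.f ((S.ξ ^ j) y) x = Φ.lam ^ j * Φ.f y ((Φ.lam ^ j)⁻¹ * x) := by
  induction j generalizing x with
  | zero => simp
  | succ j ih =>
    rw [pow_succ' S.ξ j, MulAut.mul_apply, Φ.f_ξ, ih, pow_succ' Φ.lam j, mul_inv, mul_assoc,
      mul_assoc]
    congr 2
    rw [mul_left_comm]

theorem h88_f_one {P : Type*} [Group P] (S : SuzNF P) (C : Cfg S) {F : Type*} [Field F]
    (Φ : FMap S C F) (x : F) : Φ.f 1 x = 0 := by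
  have h := Φ.f_mul 1 1 x
  rw [mul_one] at h
  exact left_eq_add.mp h

/-- the centralizer of `M` is invariant under all powers of `ξ` -/
theorem h88_pow_mem_cent {P : Type*} [Group P] (S : SuzNF P) (C : Cfg S) {F : Type*} [Field F]
    (Φ : FMap S C F) (j : ℕ) (c : P) (hc : c ∈ Subgroup.centralizer (C.M : Set P)) :
    (S.ξ ^ j) c ∈ Subgroup.centralizer (C.M : Set P) := by
  rw [← Φ.f_eq_zero]
  intro x
  rw [h88_f_pow, (Φ.f_eq_zero c).mpr hc, mul_zero]

theorem fmap_fpf {P : Type*} [Group P] (S : SuzNF P) (C : Cfg S) {F : Type*} [Field F]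
    (Φ : FMap S C F) (y : P) (i : ℕ) (hi : 0 < i) (hi' : i < 2 ^ S.n - 1)
    (h : ∀ x, Φ.lam ^ i * Φ.f y ((Φ.lam ^ i)⁻¹ * x) = Φ.f y x) : ∀ x, Φ.f y x = 0 := by
  have := S.fin
  set α : MulAut P := S.ξ ^ i with hα
  set Cn : Subgroup P := Subgroup.centralizer (C.M : Set P) with hCn
  -- c₀ := y⁻¹ * α y centralizes M
  have hc0 : y⁻¹ * α y ∈ Cn := by
    rw [hCn, ← Φ.f_eq_zero]
    intro x
    rw [Φ.f_mul, hα, h88_f_pow, h, ← Φ.f_mul, inv_mul_cancel, h88_f_one]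
  -- the map c ↦ α c * c⁻¹ on Cn
  have hmem : ∀ c : Cn, α (c : P) * (c : P)⁻¹ ∈ Cn := fun c =>
    Cn.mul_mem (h88_pow_mem_cent S C Φ i c c.2) (Cn.inv_mem c.2)
  let φ : Cn → Cn := fun c => ⟨α (c : P) * (c : P)⁻¹, hmem c⟩
  have hcomm : ∀ a b : Cn, (a : P) * (b : P) = (b : P) * (a : P) := fun a b =>
    C.cent_comm a a.2 b b.2
  have hinj : Function.Injective φ := by
    intro a b hab
    have h1 : α (a : P) * (a : P)⁻¹ = α (b : P) * (b : P)⁻¹ := congrArg Subtype.val hab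
    -- α (b⁻¹ a) = b⁻¹ a
    have hαa : α (a : P) ∈ Cn := h88_pow_mem_cent S C Φ i a a.2
    have hαb : α (b : P) ∈ Cn := h88_pow_mem_cent S C Φ i b b.2
    have h2 : α ((b : P)⁻¹ * (a : P)) = (b : P)⁻¹ * (a : P) := by
      rw [map_mul, map_inv]
      have h3 : α (a : P) = α (b : P) * (b : P)⁻¹ * (a : P) := by
        rw [← h1]; group
      rw [h3]
      have h4 : (b : P)⁻¹ * (a : P) = (a : P) * (b : P)⁻¹ := by
        have := hcomm a b
        calc (b : P)⁻¹ * (a : P) = (b : P)⁻¹ * ((a : P) * (b : P)) * (b : P)⁻¹ := by group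
          _ = (b : P)⁻¹ * ((b : P) * (a : P)) * (b : P)⁻¹ := by rw [this]
          _ = (a : P) * (b : P)⁻¹ := by group
      group
    have h5 := S.fpf i hi hi' _ h2
    have : (a : P) = (b : P) := by
      have : (a : P) = (b : P) * ((b : P)⁻¹ * (a : P)) := by group
      rw [this, h5, mul_one]
    exact Subtype.ext this
  have hsurj : Function.Surjective φ := Finite.injective_iff_surjective.mp hinj
  obtain ⟨c, hc⟩ := hsurj ⟨(y⁻¹ * α y)⁻¹, Cn.inv_mem hc0⟩
  have hc' : α (c : P) * (c : P)⁻¹ = (y⁻¹ * α y)⁻¹ := congrArg Subtype.val hc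
  -- α (y c) = y c
  have h6 : α (y * (c : P)) = y * (c : P) := by
    rw [map_mul]
    have h7 : α (c : P) = (y⁻¹ * α y)⁻¹ * (c : P) := by
      rw [← hc']; group
    rw [h7]; group
  have h8 := S.fpf i hi hi' _ h6
  have hy : y ∈ Cn := by
    have : y = (c : P)⁻¹ := eq_inv_of_mul_eq_one_left h8
    rw [this]
    exact Cn.inv_mem c.2
  exact (Φ.f_eq_zero y).mpr hy

end Cfsg.Agent.Helper88.Hig
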