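import Mathlib
import Cfsg.Prelude.Def_LieRecognition
import Cfsg.Agent.Lib.Helper87.LinPoly
import Cfsg.Agent.Lib.Helper1.Hig.Defs
import Cfsg.Agent.Lib.Helper88.HigD2c

set_option autoImplicit false

/-!
# HIG (D3), part a: if `C_P(M)` has an element of order 8 then every `f y` is idempotent;
contradiction from a monomial member of the range (the field lemma (C) enters as a hypothesis).
-/

namespace Cfsg.Agent.Helper88.Hig

open Cfsg.Agent.Helper1.Hig Cfsg.Agent.Helper87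
open scoped commutatorElement

theorem h88_pow_four {P : Type*} [Group P] (a : P) : a ^ 4 = a * a * (a * a) := by
  rw [show (4 : ℕ) = 2 + 2 from rfl, pow_add, pow_two]

/-- an element of order exactly 8 in the centralizer -/
theorem h88_exists_eight {P : Type*} [Group P] (S : SuzNF P) (C : Cfg S)
    (h8 : ∃ c ∈ Subgroup.centralizer (C.M : Set P), c ^ 4 ≠ 1) :
    ∃ c ∈ Subgroup.centralizer (C.M : Set P), c ^ 8 = 1 ∧ c ^ 4 ≠ 1 := by
  obtain ⟨c, hc, hc4⟩ := h8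
  obtain ⟨r, hr⟩ := S.two c
  induction r generalizing c with
  | zero =>
    exfalso
    apply hc4
    rw [pow_zero, pow_one] at hr
    rw [hr, one_pow]
  | succ r ih =>
    by_cases h : c ^ 8 = 1
    · exact ⟨c, hc, h, hc4⟩
    · refine ih (c ^ 2) (Subgroup.pow_mem _ hc 2) ?_ ?_
      · rw [← pow_mul]; exact h
      · rw [← pow_mul, ← pow_succ']; exact hr

/-- every central element is a fourth power of an element of the centralizer of exponent 8 -/
theorem h88_fourth_power {P : Type*} [Group P] (S : SuzNF P) (C : Cfg S) {F : Type*} [Field F]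
    (Φ : FMap S C F) (h8 : ∃ c ∈ Subgroup.centralizer (C.M : Set P), c ^ 4 ≠ 1)
    (z : P) (hz : z ∈ Subgroup.center P) :
    ∃ c ∈ Subgroup.centralizer (C.M : Set P), c ^ 8 = 1 ∧ c ^ 4 = z := by
  obtain ⟨c₁, hc₁, h18, h14⟩ := h88_exists_eight S C h8
  by_cases hz1 : z = 1
  · exact ⟨1, Subgroup.one_mem _, one_pow _, by rw [one_pow, hz1]⟩
  · have hz₁ : c₁ ^ 4 ∈ Subgroup.center P := by
      rw [← S.sq_one_iff, ← pow_add]; exact h18
    obtain ⟨i, hi⟩ := S.trans (c₁ ^ 4) z hz₁ hz h14 hz1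
    refine ⟨(S.ξ ^ i) c₁, h88_pow_mem_cent S C Φ i c₁ hc₁, ?_, ?_⟩
    · rw [← map_pow, h18, map_one]
    · rw [← map_pow, hi]

/-- idempotency of all `f y` -/
theorem h88_idem {P : Type*} [Group P] (S : SuzNF P) (C : Cfg S) {F : Type*} [Field F]
    (Φ : FMap S C F) (h8 : ∃ c ∈ Subgroup.centralizer (C.M : Set P), c ^ 4 ≠ 1)
    (y : P) (x : F) : Φ.f y (Φ.f y x) = Φ.f y x := by
  obtain ⟨z, hz, rfl⟩ := Φ.e_surj x
  obtain ⟨c, hc, hc8, hc4⟩ := h88_fourth_power S C Φ h8 z hz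
  set Cn : Subgroup P := Subgroup.centralizer (C.M : Set P) with hCn
  -- m = c * c ∈ M, m * m = z
  have hmC : c * c ∈ Cn := Cn.mul_mem hc hc
  have hm : c * c ∈ C.M := by
    apply C.mem_of_pow_four _ hmC
    have : (c * c) ^ 4 = c ^ 8 := by rw [← pow_two, ← pow_mul]
    rw [this, hc8]
  have hmm : c * c * (c * c) = z := by
    rw [← hc4, h88_pow_four]
  -- k = ⁅c, y⁆, d = y c y⁻¹
  set k : P := ⁅c, y⁆ with hk
  have hkC : k ∈ Cn := C.comm_mem_cent c y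
  set d : P := y * c * y⁻¹ with hd
  have hkd : k = c * d⁻¹ := by
    rw [hk, hd, commutatorElement_def]; group
  have hdC : d ∈ Cn := by
    have : d = k⁻¹ * c := by rw [hkd]; group
    rw [this]
    exact Cn.mul_mem (Cn.inv_mem hkC) hc
  have hcd : c * d = d * c := C.cent_comm c hc d hdC
  have hcd' : d⁻¹ * c = c * d⁻¹ := by
    calc d⁻¹ * c = d⁻¹ * (c * d) * d⁻¹ := by group
      _ = d⁻¹ * (d * c) * d⁻¹ := by rw [hcd]
      _ = c * d⁻¹ := by group
  have hyy : y * y * c = c * (y * y) := C.cent_comm _ (C.sq_mem_cent y) c hc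
  have hyd : y * d * y⁻¹ = c := by
    calc y * d * y⁻¹ = (y * y * c) * (y * y)⁻¹ := by rw [hd]; group
      _ = c * (y * y) * (y * y)⁻¹ := by rw [hyy]
      _ = c := by group
  have hyc : y * c⁻¹ * y⁻¹ = d⁻¹ := by rw [hd]; group
  -- ⁅m, y⁆ = k * k
  have h1 : ⁅c * c, y⁆ = k * k := by
    have e1 : ⁅c * c, y⁆ = c * c * (y * c⁻¹ * y⁻¹) * (y * c⁻¹ * y⁻¹) := by
      rw [commutatorElement_def]; group
    rw [e1, hyc, hkd]
    calc c * c * d⁻¹ * d⁻¹ = c * (c * d⁻¹) * d⁻¹ := by group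
      _ = c * (d⁻¹ * c) * d⁻¹ := by rw [hcd']
      _ = c * d⁻¹ * (c * d⁻¹) := by group
  -- ⁅k, y⁆ = k * k
  have h2 : ⁅k, y⁆ = k * k := by
    have e1 : ⁅k, y⁆ = k * ((y * d * y⁻¹) * (y * c⁻¹ * y⁻¹)) := by
      rw [commutatorElement_def]
      nth_rewrite 2 [hkd]
      group
    rw [e1, hyd, hyc, ← hkd]
  -- k ∈ M
  have hwZ : k * k ∈ Subgroup.center P := by
    rw [← h1]; exact C.comm_mem _ hm y
  have hkM : k ∈ C.M := by
    apply C.mem_of_pow_four _ hkC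
    have : k ^ 4 = k * k * (k * k) := h88_pow_four k
    rw [this]
    exact (S.sq_one_iff _).mpr hwZ
  -- conclude
  have e1 : Φ.f y (Φ.e z) = Φ.e (k * k) := by
    rw [← hmm, Φ.f_spec y _ hm, h1]
  rw [e1, Φ.f_spec y _ hkM, h2]

/-- some `f y` is non-zero -/
theorem h88_exists_ne_zero {P : Type*} [Group P] (S : SuzNF P) (C : Cfg S) {F : Type*} [Field F]
    (Φ : FMap S C F) (h8 : ∃ c ∈ Subgroup.centralizer (C.M : Set P), c ^ 4 ≠ 1) :
    ∃ y x, Φ.f y x ≠ 0 := by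
  by_contra hcon
  push Not at hcon
  obtain ⟨c, hc, hc4⟩ := h8
  apply hc4
  have hall : ∀ y : P, y ∈ Subgroup.centralizer (C.M : Set P) := fun y =>
    (Φ.f_eq_zero y).mp (hcon y)
  have hcen : c ∈ Subgroup.center P := by
    rw [Subgroup.mem_center_iff]
    intro g
    exact C.cent_comm g (hall g) c (hall c)
  have h1 : c * c = 1 := (S.sq_one_iff c).mpr hcen
  have : c ^ 4 = c * c * (c * c) := h88_pow_four c
  rw [this, h1, one_mul]

theorem h88_odd_N (n : ℕ) (hn : 2 ≤ n) : Nat.Coprime (2 ^ n - 1) 2 := by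
  have h1 : 2 ^ n = 2 * 2 ^ (n - 1) := by
    rw [← pow_succ']; congr 1; omega
  have h2 : 0 < 2 ^ (n - 1) := Nat.pos_of_ne_zero (by positivity)
  rw [Nat.coprime_two_right]
  exact ⟨2 ^ (n - 1) - 1, by omega⟩

/-- (D3) with the monomial statement as a hypothesis -/
theorem case_exp8_of_mono {P : Type*} [Group P] (S : SuzNF P) (C : Cfg S) {F : Type*} [Field F]
    [Fintype F] [CharP F 2] (hq : Fintype.card F = 2 ^ S.n) (Φ : FMap S C F)
    (h8 : ∃ c ∈ Subgroup.centralizer (C.M : Set P), c ^ 4 ≠ 1)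
    (hmono : ∀ c : ℕ → F, (fun x => LinPoly.L S.n c x) ∈ Set.range Φ.f → ∀ b : ℕ, b < S.n →
      c b ≠ 0 → b ≠ 0 ∧ ∀ g : F, (fun x => g * x ^ (2 ^ b)) ∈ Set.range Φ.f) : False := by
  obtain ⟨y₀, x₀, hne⟩ := h88_exists_ne_zero S C Φ h8
  obtain ⟨c, hc⟩ := LinPoly.L_exists hq (Φ.f y₀) (Φ.f_add y₀)
  have hb : ∃ b, b < S.n ∧ c b ≠ 0 := by
    by_contra hcon
    push Not at hcon
    apply hne
    rw [hc x₀]
    unfold LinPoly.L
    apply Finset.sum_eq_zero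
    intro i hi
    rw [hcon i (Finset.mem_range.mp hi), zero_mul]
  obtain ⟨b, hbn, hcb⟩ := hb
  obtain ⟨hb0, hall⟩ := hmono c ⟨y₀, funext hc⟩ b hbn hcb
  obtain ⟨y₁, hy₁⟩ := hall 1
  have hid := h88_idem S C Φ h8 y₁ Φ.lam
  rw [hy₁] at hid
  simp only [one_mul] at hid
  -- lam ≠ 0
  have hNpos : 0 < 2 ^ S.n - 1 := by
    have : 2 ^ 2 ≤ 2 ^ S.n := Nat.pow_le_pow_right (by norm_num) S.hn
    omega
  have hlam0 : Φ.lam ≠ 0 := by
    intro h0
    have h1 := Φ.order_lam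
    rw [h0] at h1
    have h2 : orderOf (0 : F) = 0 := by
      rw [orderOf_eq_zero_iff']
      intro k hk
      rw [zero_pow (by omega)]
      exact zero_ne_one
    omega
  have hbpos : 1 ≤ 2 ^ b := Nat.one_le_two_pow
  set u : F := Φ.lam ^ (2 ^ b) with hu
  have hu0 : u ≠ 0 := pow_ne_zero _ hlam0
  have h3 : u ^ (2 ^ b - 1) = 1 := by
    have h4 : u ^ (2 ^ b - 1) * u = u := by
      rw [← pow_succ, Nat.sub_add_cancel hbpos]; exact hid
    have h5 : u ^ (2 ^ b - 1) * u = 1 * u := by rw [h4, one_mul]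
    exact mul_right_cancel₀ hu0 h5
  have h6 : Φ.lam ^ (2 ^ b * (2 ^ b - 1)) = 1 := by
    rw [pow_mul]; exact h3
  have h7 : (2 ^ S.n - 1) ∣ 2 ^ b * (2 ^ b - 1) := by
    rw [← Φ.order_lam]; exact orderOf_dvd_of_pow_eq_one h6
  have h8' : (2 ^ S.n - 1) ∣ (2 ^ b - 1) :=
    Nat.Coprime.dvd_of_dvd_mul_left (Nat.Coprime.pow_right b (h88_odd_N S.n S.hn)) h7
  have h9 : 2 ^ b < 2 ^ S.n := Nat.pow_lt_pow_right (by norm_num) hbn
  have h10 : 2 ≤ 2 ^ b := by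
    calc 2 = 2 ^ 1 := by norm_num
      _ ≤ 2 ^ b := Nat.pow_le_pow_right (by norm_num) (Nat.one_le_iff_ne_zero.mpr hb0)
  have h11 := Nat.le_of_dvd (by omega) h8'
  omega

/-- the four closure properties of `Set.range Φ.f` needed by the field lemma (C) -/
theorem h88_range_zero {P : Type*} [Group P] (S : SuzNF P) (C : Cfg S) {F : Type*} [Field F]
    (Φ : FMap S C F) : (fun _ => (0 : F)) ∈ Set.range Φ.f :=
  ⟨1, funext (h88_f_one S C Φ)⟩

theorem h88_range_add {P : Type*} [Group P] (S : SuzNF P) (C : Cfg S) {F : Type*} [Field F]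
    (Φ : FMap S C F) : ∀ f ∈ Set.range Φ.f, ∀ g ∈ Set.range Φ.f,
      (fun x => f x + g x) ∈ Set.range Φ.f := by
  rintro f ⟨y, rfl⟩ g ⟨y', rfl⟩
  exact ⟨y * y', funext fun x => Φ.f_mul y y' x⟩

theorem h88_range_T {P : Type*} [Group P] (S : SuzNF P) (C : Cfg S) {F : Type*} [Field F]
    (Φ : FMap S C F) : ∀ f ∈ Set.range Φ.f,
      (fun x => Φ.lam * f (Φ.lam⁻¹ * x)) ∈ Set.range Φ.f := by
  rintro f ⟨y, rfl⟩
  exact ⟨S.ξ y, funext fun x => Φ.f_ξ y x⟩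

theorem h88_range_fpf {P : Type*} [Group P] (S : SuzNF P) (C : Cfg S) {F : Type*} [Field F]
    (Φ : FMap S C F) : ∀ f ∈ Set.range Φ.f, ∀ i : ℕ, 0 < i → i < 2 ^ S.n - 1 →
      (∀ x, Φ.lam ^ i * f ((Φ.lam ^ i)⁻¹ * x) = f x) → ∀ x, f x = 0 := by
  rintro f ⟨y, rfl⟩ i hi hi' h
  exact fmap_fpf S C Φ y i hi hi' h

end Cfsg.Agent.Helper88.Hig
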