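import Mathlib
import Cfsg.Prelude.Def_LieRecognition
import Cfsg.Agent.Lib.Helper87.LinPoly
import Cfsg.Agent.Lib.Helper1.Hig.Defs
import Cfsg.Agent.Lib.Helper98.HigC
import Cfsg.Agent.Lib.Helper88.HigD3a

set_option autoImplicit false

/-!
# HIG (D3): `C_P(M)` has no element of order 8 (piece of helper1's lemma server HIG)
-/

namespace Cfsg.Agent.Helper88.Hig

open Cfsg.Agent.Helper1.Hig Cfsg.Agent.Helper87
open scoped commutatorElement

theorem case_exp8 {P : Type*} [Group P] (S : SuzNF P) (C : Cfg S) {F : Type*} [Field F] [Fintype F]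
    [CharP F 2] (hq : Fintype.card F = 2 ^ S.n) (Φ : FMap S C F)
    (h8 : ∃ c ∈ Subgroup.centralizer (C.M : Set P), c ^ 4 ≠ 1) : False := by
  refine case_exp8_of_mono S C hq Φ h8 ?_
  intro c hc b hb hcb
  obtain ⟨h1, _, h3⟩ := Cfsg.Agent.Helper98.Hig.mono_components S.hn hq Φ.lam Φ.order_lam
    (Set.range Φ.f) (h88_range_zero S C Φ) (h88_range_add S C Φ) (h88_range_T S C Φ)
    (h88_range_fpf S C Φ) c hc b hb hcb
  exact ⟨h1, h3⟩

end Cfsg.Agent.Helper88.Hig
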