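import Mathlib
import Cfsg.Agent.S1017

/-!
# Order 5460, part B (helper88): counting elements of order `p * r` (and of order `p`).
-/

set_option autoImplicit false

namespace Cfsg.Agent.Helper88.SV

open Cfsg MulAction

universe u

/-- Two Sylow `p`-subgroups of prime order `p` sharing a nontrivial element are equal. -/
theorem h88_sylow_eq_of_mem {G : Type u} [Group G] [Finite G] {p : ℕ} [hp : Fact p.Prime]
    (hP : ∀ P : Sylow p G, Nat.card (P : Subgroup G) = p) (P Q : Sylow p G) (z : G) (hz1 : z ≠ 1)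
    (hzP : z ∈ (P : Subgroup G)) (hzQ : z ∈ (Q : Subgroup G)) : P = Q := by
  have hord : orderOf z = p := by
    have h1 : orderOf z ∣ p := by
      have := Subgroup.orderOf_dvd_natCard (P : Subgroup G) hzP
      rwa [hP P] at this
    rcases (Nat.dvd_prime hp.out).mp h1 with h | h
    · exact absurd (orderOf_eq_one_iff.mp h) hz1
    · exact h
  have h1 : Subgroup.zpowers z = (P : Subgroup G) :=
    Subgroup.eq_of_le_of_card_ge (Subgroup.zpowers_le.mpr hzP) (by rw [hP P, Nat.card_zpowers, hord])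
  have h2 : Subgroup.zpowers z = (Q : Subgroup G) :=
    Subgroup.eq_of_le_of_card_ge (Subgroup.zpowers_le.mpr hzQ) (by rw [hP Q, Nat.card_zpowers, hord])
  exact Sylow.ext (h1.symm.trans h2)

/-- If all Sylow `p`-subgroups have order `p` and a prime `r ≠ p` divides the order of the centralizer
of each of them, there are at least `n_p (p - 1) (r - 1)` elements of order `p r`. -/
theorem h88_card_orderOf_mul_ge {G : Type u} [Group G] [Finite G] {p r : ℕ} [hp : Fact p.Prime]
    (hr : r.Prime) (hpr : p ≠ r)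
    (hP : ∀ P : Sylow p G, Nat.card (P : Subgroup G) = p)
    (hC : ∀ P : Sylow p G, r ∣ Nat.card (Subgroup.centralizer ((P : Subgroup G) : Set G))) :
    Nat.card (Sylow p G) * ((p - 1) * (r - 1)) ≤ Nat.card {g : G // orderOf g = p * r} := by
  classical
  haveI : Fact r.Prime := ⟨hr⟩
  have hcop : Nat.Coprime p r := (Nat.coprime_primes hp.out hr).mpr hpr
  -- choose an element of order `r` in each centralizer
  have hex : ∀ P : Sylow p G, ∃ u : G, u ∈ Subgroup.centralizer ((P : Subgroup G) : Set G) ∧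
      orderOf u = r := by
    intro P
    obtain ⟨u', hu'⟩ := exists_prime_orderOf_dvd_card'
      (G := ↥(Subgroup.centralizer ((P : Subgroup G) : Set G))) r (hC P)
    exact ⟨(u' : G), u'.2, by rw [Subgroup.orderOf_coe]; exact hu'⟩
  choose u huC hur using hex
  -- orders
  have hordx : ∀ (P : Sylow p G) (x : G), x ∈ (P : Subgroup G) → x ≠ 1 → orderOf x = p := by
    intro P x hx hx1
    have h1 : orderOf x ∣ p := by
      have := Subgroup.orderOf_dvd_natCard (P : Subgroup G) hx
      rwa [hP P] at this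
    rcases (Nat.dvd_prime hp.out).mp h1 with h | h
    · exact absurd (orderOf_eq_one_iff.mp h) hx1
    · exact h
  have hordv : ∀ (P : Sylow p G) (j : Fin (r - 1)), orderOf (u P ^ (j.1 + 1)) = r := by
    intro P j
    have hj : j.1 + 1 < r := by have := j.2; omega
    rw [orderOf_pow, hur P]
    have hg : Nat.gcd r (j.1 + 1) = 1 :=
      (Nat.Prime.coprime_iff_not_dvd hr).mpr (Nat.not_dvd_of_pos_of_lt (by omega) hj)
    rw [hg, Nat.div_one]
  have hcomm : ∀ (P : Sylow p G) (x : G) (k : ℕ), x ∈ (P : Subgroup G) → Commute x (u P ^ k) := by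
    intro P x k hx
    have h1 : Commute x (u P) := by
      have := Subgroup.mem_centralizer_iff.mp (huC P) x hx
      exact this
    exact h1.pow_right k
  -- the map
  let f : (Σ P : Sylow p G, {x : ↥(P : Subgroup G) // x ≠ 1} × Fin (r - 1)) →
      {g : G // orderOf g = p * r} := fun s =>
    ⟨(s.2.1.1 : G) * u s.1 ^ (s.2.2.1 + 1), by
      have hx1 : (s.2.1.1 : G) ≠ 1 := fun h => s.2.1.2 (Subtype.ext h)
      have h1 := hordx s.1 (s.2.1.1 : G) s.2.1.1.2 hx1
      have h2 := hordv s.1 s.2.2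
      have h3 := (hcomm s.1 (s.2.1.1 : G) (s.2.2.1 + 1) s.2.1.1.2).orderOf_mul_eq_mul_orderOf_of_coprime
        (by rw [h1, h2]; exact hcop)
      rw [h3, h1, h2]⟩
  have hf : Function.Injective f := by
    rintro ⟨P, ⟨⟨x, hxP⟩, hx1⟩, j⟩ ⟨Q, ⟨⟨y, hyQ⟩, hy1⟩, i⟩ h
    have h0 : x * u P ^ (j.1 + 1) = y * u Q ^ (i.1 + 1) := congrArg Subtype.val h
    have hx1' : x ≠ 1 := fun h => hx1 (Subtype.ext h)
    have hy1' : y ≠ 1 := fun h => hy1 (Subtype.ext h)
    -- r-th powers
    have hpowx : (x * u P ^ (j.1 + 1)) ^ r = x ^ r := by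
      rw [(hcomm P x (j.1 + 1) hxP).mul_pow, ← pow_mul, mul_comm (j.1 + 1) r, pow_mul]
      have : u P ^ r = 1 := by rw [← hur P]; exact pow_orderOf_eq_one _
      rw [this, one_pow, mul_one]
    have hpowy : (y * u Q ^ (i.1 + 1)) ^ r = y ^ r := by
      rw [(hcomm Q y (i.1 + 1) hyQ).mul_pow, ← pow_mul, mul_comm (i.1 + 1) r, pow_mul]
      have : u Q ^ r = 1 := by rw [← hur Q]; exact pow_orderOf_eq_one _
      rw [this, one_pow, mul_one]
    have hxr : x ^ r = y ^ r := by rw [← hpowx, ← hpowy, h0]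
    have hxr1 : x ^ r ≠ 1 := by
      intro h1
      have := orderOf_dvd_of_pow_eq_one h1
      rw [hordx P x hxP hx1'] at this
      exact hpr ((Nat.prime_dvd_prime_iff_eq hp.out hr).mp this)
    have hPQ : P = Q := h88_sylow_eq_of_mem hP P Q (x ^ r) hxr1 (Subgroup.pow_mem _ hxP r)
      (by rw [hxr]; exact Subgroup.pow_mem _ hyQ r)
    subst hPQ
    -- now `x⁻¹ y` is both a `p`-element and an `r`-element
    have hw : x⁻¹ * y = u P ^ (j.1 + 1) * (u P ^ (i.1 + 1))⁻¹ := by
      have : y = x * u P ^ (j.1 + 1) * (u P ^ (i.1 + 1))⁻¹ := by rw [h0]; group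
      rw [this]; group
    have hw1 : x⁻¹ * y = 1 := by
      have hwP : x⁻¹ * y ∈ (P : Subgroup G) := Subgroup.mul_mem _ (Subgroup.inv_mem _ hxP) hyQ
      have ho1 : orderOf (x⁻¹ * y) ∣ p := by
        have := Subgroup.orderOf_dvd_natCard (P : Subgroup G) hwP
        rwa [hP P] at this
      have ho2 : orderOf (x⁻¹ * y) ∣ r := by
        apply orderOf_dvd_of_pow_eq_one
        rw [hw]
        have hc : Commute (u P ^ (j.1 + 1)) ((u P ^ (i.1 + 1))⁻¹) :=
          ((Commute.refl (u P)).pow_pow _ _).inv_right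
        rw [hc.mul_pow, inv_pow, ← pow_mul, ← pow_mul, mul_comm (j.1 + 1) r, mul_comm (i.1 + 1) r,
          pow_mul, pow_mul]
        have : u P ^ r = 1 := by rw [← hur P]; exact pow_orderOf_eq_one _
        rw [this]; simp
      have : orderOf (x⁻¹ * y) ∣ Nat.gcd p r := Nat.dvd_gcd ho1 ho2
      rw [hcop] at this
      exact orderOf_eq_one_iff.mp (Nat.dvd_one.mp this)
    have hxy : x = y := by
      have : y = x * (x⁻¹ * y) := by group
      rw [this, hw1, mul_one]
    subst hxy
    have hv : u P ^ (j.1 + 1) = u P ^ (i.1 + 1) := mul_left_cancel h0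
    have hji : j.1 + 1 = i.1 + 1 := by
      have hj : j.1 + 1 < orderOf (u P) := by rw [hur P]; have := j.2; omega
      have hi : i.1 + 1 < orderOf (u P) := by rw [hur P]; have := i.2; omega
      exact pow_injOn_Iio_orderOf (Set.mem_Iio.mpr hj) (Set.mem_Iio.mpr hi) hv
    have hji' : j = i := Fin.ext (by omega)
    subst hji'
    rfl
  have hle := Nat.card_le_card_of_injective f hf
  have hcard : Nat.card (Σ P : Sylow p G, {x : ↥(P : Subgroup G) // x ≠ 1} × Fin (r - 1)) =
      Nat.card (Sylow p G) * ((p - 1) * (r - 1)) := by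
    haveI : Fintype (Sylow p G) := Fintype.ofFinite _
    rw [Nat.card_sigma]
    have : ∀ P : Sylow p G, Nat.card ({x : ↥(P : Subgroup G) // x ≠ 1} × Fin (r - 1)) =
        (p - 1) * (r - 1) := by
      intro P
      rw [Nat.card_prod, Cfsg.Agent.S1017.card_ne_subtype, hP P, Nat.card_fin]
    simp only [this, Finset.sum_const, Finset.card_univ, smul_eq_mul, Nat.card_eq_fintype_card]
  rw [hcard] at hle
  exact hle

/-- If all Sylow `p`-subgroups have order `p`, there are at least `n_p (p - 1)` elements of order `p`. -/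
theorem h88_card_orderOf_ge {G : Type u} [Group G] [Finite G] {p : ℕ} [hp : Fact p.Prime]
    (hP : ∀ P : Sylow p G, Nat.card (P : Subgroup G) = p) :
    Nat.card (Sylow p G) * (p - 1) ≤ Nat.card {g : G // orderOf g = p} := by
  classical
  let f : (Σ P : Sylow p G, {x : ↥(P : Subgroup G) // x ≠ 1}) → {g : G // orderOf g = p} := fun s =>
    ⟨(s.2.1 : G), by
      have hx1 : (s.2.1 : G) ≠ 1 := fun h => s.2.2 (Subtype.ext h)
      have h1 : orderOf (s.2.1 : G) ∣ p := by
        have := Subgroup.orderOf_dvd_natCard (s.1 : Subgroup G) s.2.1.2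
        rwa [hP s.1] at this
      rcases (Nat.dvd_prime hp.out).mp h1 with h | h
      · exact absurd (orderOf_eq_one_iff.mp h) hx1
      · exact h⟩
  have hf : Function.Injective f := by
    rintro ⟨P, ⟨x, hxP⟩, hx1⟩ ⟨Q, ⟨y, hyQ⟩, hy1⟩ h
    have h0 : x = y := congrArg Subtype.val h
    subst h0
    have hx1' : x ≠ 1 := fun h => hx1 (Subtype.ext h)
    have hPQ : P = Q := h88_sylow_eq_of_mem hP P Q x hx1' hxP hyQ
    subst hPQ
    rfl
  have hle := Nat.card_le_card_of_injective f hf
  have hcard : Nat.card (Σ P : Sylow p G, {x : ↥(P : Subgroup G) // x ≠ 1}) =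
      Nat.card (Sylow p G) * (p - 1) := by
    haveI : Fintype (Sylow p G) := Fintype.ofFinite _
    rw [Nat.card_sigma]
    have : ∀ P : Sylow p G, Nat.card {x : ↥(P : Subgroup G) // x ≠ 1} = p - 1 := by
      intro P
      rw [Cfsg.Agent.S1017.card_ne_subtype, hP P]
    simp only [this, Finset.sum_const, Finset.card_univ, smul_eq_mul, Nat.card_eq_fintype_card]
  rw [hcard] at hle
  exact hle

end Cfsg.Agent.Helper88.SV
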