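import Mathlib

/-!
# Definitions for the PSP4F lemma server (S5320, helper88)

`Sp4 = Matrix.symplecticGroup (Fin 2) F` (4×4 matrices indexed by `Fin 2 ⊕ Fin 2`, `A * J * Aᵀ = J`,
`J = fromBlocks 0 (-1) 1 0`), `V = V₁ ⟂ V₂` with `V₁ = ⟨inl 0, inr 0⟩`, `V₂ = ⟨inl 1, inr 1⟩`.

* `emb (A, B)`  : `SL₂ × SL₂ →* Sp4`, `A` acting on `V₁`, `B` on `V₂`;
* `w`           : the swap `V₁ ↔ V₂`;  `nI = -1`;  `z1 = emb (-1, 1)`;
* `i0 = !![0,1;-1,0]`, `j0 c = !![x,y;y,-x]` (`x² + y² = -1`), `To = C_{SL₂}(i0)` (rotation torus,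
  the matrices `rot a b = !![a,b;-b,a]` with `a² + b² = 1`), `P2` = its 2-elements,
  `Q c = P2 ⟨j0 c⟩` (generalized quaternion, a Sylow 2-subgroup of `SL₂(F)`);
* `Sh c = (Q × Q) ⟨w⟩` (a Sylow 2-subgroup of `Sp4`);
* `R1 c = ⟨emb (i0,i0), emb (j0,j0), z1, w⟩` (`≅ 2^{1+4}_-` when `Q = Q₈`);
* `om c = (-1 + i0 + j0 + i0 j0)/2` (order 3, normalizes `Q₈ = ⟨i0, j0⟩`),
  `th c = ((1 + i0)/2) ⊗ Had`, `th' c = ((1 + j0)/2) ⊗ Had`, `Had = !![1,1;1,-1]` on the `V₁/V₂` index.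
-/

set_option autoImplicit false

namespace Cfsg.Agent.Helper88.Psp4

open Matrix

variable {F : Type*} [Field F]

/-- the parameters: `x² + y² = -1` and `2 ≠ 0` -/
structure Par (F : Type*) [Field F] where
  x : F
  y : F
  hxy : x * x + y * y = -1
  h2 : (2 : F) ≠ 0

/-- rotation matrix -/
def rot (a b : F) : Matrix (Fin 2) (Fin 2) F := !![a, b; -b, a]

/-- block embedding of a pair of 2×2 matrices: `X` on `⟨inl 0, inr 0⟩`, `Y` on `⟨inl 1, inr 1⟩` -/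
def embM (X Y : Matrix (Fin 2) (Fin 2) F) : Matrix (Fin 2 ⊕ Fin 2) (Fin 2 ⊕ Fin 2) F :=
  fromBlocks !![X 0 0, 0; 0, Y 0 0] !![X 0 1, 0; 0, Y 0 1]
    !![X 1 0, 0; 0, Y 1 0] !![X 1 1, 0; 0, Y 1 1]

theorem embM_mul (X Y X' Y' : Matrix (Fin 2) (Fin 2) F) :
    embM X Y * embM X' Y' = embM (X * X') (Y * Y') := by
  unfold embM
  rw [fromBlocks_multiply]
  congr 1 <;>
  · ext i j
    fin_cases i <;> fin_cases j <;> simp [Matrix.mul_apply, Fin.sum_univ_two]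

theorem embM_one : embM (1 : Matrix (Fin 2) (Fin 2) F) 1 = 1 := by
  unfold embM
  rw [← fromBlocks_one]
  congr 1 <;>
  · ext i j
    fin_cases i <;> fin_cases j <;> simp

theorem embM_mem (X Y : Matrix (Fin 2) (Fin 2) F) (hX : X.det = 1) (hY : Y.det = 1) :
    embM X Y ∈ Matrix.symplecticGroup (Fin 2) F := by
  unfold embM
  rw [SymplecticGroup.fromBlocks_mem_iff]
  rw [det_fin_two] at hX hY
  refine ⟨?_, ?_, ?_⟩
  · ext i j
    fin_cases i <;> fin_cases j <;> simp [Matrix.mul_apply, Fin.sum_univ_two, mul_comm]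
  · ext i j
    fin_cases i <;> fin_cases j <;> simp [Matrix.mul_apply, Fin.sum_univ_two, mul_comm]
  · ext i j
    fin_cases i <;> fin_cases j <;> simp [Matrix.mul_apply, Fin.sum_univ_two]
    · linear_combination hX
    · linear_combination hY

/-- the embedding `SL₂ × SL₂ →* Sp4` -/
def emb : Matrix.SpecialLinearGroup (Fin 2) F × Matrix.SpecialLinearGroup (Fin 2) F →*
    ↥(Matrix.symplecticGroup (Fin 2) F) where
  toFun p := ⟨embM p.1.1 p.2.1, embM_mem _ _ p.1.2 p.2.2⟩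
  map_one' := Subtype.ext embM_one
  map_mul' _ _ := Subtype.ext (embM_mul _ _ _ _).symm

@[simp] theorem emb_val (A B : Matrix.SpecialLinearGroup (Fin 2) F) :
    ((emb (A, B) : ↥(Matrix.symplecticGroup (Fin 2) F)) :
      Matrix (Fin 2 ⊕ Fin 2) (Fin 2 ⊕ Fin 2) F) = embM A.1 B.1 := rfl

/-- the swap of the two hyperbolic planes, as a matrix -/
def wM : Matrix (Fin 2 ⊕ Fin 2) (Fin 2 ⊕ Fin 2) F :=
  fromBlocks !![0, 1; 1, 0] 0 0 !![0, 1; 1, 0]

theorem wM_mem : (wM : Matrix (Fin 2 ⊕ Fin 2) (Fin 2 ⊕ Fin 2) F) ∈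
    Matrix.symplecticGroup (Fin 2) F := by
  unfold wM
  rw [SymplecticGroup.fromBlocks_mem_iff]
  refine ⟨by simp, by simp, ?_⟩
  ext i j
  fin_cases i <;> fin_cases j <;> simp [Matrix.mul_apply, Fin.sum_univ_two]

/-- the swap of the two hyperbolic planes -/
def w : ↥(Matrix.symplecticGroup (Fin 2) F) := ⟨wM, wM_mem⟩

@[simp] theorem w_val : ((w : ↥(Matrix.symplecticGroup (Fin 2) F)) :
    Matrix (Fin 2 ⊕ Fin 2) (Fin 2 ⊕ Fin 2) F) = wM := rfl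

theorem wM_mul_wM : (wM : Matrix (Fin 2 ⊕ Fin 2) (Fin 2 ⊕ Fin 2) F) * wM = 1 := by
  unfold wM
  rw [fromBlocks_multiply, ← fromBlocks_one]
  congr 1 <;>
  · ext i j
    fin_cases i <;> fin_cases j <;> simp [Matrix.mul_apply, Fin.sum_univ_two]

theorem w_mul_w : (w : ↥(Matrix.symplecticGroup (Fin 2) F)) * w = 1 := Subtype.ext wM_mul_wM

theorem w_inv : (w : ↥(Matrix.symplecticGroup (Fin 2) F))⁻¹ = w :=
  inv_eq_of_mul_eq_one_left w_mul_w

theorem wM_mul_embM (X Y : Matrix (Fin 2) (Fin 2) F) : wM * embM X Y = embM Y X * wM := by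
  unfold wM embM
  rw [fromBlocks_multiply, fromBlocks_multiply]
  congr 1 <;>
  · ext i j
    fin_cases i <;> fin_cases j <;> simp [Matrix.mul_apply, Fin.sum_univ_two]

theorem w_mul_emb (A B : Matrix.SpecialLinearGroup (Fin 2) F) :
    w * emb (A, B) = emb (B, A) * w := Subtype.ext (wM_mul_embM _ _)

/-- `-1 ∈ Sp4` -/
def nI : ↥(Matrix.symplecticGroup (Fin 2) F) :=
  ⟨-1, SymplecticGroup.neg_mem (Submonoid.one_mem _)⟩

@[simp] theorem nI_val : ((nI : ↥(Matrix.symplecticGroup (Fin 2) F)) :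
    Matrix (Fin 2 ⊕ Fin 2) (Fin 2 ⊕ Fin 2) F) = -1 := rfl

/-- `z1 = diag(-1 on V₁, 1 on V₂)` -/
def z1 : ↥(Matrix.symplecticGroup (Fin 2) F) := emb (-1, 1)

/-- `i0 = !![0,1;-1,0]` -/
def i0 : Matrix.SpecialLinearGroup (Fin 2) F := ⟨rot 0 1, by simp [rot, det_fin_two]⟩

@[simp] theorem i0_val : ((i0 : Matrix.SpecialLinearGroup (Fin 2) F) : Matrix (Fin 2) (Fin 2) F) =
    rot 0 1 := rfl

/-- `j0 = !![x,y;y,-x]` -/
def j0 (c : Par F) : Matrix.SpecialLinearGroup (Fin 2) F :=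
  ⟨!![c.x, c.y; c.y, -c.x], by rw [det_fin_two]; simp; linear_combination (-1 : F) * c.hxy⟩

@[simp] theorem j0_val (c : Par F) : ((j0 c : Matrix.SpecialLinearGroup (Fin 2) F) :
    Matrix (Fin 2) (Fin 2) F) = !![c.x, c.y; c.y, -c.x] := rfl

/-- the rotation torus `C_{SL₂}(i0)` -/
def To : Subgroup (Matrix.SpecialLinearGroup (Fin 2) F) := Subgroup.centralizer {i0}

/-- the 2-elements of the rotation torus (a subgroup since `To` is commutative, see `To_comm`) -/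
def P2 : Subgroup (Matrix.SpecialLinearGroup (Fin 2) F) :=
  Subgroup.closure {g | g ∈ To ∧ ∃ m : ℕ, g ^ (2 ^ m) = 1}

/-- `Q = P2 ⟨j0⟩`: generalized quaternion -/
def Q (c : Par F) : Subgroup (Matrix.SpecialLinearGroup (Fin 2) F) :=
  P2 ⊔ Subgroup.zpowers (j0 c)

/-- `Sh = (Q × Q) ⟨w⟩` -/
def Sh (c : Par F) : Subgroup ↥(Matrix.symplecticGroup (Fin 2) F) where
  carrier := {g | ∃ a ∈ Q c, ∃ b ∈ Q c, g = emb (a, b) ∨ g = emb (a, b) * w}
  one_mem' := ⟨1, Subgroup.one_mem _, 1, Subgroup.one_mem _, Or.inl (map_one emb).symm⟩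
  mul_mem' := by
    rintro g g' ⟨a, ha, b, hb, hg⟩ ⟨a', ha', b', hb', hg'⟩
    rcases hg with rfl | rfl <;> rcases hg' with rfl | rfl
    · exact ⟨a * a', Subgroup.mul_mem _ ha ha', b * b', Subgroup.mul_mem _ hb hb',
        Or.inl (by rw [← map_mul]; rfl)⟩
    · exact ⟨a * a', Subgroup.mul_mem _ ha ha', b * b', Subgroup.mul_mem _ hb hb',
        Or.inr (by rw [← mul_assoc, ← map_mul]; rfl)⟩
    · exact ⟨a * b', Subgroup.mul_mem _ ha hb', b * a', Subgroup.mul_mem _ hb ha',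
        Or.inr (by rw [mul_assoc, w_mul_emb, ← mul_assoc, ← map_mul]; rfl)⟩
    · refine ⟨a * b', Subgroup.mul_mem _ ha hb', b * a', Subgroup.mul_mem _ hb ha', Or.inl ?_⟩
      rw [mul_assoc, ← mul_assoc w, w_mul_emb, mul_assoc, w_mul_w, mul_one, ← map_mul]; rfl
  inv_mem' := by
    rintro g ⟨a, ha, b, hb, hg⟩
    rcases hg with rfl | rfl
    · exact ⟨a⁻¹, Subgroup.inv_mem _ ha, b⁻¹, Subgroup.inv_mem _ hb, Or.inl (by rw [← map_inv]; rfl)⟩
    · refine ⟨b⁻¹, Subgroup.inv_mem _ hb, a⁻¹, Subgroup.inv_mem _ ha, Or.inr ?_⟩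
      rw [_root_.mul_inv_rev, w_inv, ← map_inv, Prod.inv_mk, w_mul_emb]

theorem mem_Sh_iff (c : Par F) (g : ↥(Matrix.symplecticGroup (Fin 2) F)) :
    g ∈ Sh c ↔ ∃ a ∈ Q c, ∃ b ∈ Q c, g = emb (a, b) ∨ g = emb (a, b) * w := Iff.rfl

/-- `R1 = ⟨emb (i0,i0), emb (j0,j0), z1, w⟩` -/
def R1 (c : Par F) : Subgroup ↥(Matrix.symplecticGroup (Fin 2) F) :=
  Subgroup.closure {emb (i0, i0), emb (j0 c, j0 c), z1, w}

/-- `om = (-1 + i0 + j0 + i0 j0)/2`, of order 3 -/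
def om (c : Par F) : Matrix.SpecialLinearGroup (Fin 2) F :=
  ⟨!![(-1 + c.x + c.y) / 2, (1 + c.y - c.x) / 2; (-1 + c.y - c.x) / 2, (-1 - c.x - c.y) / 2], by
    rw [det_fin_two]
    simp only [of_apply, cons_val', cons_val_zero, cons_val_one, empty_val', cons_val_fin_one]
    have h2 := c.h2
    have h := c.hxy
    field_simp
    linear_combination (-2 : F) * h⟩

@[simp] theorem om_val (c : Par F) : ((om c : Matrix.SpecialLinearGroup (Fin 2) F) :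
    Matrix (Fin 2) (Fin 2) F) =
    !![(-1 + c.x + c.y) / 2, (1 + c.y - c.x) / 2; (-1 + c.y - c.x) / 2, (-1 - c.x - c.y) / 2] := rfl

/-- Kronecker-type matrix `h ⊗ Had`, `Had = !![1,1;1,-1]` on the `V₁/V₂` index -/
def hadM (h : Matrix (Fin 2) (Fin 2) F) : Matrix (Fin 2 ⊕ Fin 2) (Fin 2 ⊕ Fin 2) F :=
  fromBlocks (h 0 0 • !![1, 1; 1, -1]) (h 0 1 • !![1, 1; 1, -1])
    (h 1 0 • !![1, 1; 1, -1]) (h 1 1 • !![1, 1; 1, -1])

theorem hadM_mem (h : Matrix (Fin 2) (Fin 2) F) (hd : 2 * h.det = 1) :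
    hadM h ∈ Matrix.symplecticGroup (Fin 2) F := by
  unfold hadM
  rw [SymplecticGroup.fromBlocks_mem_iff]
  rw [det_fin_two] at hd
  refine ⟨?_, ?_, ?_⟩
  · ext i j
    fin_cases i <;> fin_cases j <;> simp [Matrix.mul_apply, Fin.sum_univ_two] <;> ring
  · ext i j
    fin_cases i <;> fin_cases j <;> simp [Matrix.mul_apply, Fin.sum_univ_two] <;> ring
  · ext i j
    fin_cases i <;> fin_cases j <;> simp [Matrix.mul_apply, Fin.sum_univ_two] <;>
      first | linear_combination hd | ring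

/-- `th = ((1 + i0)/2) ⊗ Had` -/
def th (c : Par F) : ↥(Matrix.symplecticGroup (Fin 2) F) :=
  ⟨hadM !![1 / 2, 1 / 2; -(1 / 2), 1 / 2], hadM_mem _ (by
    rw [det_fin_two]
    simp only [of_apply, cons_val', cons_val_zero, cons_val_one, empty_val', cons_val_fin_one]
    have h2 := c.h2
    field_simp
    ring)⟩

/-- `th' = ((1 + j0)/2) ⊗ Had` -/
def th' (c : Par F) : ↥(Matrix.symplecticGroup (Fin 2) F) :=
  ⟨hadM !![(1 + c.x) / 2, c.y / 2; c.y / 2, (1 - c.x) / 2], hadM_mem _ (by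
    rw [det_fin_two]
    simp only [of_apply, cons_val', cons_val_zero, cons_val_one, empty_val', cons_val_fin_one]
    have h2 := c.h2
    have h := c.hxy
    field_simp
    linear_combination (-1 : F) * h)⟩

@[simp] theorem th_val (c : Par F) : ((th c : ↥(Matrix.symplecticGroup (Fin 2) F)) :
    Matrix (Fin 2 ⊕ Fin 2) (Fin 2 ⊕ Fin 2) F) = hadM !![1 / 2, 1 / 2; -(1 / 2), 1 / 2] := rfl

@[simp] theorem th'_val (c : Par F) : ((th' c : ↥(Matrix.symplecticGroup (Fin 2) F)) :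
    Matrix (Fin 2 ⊕ Fin 2) (Fin 2 ⊕ Fin 2) F) =
    hadM !![(1 + c.x) / 2, c.y / 2; c.y / 2, (1 - c.x) / 2] := rfl

/-- the image of `Sh` in `PSp4 = Sp4 ⧸ centre` -/
def Sb (c : Par F) : Subgroup (↥(Matrix.symplecticGroup (Fin 2) F) ⧸
    Subgroup.center ↥(Matrix.symplecticGroup (Fin 2) F)) :=
  (Sh c).map (QuotientGroup.mk' (Subgroup.center ↥(Matrix.symplecticGroup (Fin 2) F)))

/-- the image of `R1` in `PSp4 = Sp4 ⧸ centre` -/
def Rb (c : Par F) : Subgroup (↥(Matrix.symplecticGroup (Fin 2) F) ⧸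
    Subgroup.center ↥(Matrix.symplecticGroup (Fin 2) F)) :=
  (R1 c).map (QuotientGroup.mk' (Subgroup.center ↥(Matrix.symplecticGroup (Fin 2) F)))

end Cfsg.Agent.Helper88.Psp4
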