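import Mathlib
import Cfsg.Agent.Lib.Helper2.SS0
import Cfsg.Agent.Lib.Helper2.SRC0
import Cfsg.Agent.Lib.Helper12.SSY1
import Cfsg.Agent.Lib.Helper41.SSY3
import Cfsg.Agent.Lib.Helper58.SSG1

/-!
# SS project (S2411, helper2 server): private helpers for (Y12a)/(Y12b) (helper88):
`y d` (the content of Y4), transvections along the orbit.
-/

set_option autoImplicit false

namespace Cfsg.Agent.Helper88.SS

open Matrix Cfsg Cfsg.Agent.Helper13 Cfsg.Agent.Helper84.SpRoot Cfsg.Agent.Helper5.SpAut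
open Cfsg.Agent.Helper2.SR Cfsg.Agent.Helper2.SS Cfsg.Agent.Helper41.SS

section Y
variable {F : Type*} [Field F] {m : ℕ}

theorem h88_dV_eq (α β ξ : F) :
    dV (m := m) α β ξ = be 1 - β • wpV ξ - (α * β) • wV := by
  rw [dV, wV, wpV]
  module

theorem h88_w_wp (ξ : F) :
    Cfsg.sympForm (m + 2) F (wV (m := m) (F := F)) (wpV (m := m) ξ) = -1 := by
  rw [sympForm_swap, h41_wp_w]

theorem h88_d_wp (α β ξ : F) :
    Cfsg.sympForm (m + 2) F (dV (m := m) α β ξ) (wpV ξ) = α * β - 1 := by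
  rw [h88_dV_eq, sympForm_sub_left, sympForm_sub_left, sympForm_smul_left, sympForm_smul_left,
    h41_wp_e1, sympForm_self, h88_w_wp]
  ring

theorem h88_d_w (α β ξ : F) :
    Cfsg.sympForm (m + 2) F (dV (m := m) α β ξ) (wV (m := m) (F := F)) = -β := by
  rw [h88_dV_eq, sympForm_sub_left, sympForm_sub_left, sympForm_smul_left, sympForm_smul_left,
    h41_w_e1, sympForm_self, h41_wp_w]
  ring

/-- private copy of (Y4) -/
theorem h88_y_d (α β ξ t : F) (ht : α * β = 2 - t) :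
    (yEl (m := m) α β ξ).val *ᵥ dV α β ξ = t • dV α β ξ - be 1 + (2 - t) • be 0 := by
  have ht' : t = 2 - α * β := by linear_combination ht
  subst ht'
  rw [yEl, mul_act, sympT_act (wpV ξ) β, h88_d_wp, sympT_act, sympForm_add_left,
    sympForm_smul_left, h41_wp_w, h88_d_w, h88_dV_eq, wV]
  module

theorem h88_d_e0 (α β ξ : F) :
    Cfsg.sympForm (m + 2) F (dV (m := m) α β ξ) (be 0) = 0 := by
  rw [h88_dV_eq, sympForm_sub_left, sympForm_sub_left, sympForm_smul_left, sympForm_smul_left,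
    sympForm_swap (wpV ξ), h41_wp_e0, sympForm_swap wV, h41_w_e0, (form_basis _ _).1]
  simp [be]

theorem h88_d_e1 (α β ξ : F) :
    Cfsg.sympForm (m + 2) F (dV (m := m) α β ξ) (be 1) = -β := by
  rw [h88_dV_eq, sympForm_sub_left, sympForm_sub_left, sympForm_smul_left, sympForm_smul_left,
    sympForm_swap (wpV ξ), h41_wp_e1, sympForm_swap wV, h41_w_e1, sympForm_self]
  ring

theorem h88_e1_e0 : Cfsg.sympForm (m + 2) F (be (m := m) (F := F) 1) (be 0) = 0 := by
  rw [(form_basis _ _).1]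
  simp [be]

theorem h88_c_e0 : (cEl m F).val *ᵥ be 0 = be 1 :=
  Cfsg.Agent.Helper12.SS.c_act.1 0 1 (by simp)

/-- transvections along the orbit -/
theorem h88_tv_orbit {H : Subgroup (Matrix.symplecticGroup (Fin (m + 2)) F)}
    {g : Matrix.symplecticGroup (Fin (m + 2)) F} (hg : g ∈ H) {e : Fin (m + 2) ⊕ Fin (m + 2) → F}
    {κ : F} (hκ : sympT e κ ∈ H) : sympT (g.val *ᵥ e) κ ∈ H := by
  rw [← conj_sympT]
  exact H.mul_mem (H.mul_mem hg hκ) (H.inv_mem hg)

end Y

end Cfsg.Agent.Helper88.SS
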