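import Mathlib
import Cfsg.Agent.Lib.Helper2.SS0
import Cfsg.Agent.Lib.Helper88.SSY4p

/-!
# SS project (S2411, helper2 server): piece (Y12b) `seed_char_two` (helper88)
-/

set_option autoImplicit false
set_option linter.unusedVariables false

namespace Cfsg.Agent.Helper88.SS

open Matrix Cfsg Cfsg.Agent.Helper13 Cfsg.Agent.Helper84.SpRoot Cfsg.Agent.Helper5.SpAut
open Cfsg.Agent.Helper2.SR Cfsg.Agent.Helper2.SS

section Y
variable {F : Type*} [Field F] {m : ℕ}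

/-- (Y12b) characteristic 2. -/
theorem seed_char_two {H : Subgroup (Matrix.symplecticGroup (Fin (m + 2)) F)} {ξ : F}
    (h2 : (2 : F) = 0) (hc : cEl m F ∈ H) (hy : yEl 1 1 ξ ∈ H)
    (hκ : sympT (be (m := m) 0) 1 ∈ H) :
    ∃ w0 ∈ QQ H (be (m := m) 0), Cfsg.sympForm (m + 2) F w0 (be 1) ≠ 0 := by
  have h1 : sympT (be (m := m) 1) (1 : F) ∈ H := by
    have := h88_tv_orbit hc hκ
    rwa [h88_c_e0] at this
  have hd : sympT (dV (m := m) 1 1 ξ) (1 : F) ∈ H := by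
    have := h88_tv_orbit hy h1
    rwa [(Cfsg.Agent.Helper41.SS.y_act 1 1 ξ).2.1] at this
  have hv1 : (sympT (be (m := m) 1) (1 : F)).val *ᵥ dV 1 1 ξ = dV 1 1 ξ - be 1 := by
    rw [sympT_act, h88_d_e1]
    module
  have hvT : sympT (dV (m := m) 1 1 ξ - be 1) (1 : F) ∈ H := by
    have := h88_tv_orbit h1 hd
    rwa [hv1] at this
  have hyd : sympT (dV (m := m) 1 1 ξ - be 1 + (1 : F) • be 0) (1 : F) ∈ H := by
    have := h88_tv_orbit hy hd
    rw [h88_y_d 1 1 ξ 1 (by norm_num)] at this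
    have hv : (1 : F) • dV (m := m) 1 1 ξ - be 1 + (2 - 1 : F) • be 0 =
        dV 1 1 ξ - be 1 + (1 : F) • be 0 := by
      module
    rwa [hv] at this
  have hve0 : Cfsg.sympForm (m + 2) F (dV (m := m) 1 1 ξ - be 1) (be 0) = 0 := by
    rw [sympForm_sub_left, h88_d_e0, h88_e1_e0, sub_zero]
  refine ⟨_, Cfsg.Agent.Helper58.SS.seed_gen hve0 hyd hvT, ?_⟩
  rw [sympForm_smul_left, sympForm_sub_left, h88_d_e1, sympForm_self]
  norm_num

end Y

end Cfsg.Agent.Helper88.SS
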