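import Mathlib
import Cfsg.Prelude.Def_Transfer
import Cfsg.Agent.Lib.Helper24.CYCDefs

/-!
# CYC piece (IIA) for helper24's server (S4016): `A = C_G(S)` is a complement to `P` in `N_G(P)`.
-/

set_option autoImplicit false

namespace Cfsg.Agent.Helper88.CYC

open Subgroup Cfsg.Agent.Helper24.CYC

universe u

variable {G : Type u} [Group G] [Finite G] {p : ℕ} [Fact p.Prime]

/-- elements of a Sylow 2-subgroup are `p'`-elements for odd `p` -/
theorem coprime_of_mem_sylow_two (hp2 : p ≠ 2) (S : Sylow 2 G) {s : G} (hs : s ∈ S) :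
    (orderOf s).Coprime p := by
  have hp : p.Prime := Fact.out
  obtain ⟨k, hk⟩ := S.2 ⟨s, hs⟩
  have h1 : s ^ 2 ^ k = 1 := by
    have := congrArg Subtype.val hk
    simpa using this
  have h2 : orderOf s ∣ 2 ^ k := orderOf_dvd_of_pow_eq_one h1
  have h3 : Nat.Coprime (2 ^ k) p :=
    Nat.Coprime.pow_left k ((Nat.coprime_primes Nat.prime_two hp).2 (Ne.symm hp2))
  exact Nat.Coprime.coprime_dvd_left h2 h3

/-- a Sylow 2-subgroup has order prime to an odd prime `p` -/
theorem not_dvd_card_sylow_two (hp2 : p ≠ 2) (S : Sylow 2 G) :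
    ¬ p ∣ Nat.card (S : Subgroup G) := by
  have hp : p.Prime := Fact.out
  haveI : Fact (Nat.Prime 2) := ⟨Nat.prime_two⟩
  obtain ⟨k, hk⟩ := IsPGroup.iff_card.1 S.2
  rw [hk]
  intro h
  have := (Nat.prime_dvd_prime_iff_eq hp Nat.prime_two).1 (hp.dvd_of_dvd_pow h)
  exact hp2 this

/-- a Sylow `p`-subgroup has odd order for odd `p` -/
theorem not_two_dvd_card_sylow (hp2 : p ≠ 2) (P : Sylow p G) :
    ¬ 2 ∣ Nat.card (P : Subgroup G) := by
  have hp : p.Prime := Fact.out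
  obtain ⟨k, hk⟩ := IsPGroup.iff_card.1 P.2
  rw [hk]
  intro h
  have := (Nat.prime_dvd_prime_iff_eq Nat.prime_two hp).1 (Nat.prime_two.dvd_of_dvd_pow h)
  exact hp2 this.symm

/-- the centraliser of `P` is normalised by `N_G(P)` -/
theorem conj_mem_CP (P : Sylow p G) {n t : G} (hn : n ∈ NP P) (ht : t ∈ CP P) :
    n⁻¹ * t * n ∈ CP P := by
  rw [Subgroup.mem_centralizer_iff] at ht ⊢
  intro h hh
  have h1 : n * h * n⁻¹ ∈ (P : Subgroup G) := (Subgroup.mem_normalizer_iff.1 hn h).1 hh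
  have h2 := ht _ h1
  calc h * (n⁻¹ * t * n) = n⁻¹ * ((n * h * n⁻¹) * t) * n := by group
    _ = n⁻¹ * (t * (n * h * n⁻¹)) * n := by rw [h2]
    _ = n⁻¹ * t * n * h := by group

/-- (IIA) -/
theorem caseII_compl (hC : Core p G) (S : Sylow 2 G) (hA : ¬ p ∣ Nat.card (ctr (S : Subgroup G)))
    (P : Sylow p G) (s : G) (hsS : s ∈ S) (hs1 : s ≠ 1) (hsC : s ∈ CP P) :
    ctr (S : Subgroup G) ≤ NP P ∧ Nat.card (ctr (S : Subgroup G)) * Nat.card P = Nat.card (NP P) ∧
      ∀ t ∈ CP P, (orderOf t).Coprime p → t ∈ ctr (S : Subgroup G) := by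
  classical
  have hp : p.Prime := Fact.out
  have hC1 := hC.c1
  have hM := hC1.min
  have hp2 : p ≠ 2 := hC1.podd
  -- `S` is abelian
  have hSab : ∀ a ∈ (S : Subgroup G), ∀ b ∈ (S : Subgroup G), a * b = b * a :=
    hM.ab _ (not_dvd_card_sylow_two hp2 S)
  -- a nontrivial element of `P`
  have hPne : (P : Subgroup G) ≠ ⊥ := P.ne_bot_of_dvd_card hM.pdvd
  obtain ⟨a, ha1⟩ := (Subgroup.ne_bot_iff_exists_ne_one.1 hPne)
  have haP' : (a : G) ∈ P := a.2
  have ha1' : (a : G) ≠ 1 := fun h => ha1 (Subtype.ext h)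
  -- `C_G(s) = N_G(P)`
  have hcomm : (a : G) * s = s * a := (Subgroup.mem_centralizer_iff.1 hsC) a haP'
  have hkey : Subgroup.centralizer {s} = NP P :=
    hC.key P a s haP' ha1' hs1 (coprime_of_mem_sylow_two hp2 S hsS) hcomm
  -- `A ≤ N`
  have hAN : ctr (S : Subgroup G) ≤ NP P := by
    intro x hx
    rw [← hkey, Subgroup.mem_centralizer_iff]
    intro h hh
    rw [Set.mem_singleton_iff] at hh
    subst hh
    exact (Subgroup.mem_centralizer_iff.1 hx) h hsS
  -- `S ≤ N`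
  have hSN : (S : Subgroup G) ≤ NP P := by
    intro t ht
    rw [← hkey, Subgroup.mem_centralizer_iff]
    intro h hh
    rw [Set.mem_singleton_iff] at hh
    subst hh
    exact hSab h hsS t ht
  -- the complement `K`
  obtain ⟨K, hKN, hKp, hKcard, hKC⟩ := hC1.compl P
  have hKab : ∀ a ∈ K, ∀ b ∈ K, a * b = b * a := hM.ab K hKp
  -- a fixed point of `S` on `N / K`
  have hfix : ∃ n ∈ NP P, ∀ t ∈ (S : Subgroup G), n⁻¹ * t * n ∈ K := by
    let N : Subgroup G := NP P
    let SN : Subgroup N := (S : Subgroup G).subgroupOf N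
    let KN : Subgroup N := K.subgroupOf N
    have hSNp : IsPGroup 2 SN := S.2.comap_subtype
    have hcardKN : Nat.card KN = Nat.card K :=
      Nat.card_congr (Subgroup.subgroupOfEquivOfLe hKN).toEquiv
    have hq : Nat.card (N ⧸ KN) = Nat.card (P : Subgroup G) := by
      have h1 := Subgroup.card_eq_card_quotient_mul_card_subgroup KN
      rw [hcardKN] at h1
      have h2 : Nat.card N = Nat.card K * Nat.card (P : Subgroup G) := hKcard.symm
      have hKpos : 0 < Nat.card K := Nat.card_pos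
      have : Nat.card (N ⧸ KN) * Nat.card K = Nat.card (P : Subgroup G) * Nat.card K := by
        rw [← h1, h2, mul_comm]
      exact Nat.eq_of_mul_eq_mul_right hKpos this
    have hnd : ¬ 2 ∣ Nat.card (N ⧸ KN) := by
      rw [hq]; exact not_two_dvd_card_sylow hp2 P
    haveI : Fact (Nat.Prime 2) := ⟨Nat.prime_two⟩
    obtain ⟨q, hqfix⟩ := hSNp.nonempty_fixed_point_of_prime_not_dvd_card (N ⧸ KN) hnd
    obtain ⟨n, rfl⟩ := QuotientGroup.mk_surjective q
    refine ⟨(n : G), n.2, ?_⟩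
    intro t ht
    have htN : t ∈ N := hSN ht
    have h1 := hqfix ⟨⟨t, htN⟩, by
      show (⟨t, htN⟩ : N) ∈ SN
      rw [Subgroup.mem_subgroupOf]; exact ht⟩
    have h2 : ((⟨t, htN⟩ * n : N) : N ⧸ KN) = (n : N ⧸ KN) := h1
    rw [QuotientGroup.eq] at h2
    have h3 : ((⟨t, htN⟩ * n : N)⁻¹ * n : N) ∈ KN := h2
    rw [Subgroup.mem_subgroupOf] at h3
    have h4 : (n : G)⁻¹ * t⁻¹ * n ∈ K := by
      have e : (((⟨t, htN⟩ * n : N)⁻¹ * n : N) : G) = (n : G)⁻¹ * t⁻¹ * n := by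
        simp [mul_assoc]
      rwa [e] at h3
    have h5 := K.inv_mem h4
    have e2 : ((n : G)⁻¹ * t⁻¹ * n)⁻¹ = (n : G)⁻¹ * t * n := by group
    rwa [e2] at h5
  obtain ⟨n, hnN, hn⟩ := hfix
  -- `n K n⁻¹ ≤ A`
  have hconjA : ∀ y ∈ K, n * y * n⁻¹ ∈ ctr (S : Subgroup G) := by
    intro y hy
    rw [Subgroup.mem_centralizer_iff]
    intro t ht
    have h1 := hKab _ (hn t ht) y hy
    calc t * (n * y * n⁻¹) = n * ((n⁻¹ * t * n) * y) * n⁻¹ := by group
      _ = n * (y * (n⁻¹ * t * n)) * n⁻¹ := by rw [h1]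
      _ = n * y * n⁻¹ * t := by group
  -- cardinalities
  have hle1 : Nat.card K ≤ Nat.card (ctr (S : Subgroup G)) := by
    have hmap : K.map (MulAut.conj n).toMonoidHom ≤ ctr (S : Subgroup G) := by
      rintro _ ⟨y, hy, rfl⟩
      exact hconjA y hy
    have h1 : Nat.card (K.map (MulAut.conj n).toMonoidHom) = Nat.card K :=
      Subgroup.card_map_of_injective (MulAut.conj n).injective
    rw [← h1]
    exact Subgroup.card_le_of_le hmap
  have hdvd : Nat.card (ctr (S : Subgroup G)) ∣ Nat.card K := by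
    have h1 : Nat.card (ctr (S : Subgroup G)) ∣ Nat.card (NP P) := Subgroup.card_dvd_of_le hAN
    obtain ⟨k, hk⟩ := IsPGroup.iff_card.1 P.2
    have hcop : Nat.Coprime (Nat.card (ctr (S : Subgroup G))) (Nat.card (P : Subgroup G)) := by
      rw [hk]
      exact Nat.Coprime.pow_right k ((Nat.Prime.coprime_iff_not_dvd hp).2 hA).symm
    rw [← hKcard] at h1
    exact hcop.dvd_of_dvd_mul_right h1
  have heq : Nat.card (ctr (S : Subgroup G)) = Nat.card K :=
    le_antisymm (Nat.le_of_dvd Nat.card_pos hdvd) hle1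
  refine ⟨hAN, by rw [heq]; exact hKcard, ?_⟩
  intro t ht hto
  have h1 : n⁻¹ * t * n ∈ CP P := conj_mem_CP P hnN ht
  have h2 : orderOf (n⁻¹ * t * n) = orderOf t := by
    have := orderOf_injective (MulAut.conj n⁻¹).toMonoidHom (MulAut.conj n⁻¹).injective t
    simpa [MulAut.conj_apply] using this
  have h3 : n⁻¹ * t * n ∈ K := hKC _ h1 (by rw [h2]; exact hto)
  have h4 := hconjA _ h3
  have e : n * (n⁻¹ * t * n) * n⁻¹ = t := by group
  rwa [e] at h4

end Cfsg.Agent.Helper88.CYC
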