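import Mathlib
import Cfsg.Prelude.Def_Transfer
import Cfsg.Agent.Lib.Helper24.CYCDefs
import Cfsg.Agent.Lib.Helper88.CYCIIA

/-!
# CYC piece (IIB2) for helper24's server (S4016): `|C_G(P)| = 2|P|`, `|N_G(P)| = 4|P|` in Case II.
-/

set_option autoImplicit false

namespace Cfsg.Agent.Helper88.CYC

open Subgroup Cfsg.Agent.Helper24.CYC

universe u

variable {G : Type u} [Group G] [Finite G] {p : ℕ} [Fact p.Prime]

/-- (IIB2) -/
theorem caseII_orders (hC : Core p G) (hp3 : p = 3) (S : Sylow 2 G) (hA : ¬ p ∣ Nat.card (ctr (S : Subgroup G)))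
    (P : Sylow p G) (s : G) (hsS : s ∈ S) (hs : s * s = 1) (hs1 : s ≠ 1) (hsC : s ∈ CP P)
    (hA1 : ctr (S : Subgroup G) ≤ NP P) (hA2 : Nat.card (ctr (S : Subgroup G)) * Nat.card P = Nat.card (NP P))
    (hA3 : ∀ t ∈ CP P, (orderOf t).Coprime p → t ∈ ctr (S : Subgroup G))
    (D : Subgroup G) (hDN : D ≤ nrm (S : Subgroup G)) (hDp : IsPGroup p D) (hD1 : D ≠ ⊥) :
    Nat.card (CP P) = 2 * Nat.card P ∧ Nat.card (NP P) = 4 * Nat.card P := by
  classical
  have hp : p.Prime := Fact.out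
  have hC1 := hC.c1
  have hM := hC1.min
  have hp2 : p ≠ 2 := hC1.podd
  have hSab : ∀ a ∈ (S : Subgroup G), ∀ b ∈ (S : Subgroup G), a * b = b * a :=
    hM.ab _ (not_dvd_card_sylow_two hp2 S)
  have hPne : (P : Subgroup G) ≠ ⊥ := P.ne_bot_of_dvd_card hM.pdvd
  obtain ⟨a, ha1⟩ := (Subgroup.ne_bot_iff_exists_ne_one.1 hPne)
  have haP' : (a : G) ∈ P := a.2
  have ha1' : (a : G) ≠ 1 := fun h => ha1 (Subtype.ext h)
  have hcomm : (a : G) * s = s * a := (Subgroup.mem_centralizer_iff.1 hsC) a haP'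
  have hkey : Subgroup.centralizer {s} = NP P :=
    hC.key P a s haP' ha1' hs1 (coprime_of_mem_sylow_two hp2 S hsS) hcomm
  have hSN : (S : Subgroup G) ≤ NP P := by
    intro t ht
    rw [← hkey, Subgroup.mem_centralizer_iff]
    intro h hh
    rw [Set.mem_singleton_iff] at hh
    subst hh
    exact hSab h hsS t ht
  have hCN : CP P ≤ NP P := Subgroup.centralizer_le_normalizer _
  -- Step 1: `|N| = 2 |C|`
  have hNC : Nat.card (NP P) = 2 * Nat.card (CP P) := by
    obtain ⟨e, he, hcard⟩ := hC.ediv P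
    rw [hp3] at he
    have he2 : e ∣ 2 := he
    rcases (Nat.dvd_prime Nat.prime_two).1 he2 with h | h
    · exfalso
      rw [h, one_mul] at hcard
      obtain ⟨x, hxN, -, hxC⟩ := hC1.nc P
      have : CP P = NP P := Subgroup.eq_of_le_of_card_ge hCN (le_of_eq hcard)
      exact hxC (this ▸ hxN)
    · rw [h] at hcard; exact hcard
  -- Step 2: `|A| ≤ 2 |K₀|`
  set A : Subgroup G := ctr (S : Subgroup G) with hAdef
  set K₀ : Subgroup G := CP P ⊓ A with hK₀def
  have hK₀A : K₀ ≤ A := inf_le_right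
  have hK₀C : K₀ ≤ CP P := inf_le_left
  have hrelN : (CP P).relIndex (NP P) = 2 := by
    have h1 := Subgroup.relIndex_mul_relIndex ⊥ (CP P) (NP P) bot_le hCN
    rw [Subgroup.relIndex_bot_left, Subgroup.relIndex_bot_left, hNC] at h1
    have hpos : 0 < Nat.card (CP P) := Nat.card_pos
    have : Nat.card (CP P) * (CP P).relIndex (NP P) = Nat.card (CP P) * 2 := by rw [h1, mul_comm]
    exact Nat.eq_of_mul_eq_mul_left hpos this
  have hrelA : K₀.relIndex A ≤ 2 := by
    rw [hK₀def, Subgroup.inf_relIndex_right, ← hrelN]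
    exact Subgroup.relIndex_le_of_le_right hA1 (by rw [hrelN]; norm_num)
  have hAle : Nat.card A ≤ 2 * Nat.card K₀ := by
    have h1 := Subgroup.relIndex_mul_relIndex ⊥ K₀ A bot_le hK₀A
    rw [Subgroup.relIndex_bot_left, Subgroup.relIndex_bot_left] at h1
    rw [← h1, mul_comm]
    exact Nat.mul_le_mul_right _ hrelA
  -- Step 3: an element `v` of order `p` in `D`, `v ∉ N`
  have hDcard : p ∣ Nat.card D := by
    obtain ⟨k, hk⟩ := IsPGroup.iff_card.1 hDp
    rw [hk]
    rcases Nat.eq_zero_or_pos k with h0 | hpos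
    · exfalso
      rw [h0, pow_zero] at hk
      exact hD1 (Subgroup.card_eq_one.1 hk)
    · exact dvd_pow_self p (Nat.pos_iff_ne_zero.1 hpos)
  obtain ⟨x, hx⟩ := exists_prime_orderOf_dvd_card' p hDcard
  set v : G := (x : G) with hvdef
  have hvo : orderOf v = p := by rw [hvdef, Subgroup.orderOf_coe]; exact hx
  have hvS : v ∈ nrm (S : Subgroup G) := hDN x.2
  have hvS' : ∀ t ∈ (S : Subgroup G), v * t * v⁻¹ ∈ (S : Subgroup G) := fun t ht =>
    (Subgroup.mem_normalizer_iff.1 hvS t).1 ht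
  have hvS'' : ∀ t ∈ (S : Subgroup G), v⁻¹ * t * v ∈ (S : Subgroup G) := fun t ht => by
    have := (Subgroup.mem_normalizer_iff.1 hvS (v⁻¹ * t * v)).2
    apply this
    have e : v * (v⁻¹ * t * v) * v⁻¹ = t := by group
    rw [e]; exact ht
  have hvN : v ∉ NP P := by
    intro hvN
    -- `v ∈ P`
    have hzp : IsPGroup p (Subgroup.zpowers v) := by
      apply IsPGroup.of_card (n := 1)
      rw [Nat.card_zpowers, hvo, pow_one]
    have hzN : Subgroup.zpowers v ≤ Subgroup.normalizer ((P : Subgroup G) : Set G) := by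
      rw [Subgroup.zpowers_le]; exact hvN
    have hzP : Subgroup.zpowers v ≤ (P : Subgroup G) :=
      (hzp.sylow_mem_fixedPoints_iff).1 ((Subgroup.sylow_mem_fixedPoints_iff _).2 hzN)
    have hvP : v ∈ (P : Subgroup G) := hzP (Subgroup.mem_zpowers v)
    -- `v` centralises `S`
    have hvA : v ∈ A := by
      rw [hAdef, Subgroup.mem_centralizer_iff]
      intro t ht
      have hc1 : t * v * t⁻¹ * v⁻¹ ∈ (S : Subgroup G) := by
        have h1 := hvS' t⁻¹ (Subgroup.inv_mem _ ht)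
        have e : t * v * t⁻¹ * v⁻¹ = t * (v * t⁻¹ * v⁻¹) := by group
        rw [e]; exact Subgroup.mul_mem _ ht h1
      have hc2 : t * v * t⁻¹ * v⁻¹ ∈ (P : Subgroup G) := by
        have h1 : t * v * t⁻¹ ∈ (P : Subgroup G) :=
          (Subgroup.mem_normalizer_iff.1 (hSN ht) v).1 hvP
        exact Subgroup.mul_mem _ h1 (Subgroup.inv_mem _ hvP)
      have hc3 : t * v * t⁻¹ * v⁻¹ = 1 := by
        have h1 := coprime_of_mem_sylow_two hp2 S hc1
        obtain ⟨k, hk⟩ := P.2 ⟨_, hc2⟩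
        have h2 : (t * v * t⁻¹ * v⁻¹) ^ p ^ k = 1 := by
          have := congrArg Subtype.val hk
          simpa using this
        have h3 : orderOf (t * v * t⁻¹ * v⁻¹) ∣ p ^ k := orderOf_dvd_of_pow_eq_one h2
        have h4 : orderOf (t * v * t⁻¹ * v⁻¹) = 1 :=
          Nat.Coprime.eq_one_of_dvd (Nat.Coprime.pow_right k h1) h3
        exact orderOf_eq_one_iff.1 h4
      calc t * v = (t * v * t⁻¹ * v⁻¹) * (v * t) := by group
        _ = v * t := by rw [hc3, one_mul]
    have : p ∣ Nat.card A := by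
      rw [← hvo]; exact Subgroup.orderOf_dvd_natCard _ hvA
    exact hA this
  -- Step 4: `v` normalises `A`
  have hvA : ∀ y ∈ A, v * y * v⁻¹ ∈ A := by
    intro y hy
    rw [hAdef, Subgroup.mem_centralizer_iff] at hy ⊢
    intro t ht
    have h1 := hy _ (hvS'' t ht)
    calc t * (v * y * v⁻¹) = v * ((v⁻¹ * t * v) * y) * v⁻¹ := by group
      _ = v * (y * (v⁻¹ * t * v)) * v⁻¹ := by rw [h1]
      _ = v * y * v⁻¹ * t := by group
  -- Step 5: `K₀ ∩ v K₀ v⁻¹ = 1`
  have hcopA : ∀ h ∈ A, (orderOf h).Coprime p := by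
    intro h hh
    have h1 : orderOf h ∣ Nat.card A := Subgroup.orderOf_dvd_natCard _ hh
    exact Nat.Coprime.coprime_dvd_left h1 ((Nat.Prime.coprime_iff_not_dvd hp).2 hA).symm
  have hkeyK : ∀ h ∈ K₀, h ≠ 1 → Subgroup.centralizer {h} = NP P := by
    intro h hh hh1
    have hhC : h ∈ CP P := hK₀C hh
    have : (a : G) * h = h * a := (Subgroup.mem_centralizer_iff.1 hhC) a haP'
    exact hC.key P a h haP' ha1' hh1 (hcopA h (hK₀A hh)) this
  have htriv : ∀ h' ∈ K₀, v * h' * v⁻¹ ∈ K₀ → h' = 1 := by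
    intro h' hh' hconj
    by_contra hne
    have hne2 : v * h' * v⁻¹ ≠ 1 := by
      intro h
      apply hne
      have : h' = v⁻¹ * (v * h' * v⁻¹) * v := by group
      rw [this, h]; group
    have k1 := hkeyK h' hh' hne
    have k2 := hkeyK _ hconj hne2
    -- `v` normalises `N`
    have hvNN : v ∈ Subgroup.normalizer ((NP P : Subgroup G) : Set G) := by
      rw [Subgroup.mem_normalizer_iff]
      intro y
      have e1 : y ∈ NP P ↔ y ∈ Subgroup.centralizer {h'} := by rw [k1]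
      have e2 : v * y * v⁻¹ ∈ NP P ↔ v * y * v⁻¹ ∈ Subgroup.centralizer {v * h' * v⁻¹} := by
        rw [k2]
      show y ∈ NP P ↔ v * y * v⁻¹ ∈ NP P
      rw [e1, e2, Subgroup.mem_centralizer_iff, Subgroup.mem_centralizer_iff]
      constructor
      · intro hy z hz
        rw [Set.mem_singleton_iff] at hz
        subst hz
        have := hy h' rfl
        calc v * h' * v⁻¹ * (v * y * v⁻¹) = v * (h' * y) * v⁻¹ := by group
          _ = v * (y * h') * v⁻¹ := by rw [this]
          _ = v * y * v⁻¹ * (v * h' * v⁻¹) := by group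
      · intro hy z hz
        rw [Set.mem_singleton_iff] at hz
        subst hz
        have := hy (v * z * v⁻¹) rfl
        calc z * y = v⁻¹ * ((v * z * v⁻¹) * (v * y * v⁻¹)) * v := by group
          _ = v⁻¹ * ((v * y * v⁻¹) * (v * z * v⁻¹)) * v := by rw [this]
          _ = y * z := by group
    have : v ∈ NP P := by
      have h := P.normalizer_normalizer
      exact (SetLike.ext_iff.1 h v).1 hvNN
    exact hvN this
  -- Step 6: `|K₀|² ≤ |A|`
  have hsq : Nat.card K₀ * Nat.card K₀ ≤ Nat.card A := by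
    rw [← Nat.card_prod]
    let f : K₀ × K₀ → A := fun q =>
      ⟨(q.1 : G) * (v * (q.2 : G) * v⁻¹), Subgroup.mul_mem _ (hK₀A q.1.2) (hvA _ (hK₀A q.2.2))⟩
    apply Nat.card_le_card_of_injective f
    rintro ⟨x1, y1⟩ ⟨x2, y2⟩ hxy
    have h1 : (x1 : G) * (v * (y1 : G) * v⁻¹) = (x2 : G) * (v * (y2 : G) * v⁻¹) :=
      congrArg Subtype.val hxy
    have h2 : v * ((y1 : G) * (y2 : G)⁻¹) * v⁻¹ = (x1 : G)⁻¹ * (x2 : G) := by
      have e : v * ((y1 : G) * (y2 : G)⁻¹) * v⁻¹ =
          (x1 : G)⁻¹ * ((x1 : G) * (v * (y1 : G) * v⁻¹)) * (v * (y2 : G) * v⁻¹)⁻¹ := by group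
      rw [e, h1]; group
    have h3 : (y1 : G) * (y2 : G)⁻¹ = 1 := by
      apply htriv _ (Subgroup.mul_mem _ y1.2 (Subgroup.inv_mem _ y2.2))
      rw [h2]
      exact Subgroup.mul_mem _ (Subgroup.inv_mem _ x1.2) x2.2
    have hy : y1 = y2 := by
      apply Subtype.ext
      exact mul_inv_eq_one.1 h3
    have hx : x1 = x2 := by
      apply Subtype.ext
      rw [h3] at h2
      have : (x1 : G)⁻¹ * (x2 : G) = 1 := by rw [← h2]; group
      exact (inv_mul_eq_one.1 this)
    rw [hx, hy]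
  -- Step 7: `|K₀| ≥ 2`
  have hsK₀ : s ∈ K₀ := by
    refine ⟨hsC, ?_⟩
    rw [hAdef]
    show s ∈ Subgroup.centralizer ((S : Subgroup G) : Set G)
    rw [Subgroup.mem_centralizer_iff]
    intro t ht
    exact hSab t ht s hsS
  have hK₀2 : 2 ≤ Nat.card K₀ := by
    have : Nontrivial K₀ := ⟨⟨⟨s, hsK₀⟩, 1, fun h => hs1 (congrArg Subtype.val h)⟩⟩
    exact Finite.one_lt_card
  have hk2 : Nat.card K₀ = 2 := by nlinarith
  have hA4 : Nat.card A = 4 := by
    rw [hk2] at hsq hAle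
    omega
  have hN4 : Nat.card (NP P) = 4 * Nat.card P := by
    rw [← hA2, hA4]
  refine ⟨?_, hN4⟩
  have : 2 * Nat.card (CP P) = 2 * (2 * Nat.card P) := by
    rw [← hNC, hN4]; ring
  exact Nat.eq_of_mul_eq_mul_left (by norm_num) this

end Cfsg.Agent.Helper88.CYC
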