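import Mathlib
import Cfsg.Agent.Lib.Helper62.SLN0
import Cfsg.Agent.Lib.Helper26.SLN_R
import Cfsg.Agent.Lib.Helper66.SLN_G1

/-!
# SLN piece S4 (helper62's server for S2332): `dim V = c + d (q^m - 1)`
-/

set_option autoImplicit false

namespace Cfsg.Agent.Helper88.SLN

open Matrix Module Cfsg.Agent.Helper93.U2 Cfsg.Agent.Helper62.SLN

section SLN

variable {F : Type*} [Field F] [Fintype F] [DecidableEq F] {κ : Type} [Fintype κ] [DecidableEq κ]
  {V : Type*} [AddCommGroup V] [Module ℂ V] [FiniteDimensional ℂ V]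
  (ψ : AddChar F ℂ) (pr : Pairing (κ → F)) (hpr : ∀ w u, pr.β w u = ψ (w ⬝ᵥ u))
  (ρ : Representation ℂ (SpecialLinearGroup (Unit ⊕ κ) F) V)

include hpr

omit [DecidableEq F] in
/-- piece S4 (R2 + G1) -/
theorem dim_formula (d : ℕ) (hd : ∀ w : κ → F, w ≠ 0 → finrank ℂ (wt pr ρ w) = d) :
    finrank ℂ V = finrank ℂ (wt pr ρ 0) + d * (Fintype.card F ^ Fintype.card κ - 1) := by
  classical
  have h := Cfsg.Agent.Helper26.SLN.finrank_eq_sum_wsp pr (uEl : (κ → F) → _) ρ
    (fun a b => Cfsg.Agent.Helper66.SLN.uEl_add a b)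
  rw [h, ← Finset.add_sum_erase Finset.univ _ (Finset.mem_univ (0 : κ → F))]
  congr 1
  rw [Finset.sum_congr rfl (fun w hw => hd w (Finset.ne_of_mem_erase hw)), Finset.sum_const,
    smul_eq_mul, mul_comm, Finset.card_erase_of_mem (Finset.mem_univ _), Finset.card_univ,
    Fintype.card_fun]

end SLN

end Cfsg.Agent.Helper88.SLN
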