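import Mathlib
import Cfsg.Agent.S5118
import Cfsg.Agent.Lib.Helper85.Realized

set_option autoImplicit false

/-!
# Normal subgroups of a realizing group give normal subsystems of the realized system

`F` a fusion system over `S ≤ Ω` realized by `ι : S →* G` (image a Sylow `p`-subgroup of `G`), `N ⊴ G`.
We build the subsystem of `F` over `ι⁻¹(N)` induced by `N` and show it is normal in `F`.
-/

namespace Cfsg.Agent.Helper88.RealizedNormal

open Cfsg Cfsg.FusionSystem Cfsg.Agent.Helper87 Cfsg.Agent.Helper85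

variable {Ω : Type*} [Group Ω] {S : Subgroup Ω} {G : Type*} [Group G]

/-- The subsystem of `F` over `ι⁻¹(N)` whose maps are induced (through `ι`) by conjugation with elements of `N`. -/
def pullSys (F : FusionSystem S) {ι : S →* G} (h : F.IsRealizedBy ι) (N : Subgroup G) :
    FusionSystem (preimageAlong ι N) where
  Hom P := {φ | P ≤ preimageAlong ι N ∧ (∀ x : P, φ x ∈ preimageAlong ι N) ∧
    ∃ n ∈ N, ∀ x : P, au ι (φ x) = n * au ι (x : Ω) * n⁻¹}
  le_of_mem hφ := ⟨hφ.1, hφ.2.1⟩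
  injective_of_mem := by
    rintro P φ ⟨hP, hφ, n, -, e⟩ a b hab
    have h1 : au ι (a : Ω) = au ι (b : Ω) := by
      have := (e a).symm.trans ((congrArg (au ι) hab).trans (e b))
      exact mul_left_cancel (mul_right_cancel this)
    exact Subtype.ext (au_injOn h.1 (preimageAlong_le ι N (hP a.2)) (preimageAlong_le ι N (hP b.2)) h1)
  conj_mem := by
    intro P g hP hg
    have hgS : g ∈ S := preimageAlong_le ι N hg
    refine ⟨hP, fun x => ?_, au ι g, (mem_pre.1 hg).2, fun x => ?_⟩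
    · exact Subgroup.mul_mem _ (Subgroup.mul_mem _ hg (hP x.2)) (Subgroup.inv_mem _ hg)
    · exact au_conj ι hgS (preimageAlong_le ι N (hP x.2))
  comp_mem := by
    rintro P Q φ ψ ⟨hP, hφ, n, hn, e⟩ ⟨hQ, hψ, m, hm, e'⟩ hPQ
    refine ⟨hP, fun x => hψ _, m * n, N.mul_mem hm hn, fun x => ?_⟩
    show au ι (ψ ⟨φ x, hPQ x⟩) = _
    rw [e' ⟨φ x, hPQ x⟩]
    show m * au ι (φ x) * m⁻¹ = _
    rw [e x]; group
  inv_mem := by
    rintro P φ ⟨hP, hφ, n, hn, e⟩
    have hPS : P ≤ S := hP.trans (preimageAlong_le ι N)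
    have hφS : ∀ x : P, φ x ∈ S := fun x => preimageAlong_le ι N (hφ x)
    have hφF : φ ∈ F.Hom P := by
      rw [h.2 P hPS φ hφS]
      refine ⟨n, fun x => ?_⟩
      have := e x
      rwa [au_mem ι (hφS x), au_mem ι (hPS x.2)] at this
    obtain ⟨ψ, hψ, eψ⟩ := F.inv_mem hφF
    refine ⟨ψ, ⟨?_, ?_, n⁻¹, N.inv_mem hn, ?_⟩, eψ⟩
    · rintro _ ⟨x, rfl⟩; exact hφ x
    · rintro ⟨_, x, rfl⟩; rw [eψ]; exact hP x.2
    · rintro ⟨_, x, rfl⟩
      rw [eψ]
      show au ι (x : Ω) = n⁻¹ * au ι (φ x) * n⁻¹⁻¹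
      rw [e x]; group

theorem pullSys_isSubsystemOf {F : FusionSystem S} {ι : S →* G} (h : F.IsRealizedBy ι) (N : Subgroup G) :
    (pullSys F h N).IsSubsystemOf F := by
  rintro P φ ⟨hP, hφ, n, hn, e⟩
  have hPS : P ≤ S := hP.trans (preimageAlong_le ι N)
  have hφS : ∀ x : P, φ x ∈ S := fun x => preimageAlong_le ι N (hφ x)
  rw [h.2 P hPS φ hφS]
  refine ⟨n, fun x => ?_⟩
  have := e x
  rwa [au_mem ι (hφS x), au_mem ι (hPS x.2)] at this

theorem mor_pullSys_iff {F : FusionSystem S} {ι : S →* G} (h : F.IsRealizedBy ι) (N : Subgroup G)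
    {P : Subgroup Ω} {f : Ω → Ω} :
    Mor (pullSys F h N) P f ↔ P ≤ preimageAlong ι N ∧ (∀ x ∈ P, f x ∈ preimageAlong ι N) ∧
      ∃ n ∈ N, ∀ x ∈ P, au ι (f x) = n * au ι x * n⁻¹ := by
  constructor
  · rintro ⟨φ, ⟨hP, hφ, n, hn, e⟩, eφ⟩
    refine ⟨hP, fun x hx => ?_, n, hn, fun x hx => ?_⟩
    · rw [← eφ ⟨x, hx⟩]; exact hφ _
    · rw [← eφ ⟨x, hx⟩]; exact e ⟨x, hx⟩
  · rintro ⟨hP, hf, n, hn, e⟩
    have hPS : P ≤ S := hP.trans (preimageAlong_le ι N)
    have hF : Mor F P f := (realized_mor_iff h).2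
      ⟨hPS, fun x hx => preimageAlong_le ι N (hf x hx), n, e⟩
    obtain ⟨φ, -, eφ⟩ := hF
    refine ⟨φ, ⟨hP, fun x => ?_, n, hn, fun x => ?_⟩, eφ⟩
    · rw [eφ]; exact hf x x.2
    · rw [eφ]; exact e x x.2


/-- `ι` restricted to `ι⁻¹(N)`, with values in `N` -/
noncomputable def resHom (ι : S →* G) (N : Subgroup G) : ↥(preimageAlong ι N) →* ↥N :=
  MonoidHom.codRestrict (ι.comp (Subgroup.inclusion (preimageAlong_le ι N))) N (fun x => by
    have := (mem_pre.1 x.2).2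
    rw [au_mem ι (preimageAlong_le ι N x.2)] at this
    exact this)

theorem resHom_coe (ι : S →* G) (N : Subgroup G) (x : ↥(preimageAlong ι N)) :
    ((resHom ι N x : ↥N) : G) = au ι (x : Ω) := by
  rw [au_mem ι (preimageAlong_le ι N x.2)]
  rfl

theorem pullSys_realized {F : FusionSystem S} {ι : S →* G} (h : F.IsRealizedBy ι) (N : Subgroup G) :
    (pullSys F h N).IsRealizedBy (resHom ι N) := by
  refine ⟨?_, ?_⟩
  · intro x y hxy
    have h1 : au ι (x : Ω) = au ι (y : Ω) := by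
      rw [← resHom_coe, ← resHom_coe, hxy]
    exact Subtype.ext (au_injOn h.1 (preimageAlong_le ι N x.2) (preimageAlong_le ι N y.2) h1)
  · intro P hP φ hφ
    constructor
    · rintro ⟨-, -, n, hn, e⟩
      refine ⟨⟨n, hn⟩, fun x => Subtype.ext ?_⟩
      rw [resHom_coe]
      show au ι (φ x) = n * ((resHom ι N ⟨x, hP x.2⟩ : ↥N) : G) * n⁻¹
      rw [resHom_coe]
      exact e x
    · rintro ⟨g, hg⟩
      refine ⟨hP, hφ, g.1, g.2, fun x => ?_⟩
      have := congrArg Subtype.val (hg x)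
      rw [resHom_coe] at this
      rw [this]
      show ((g : G) * ((resHom ι N ⟨x, hP x.2⟩ : ↥N) : G) * (g : G)⁻¹) = _
      rw [resHom_coe]

section fin

variable [Finite G] {p : ℕ} [Fact p.Prime]

theorem pullSys_saturated {F : FusionSystem S} {ι : S →* G} (h : F.IsRealizedBy ι) (T : Sylow p G)
    (hT : (T : Subgroup G) = ι.range) (N : Subgroup G) [N.Normal] :
    (pullSys F h N).IsSaturated p := by
  have hTsyl : Cfsg.Agent.Helper84.IsSylIn p ((T : Subgroup G) ⊓ N) N :=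
    (Cfsg.Agent.Helper84.sylow_isSylIn_top T).inf_normal le_top (by rw [Subgroup.normalizer_eq_top])
  obtain ⟨R, hR⟩ := hTsyl.exists_sylow
  apply realized_saturated (pullSys_realized h N) R
  rw [hR]
  ext y
  rw [Subgroup.mem_subgroupOf]
  constructor
  · rintro ⟨hyT, -⟩
    rw [hT] at hyT
    obtain ⟨s, hs⟩ := hyT
    have hsN : (s : Ω) ∈ preimageAlong ι N := mem_pre.2 ⟨s.2, by rw [au_mem ι s.2, hs]; exact y.2⟩
    refine ⟨⟨s, hsN⟩, Subtype.ext ?_⟩
    rw [resHom_coe, au_mem ι s.2]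
    exact hs
  · rintro ⟨x, rfl⟩
    refine ⟨?_, (resHom ι N x).2⟩
    rw [resHom_coe, hT]
    exact au_mem_range' ι (preimageAlong_le ι N x.2)

theorem pullSys_stronglyClosed {F : FusionSystem S} {ι : S →* G} (h : F.IsRealizedBy ι)
    (N : Subgroup G) [hN : N.Normal] : F.StronglyClosed (preimageAlong ι N) := by
  refine ⟨preimageAlong_le ι N, fun R hR φ hφ x => ?_⟩
  have hm : Mor F R (extFun φ) := mor_of_mem hφ
  obtain ⟨hRS, hfS, g, hg⟩ := (realized_mor_iff h).1 hm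
  have := hg x x.2
  rw [extFun_apply] at this
  refine mem_pre.2 ⟨?_, ?_⟩
  · have := hfS x x.2
    rwa [extFun_apply] at this
  · rw [this]
    exact hN.conj_mem _ (mem_pre.1 (hR x.2)).2 g

theorem pullSys_siFun {F : FusionSystem S} {ι : S →* G} (h : F.IsRealizedBy ι)
    (N : Subgroup G) [hN : N.Normal] : Cfsg.Agent.S5119.SIfun (pullSys F h N) F := by
  intro P Q R f g g' hPQ hQT hf hfQ hg hR hg'
  obtain ⟨hP, hfT, n, hn, en⟩ := (mor_pullSys_iff h N).1 hf
  obtain ⟨hQS, hgS, k, ek⟩ := (realized_mor_iff h).1 hg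
  have hsc := pullSys_stronglyClosed h N
  have hgT : ∀ x ∈ Q, g x ∈ preimageAlong ι N := by
    intro x hx
    obtain ⟨φ, hφ, eφ⟩ := hg
    have := hsc.2 Q hQT φ hφ ⟨x, hx⟩
    rwa [eφ] at this
  rw [mor_pullSys_iff h N]
  refine ⟨?_, ?_, k * n * k⁻¹, hN.conj_mem n hn k, ?_⟩
  · intro y hy
    obtain ⟨x, hx, rfl⟩ := (hR y).1 hy
    exact hgT x (hPQ hx)
  · intro y hy
    obtain ⟨x, hx, rfl⟩ := (hR y).1 hy
    rw [hg' x hx]
    exact hgT _ (hfQ x hx)
  · intro y hy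
    obtain ⟨x, hx, rfl⟩ := (hR y).1 hy
    rw [hg' x hx, ek _ (hfQ x hx), en x hx, ek x (hPQ hx)]
    group

theorem pullSys_invariant [Finite S] (hS : IsPGroup p S) {F : FusionSystem S} {ι : S →* G}
    (h : F.IsRealizedBy ι) (hF : F.IsSaturated p) (N : Subgroup G) [N.Normal] :
    (pullSys F h N).IsInvariantIn F :=
  Cfsg.Agent.S5119.invariant_of_siFun hS hF (pullSys_isSubsystemOf h N) (pullSys_stronglyClosed h N)
    (pullSys_siFun h N)


/-- the image of `ι⁻¹(N)` under `ι` is `T ∩ N` -/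
theorem mem_inf_iff_exists {ι : S →* G} (T : Subgroup G) (hT : T = ι.range) (N : Subgroup G) (t : G) :
    t ∈ T ⊓ N ↔ ∃ x ∈ preimageAlong ι N, au ι x = t := by
  constructor
  · rintro ⟨htT, htN⟩
    rw [hT] at htT
    obtain ⟨s, rfl⟩ := htT
    refine ⟨s, mem_pre.2 ⟨s.2, by rw [au_mem ι s.2]; exact htN⟩, au_mem ι s.2⟩
  · rintro ⟨x, hx, rfl⟩
    obtain ⟨hxS, hxN⟩ := mem_pre.1 hx
    refine ⟨?_, hxN⟩
    rw [hT]
    exact au_mem_range' ι hxS

theorem pullSys_normal [Finite S] (hS : IsPGroup p S) {F : FusionSystem S} {ι : S →* G}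
    (h : F.IsRealizedBy ι) (T : Sylow p G) (hT : (T : Subgroup G) = ι.range)
    (N : Subgroup G) [hN : N.Normal] : (pullSys F h N).IsNormalIn F p := by
  have hF : F.IsSaturated p := realized_saturated h T hT
  refine ⟨⟨pullSys_saturated h T hT N, hF, pullSys_invariant hS h hF N⟩, ?_⟩
  intro α hα
  have hT₀S : preimageAlong ι N ≤ S := preimageAlong_le ι N
  rw [mem_autGroup_iff le_rfl] at hα
  obtain ⟨-, -, n, hn, en⟩ := (mor_pullSys_iff h N).1 hα
  have himg := mem_inf_iff_exists (T : Subgroup G) hT N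
  -- `n` normalizes `T ⊓ N`
  have hnN : n ∈ Subgroup.normalizer ((((T : Subgroup G) ⊓ N : Subgroup G)) : Set G) := by
    rw [Subgroup.mem_normalizer_iff]
    intro t
    constructor
    · intro ht
      obtain ⟨x, hx, rfl⟩ := (himg t).1 ht
      rw [← en x hx]
      exact (himg _).2 ⟨_, extAut_mem_self α hx, rfl⟩
    · intro ht
      obtain ⟨x', hx', e'⟩ := (himg _).1 ht
      have hx : extAut α⁻¹ x' ∈ preimageAlong ι N := extAut_mem_self α⁻¹ hx'
      have h1 := en _ hx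
      rw [extAut_inv_right α hx', e'] at h1
      have h2 : au ι (extAut α⁻¹ x') = t := (mul_left_cancel (mul_right_cancel h1)).symm
      exact (himg t).2 ⟨_, hx, h2⟩
  obtain ⟨z, hz, hk⟩ := Cfsg.Agent.S5118.exists_adjust T N hn hnN
  set g : G := z⁻¹ * n with hgdef
  set K : Subgroup Ω := preimageAlong ι N ⊔ centralizerIn S (preimageAlong ι N) with hKdef
  set K' : Subgroup G := ((T : Subgroup G) ⊓ N) ⊔
    centralizerIn (T : Subgroup G) ((T : Subgroup G) ⊓ N) with hK'def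
  have hKS : K ≤ S := sup_le hT₀S inf_le_left
  have hK'T : K' ≤ (T : Subgroup G) := sup_le inf_le_left inf_le_left
  have hgN : g ∈ N := N.mul_mem (N.inv_mem hz.1) hn
  have hzC : ∀ t ∈ (T : Subgroup G) ⊓ N, z⁻¹ * t * z = t := by
    intro t ht
    have := hz.2 t ht
    calc z⁻¹ * t * z = z⁻¹ * (t * z) := by group
      _ = z⁻¹ * (z * t) := by rw [this]
      _ = t := by group
  have hgNT : g ∈ Subgroup.normalizer ((((T : Subgroup G) ⊓ N : Subgroup G)) : Set G) := by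
    apply Subgroup.mul_mem _ _ hnN
    apply Subgroup.inv_mem
    exact Subgroup.centralizer_le_normalizer _ hz.2
  -- elements of `C_S(T₀)` map into the centralizer of `T ⊓ N`
  have hcen : ∀ c ∈ centralizerIn S (preimageAlong ι N),
      au ι c ∈ Subgroup.centralizer ((((T : Subgroup G) ⊓ N : Subgroup G)) : Set G) := by
    intro c hc
    rw [Subgroup.mem_centralizer_iff]
    intro t ht
    obtain ⟨x, hx, rfl⟩ := (himg t).1 ht
    have hxS : x ∈ S := hT₀S hx
    rw [← au_mul ι hxS hc.1, ← au_mul ι hc.1 hxS, (Subgroup.mem_centralizer_iff.1 hc.2) x hx]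
  have hKK' : ∀ x, x ∈ K ↔ x ∈ S ∧ au ι x ∈ K' := by
    intro x
    constructor
    · intro hx
      refine ⟨hKS hx, ?_⟩
      have hle : K ≤ preimageAlong ι K' := by
        apply sup_le
        · intro y hy
          exact mem_pre.2 ⟨hT₀S hy, le_sup_left (a := (T : Subgroup G) ⊓ N) ((himg _).2 ⟨y, hy, rfl⟩)⟩
        · intro c hc
          refine mem_pre.2 ⟨hc.1, le_sup_right (a := (T : Subgroup G) ⊓ N) ⟨?_, hcen c hc⟩⟩
          rw [hT]
          exact au_mem_range' ι hc.1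
      exact (mem_pre.1 (hle hx)).2
    · rintro ⟨hxS, hx⟩
      have hle : K' ≤ imageAlong ι K := by
        apply sup_le
        · intro t ht
          obtain ⟨y, hy, rfl⟩ := (himg t).1 ht
          exact mem_img.2 ⟨y, hT₀S hy, le_sup_left (a := preimageAlong ι N) hy, rfl⟩
        · rintro t ⟨htT, htC⟩
          rw [hT] at htT
          obtain ⟨s, rfl⟩ := htT
          have htC' : ι s ∈ Subgroup.centralizer ((((T : Subgroup G) ⊓ N : Subgroup G)) : Set G) := htC
          have hsC : (s : Ω) ∈ Subgroup.centralizer ((preimageAlong ι N : Subgroup Ω) : Set Ω) := by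
            rw [Subgroup.mem_centralizer_iff]
            intro y hy
            have hyS : y ∈ S := hT₀S hy
            have h1 := (Subgroup.mem_centralizer_iff.1 htC') (au ι y) ((himg _).2 ⟨y, hy, rfl⟩)
            rw [← au_mem ι s.2, ← au_mul ι hyS s.2, ← au_mul ι s.2 hyS] at h1
            exact au_injOn h.1 (S.mul_mem hyS s.2) (S.mul_mem s.2 hyS) h1
          exact mem_img.2 ⟨s, s.2, le_sup_right (a := preimageAlong ι N) ⟨s.2, hsC⟩, au_mem ι s.2⟩
      obtain ⟨x₁, hx₁S, hx₁K, e⟩ := mem_img.1 (hle hx)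
      have : x₁ = x := au_injOn h.1 hx₁S hxS e
      rwa [← this]
  set f : Ω → Ω := fun x => au (backHom ι h.1) (g * au ι x * g⁻¹) with hfdef
  have hfS : ∀ x, f x ∈ S := fun x => au_backHom_mem ι h.1 _
  have hconjK' : ∀ y ∈ K', g * y * g⁻¹ ∈ K' := fun y hy => (Subgroup.mem_normalizer_iff.1 hk y).1 hy
  have hauf : ∀ x ∈ K, au ι (f x) = g * au ι x * g⁻¹ := by
    intro x hx
    apply au_au_back ι h.1
    rw [← hT]
    exact hK'T (hconjK' _ ((hKK' x).1 hx).2)
  have hfK : ∀ x ∈ K, f x ∈ K := by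
    intro x hx
    refine (hKK' _).2 ⟨hfS x, ?_⟩
    rw [hauf x hx]
    exact hconjK' _ ((hKK' x).1 hx).2
  have hMor : Mor F K f := (realized_mor_iff h).2 ⟨hKS, fun x _ => hfS x, g, hauf⟩
  have hIso : Iso F K K f := by
    refine ⟨hMor, fun y => ⟨fun hy => ?_, ?_⟩⟩
    · have hk' : g⁻¹ ∈ Subgroup.normalizer ((K' : Subgroup G) : Set G) := Subgroup.inv_mem _ hk
      have hy' : g⁻¹ * au ι y * g⁻¹⁻¹ ∈ K' :=
        (Subgroup.mem_normalizer_iff.1 hk' _).1 ((hKK' y).1 hy).2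
      have hyr : g⁻¹ * au ι y * g⁻¹⁻¹ ∈ ι.range := by rw [← hT]; exact hK'T hy'
      refine ⟨au (backHom ι h.1) (g⁻¹ * au ι y * g⁻¹⁻¹), ?_, ?_⟩
      · refine (hKK' _).2 ⟨au_backHom_mem ι h.1 _, ?_⟩
        rw [au_au_back ι h.1 hyr]
        exact hy'
      · show au (backHom ι h.1) (g * au ι (au (backHom ι h.1) (g⁻¹ * au ι y * g⁻¹⁻¹)) * g⁻¹) = y
        rw [au_au_back ι h.1 hyr]
        have : g * (g⁻¹ * au ι y * g⁻¹⁻¹) * g⁻¹ = au ι y := by group
        rw [this]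
        exact au_back_au ι h.1 (hKS hy)
    · rintro ⟨x, hx, rfl⟩
      exact hfK x hx
  refine ⟨hIso.equiv, Iso.equiv_mem_autGroup hIso, ?_, ?_⟩
  · intro x
    rw [hIso.equiv_apply]
    show f (x : Ω) = _
    have hxT₀ : (x : Ω) ∈ preimageAlong ι N := x.2
    have hxK : (x : Ω) ∈ K := le_sup_left (a := preimageAlong ι N) hxT₀
    have hαx : extAut α (x : Ω) ∈ preimageAlong ι N := extAut_mem_self α hxT₀
    have h1 : au ι (f x) = au ι (extAut α x) := by
      rw [hauf x hxK, en x hxT₀]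
      have h2 : n * au ι (x : Ω) * n⁻¹ ∈ (T : Subgroup G) ⊓ N := by
        rw [← en x hxT₀]
        exact (himg _).2 ⟨_, hαx, rfl⟩
      calc g * au ι (x : Ω) * g⁻¹ = z⁻¹ * (n * au ι (x : Ω) * n⁻¹) * z := by rw [hgdef]; group
        _ = n * au ι (x : Ω) * n⁻¹ := hzC _ h2
    have h3 := au_injOn h.1 (hfS x) (hT₀S hαx) h1
    rw [h3, extAut_apply]
  · intro c hc
    rw [hIso.equiv_apply]
    have hcK : (c : Ω) ∈ K := c.2
    have hcS : (c : Ω) ∈ S := hc.1
    have hd : au ι (f c) = g * au ι (c : Ω) * g⁻¹ := hauf c hcK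
    refine ⟨mem_pre.2 ⟨S.mul_mem (S.inv_mem hcS) (hfS c), ?_⟩, ?_⟩
    · rw [au_mul ι (S.inv_mem hcS) (hfS c), au_inv ι hcS, hd]
      have e : (au ι (c : Ω))⁻¹ * (g * au ι (c : Ω) * g⁻¹) =
          ((au ι (c : Ω))⁻¹ * g * (au ι (c : Ω))⁻¹⁻¹) * g⁻¹ := by group
      rw [e]
      exact N.mul_mem (hN.conj_mem g hgN _) (N.inv_mem hgN)
    · have hdC : au ι (f c) ∈
          Subgroup.centralizer ((((T : Subgroup G) ⊓ N : Subgroup G)) : Set G) := by
        rw [hd]
        exact (Subgroup.mem_normalizer_iff.1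
          (Cfsg.Agent.Helper84.normalizer_le_normalizer_centralizer _ hgNT) _).1 (hcen c hc)
      have hfcC : f c ∈ Subgroup.centralizer ((preimageAlong ι N : Subgroup Ω) : Set Ω) := by
        rw [Subgroup.mem_centralizer_iff]
        intro y hy
        have hyS : y ∈ S := hT₀S hy
        have h1 := (Subgroup.mem_centralizer_iff.1 hdC) (au ι y) ((himg _).2 ⟨y, hy, rfl⟩)
        rw [← au_mul ι hyS (hfS c), ← au_mul ι (hfS c) hyS] at h1
        exact au_injOn h.1 (S.mul_mem hyS (hfS c)) (S.mul_mem (hfS c) hyS) h1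
      exact Subgroup.mul_mem _ (Subgroup.inv_mem _ hc.2) hfcC


/-- a normal subgroup meeting `ι(S)` trivially can be factored out -/
theorem realized_quotient (hS : IsPGroup p S) {F : FusionSystem S} {ι : S →* G}
    (h : F.IsRealizedBy ι) (T : Sylow p G) (hT : (T : Subgroup G) = ι.range)
    (N : Subgroup G) [hN : N.Normal] (hTN : (T : Subgroup G) ⊓ N = ⊥) :
    F.IsRealizedBy ((QuotientGroup.mk' N).comp ι) ∧
      ∃ T' : Sylow p (G ⧸ N), (T' : Subgroup (G ⧸ N)) = ((QuotientGroup.mk' N).comp ι).range := by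
  have hrT : ∀ s : S, ι s ∈ (T : Subgroup G) := fun s => by rw [hT]; exact ⟨s, rfl⟩
  have heqT : ∀ a b : G, a ∈ (T : Subgroup G) → b ∈ (T : Subgroup G) → a⁻¹ * b ∈ N → a = b := by
    intro a b ha hb hab
    have : a⁻¹ * b ∈ (T : Subgroup G) ⊓ N :=
      ⟨Subgroup.mul_mem _ (Subgroup.inv_mem _ ha) hb, hab⟩
    rw [hTN, Subgroup.mem_bot] at this
    exact (inv_mul_eq_one.1 this)
  refine ⟨⟨?_, ?_⟩, ?_⟩
  · intro x y hxy
    have h1 : (ι x)⁻¹ * ι y ∈ N := by
      have : (QuotientGroup.mk (ι x) : G ⧸ N) = QuotientGroup.mk (ι y) := hxy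
      exact QuotientGroup.eq.1 this
    exact h.1 (heqT _ _ (hrT x) (hrT y) h1)
  · intro P hP φ hφ
    constructor
    · intro hφF
      obtain ⟨g, hg⟩ := (h.2 P hP φ hφ).1 hφF
      refine ⟨QuotientGroup.mk g, fun x => ?_⟩
      show (QuotientGroup.mk (ι ⟨φ x, hφ x⟩) : G ⧸ N) = _
      rw [hg x]
      rfl
    · rintro ⟨gbar, hg⟩
      obtain ⟨g₀, rfl⟩ := QuotientGroup.mk_surjective gbar
      -- the two homomorphisms `P → G`
      set ψ : P →* G := ι.comp (φ.codRestrict S hφ) with hψ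
      set χ : P →* G := ((MulAut.conj g₀).toMonoidHom.comp ι).comp (Subgroup.inclusion hP) with hχ
      have hχx : ∀ x : P, χ x = g₀ * ι ⟨x, hP x.2⟩ * g₀⁻¹ := fun x => rfl
      have hψx : ∀ x : P, ψ x = ι ⟨φ x, hφ x⟩ := fun x => rfl
      have hrel : ∀ x : P, (χ x)⁻¹ * ψ x ∈ N := by
        intro x
        apply QuotientGroup.eq.1
        have := hg x
        rw [hχx, hψx]
        exact this.symm
      have hBT : ψ.range ≤ (T : Subgroup G) := by
        rintro _ ⟨x, rfl⟩; exact hrT _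
      have hPp : IsPGroup p P := hS.to_le hP
      have hBp : IsPGroup p ψ.range :=
        IsPGroup.of_surjective hPp ψ.rangeRestrict ψ.rangeRestrict_surjective
      have hAp : IsPGroup p χ.range :=
        IsPGroup.of_surjective hPp χ.rangeRestrict χ.rangeRestrict_surjective
      have hTsyl : Cfsg.Agent.Helper84.IsSylIn p ((T : Subgroup G) ⊓ N) N :=
        (Cfsg.Agent.Helper84.sylow_isSylIn_top T).inf_normal le_top
          (by rw [Subgroup.normalizer_eq_top])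
      have hBN : ψ.range ⊓ N = (T : Subgroup G) ⊓ N := by
        rw [hTN]
        exact le_bot_iff.1 (hTN ▸ inf_le_inf_right N hBT)
      have hsyl : Cfsg.Agent.Helper84.IsSylIn p ψ.range (ψ.range ⊔ N) :=
        Cfsg.Agent.S5118.isSylIn_sup hBp (by rw [Subgroup.normalizer_eq_top]; exact le_top)
          (by rw [hBN]; exact hTsyl)
      have hAle : χ.range ≤ ψ.range ⊔ N := by
        rintro _ ⟨x, rfl⟩
        have e : χ x = ψ x * ((χ x)⁻¹ * ψ x)⁻¹ := by group
        rw [e]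
        exact Subgroup.mul_mem _ (le_sup_left (a := ψ.range) ⟨x, rfl⟩)
          (le_sup_right (a := ψ.range) (N.inv_mem (hrel x)))
      obtain ⟨k, hk, hle⟩ := hsyl.exists_conj_ge hAle hAp
      have hk' : k ∈ ((N ⊔ ψ.range : Subgroup G) : Set G) := by rw [sup_comm]; exact hk
      rw [Subgroup.normal_mul] at hk'
      obtain ⟨m, hm, b, hb, rfl⟩ := hk'
      -- `m⁻¹ χ(x) m ∈ ψ.range`
      have hmem : ∀ x : P, m⁻¹ * χ x * m ∈ ψ.range := by
        intro x
        obtain ⟨y, hy, e⟩ := hle ⟨x, rfl⟩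
        have e' : (m * b) * y * (m * b)⁻¹ = χ x := e
        have : m⁻¹ * χ x * m = b * y * b⁻¹ := by rw [← e']; group
        rw [this]
        exact Subgroup.mul_mem _ (Subgroup.mul_mem _ hb hy) (Subgroup.inv_mem _ hb)
      rw [h.2 P hP φ hφ]
      refine ⟨m⁻¹ * g₀, fun x => ?_⟩
      have e1 : m⁻¹ * g₀ * ι ⟨x, hP x.2⟩ * (m⁻¹ * g₀)⁻¹ = m⁻¹ * χ x * m := by
        rw [hχx]; group
      rw [e1]
      symm
      apply heqT _ _ (hBT (hmem x)) (hrT _)
      have e2 : (m⁻¹ * χ x * m)⁻¹ * ι ⟨φ x, hφ x⟩ =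
          m⁻¹ * ((χ x)⁻¹ * m * (χ x)⁻¹⁻¹) * ((χ x)⁻¹ * ψ x) := by
        rw [hψx]; group
      rw [e2]
      exact N.mul_mem (N.mul_mem (N.inv_mem hm) (hN.conj_mem m hm _)) (hrel x)
  · refine ⟨T.mapSurjective (QuotientGroup.mk'_surjective N), ?_⟩
    rw [Sylow.coe_mapSurjective, hT, MonoidHom.range_eq_map, MonoidHom.range_eq_map,
      ← Subgroup.map_map]

/-- a subgroup containing `ι(S)` that induces all of `F` realizes `F` -/
theorem realized_subgroup {F : FusionSystem S} {ι : S →* G}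
    (h : F.IsRealizedBy ι) (T : Sylow p G) (hT : (T : Subgroup G) = ι.range)
    (N : Subgroup G) (hle : ι.range ≤ N) (hEq : ∀ P : Subgroup Ω, (pullSys F h N).Hom P = F.Hom P) :
    F.IsRealizedBy (ι.codRestrict N (fun s => hle ⟨s, rfl⟩)) ∧
      ∃ T' : Sylow p N, (T' : Subgroup N) = (ι.codRestrict N (fun s => hle ⟨s, rfl⟩)).range := by
  refine ⟨⟨?_, ?_⟩, ?_⟩
  · intro x y hxy
    exact h.1 (congrArg Subtype.val hxy)
  · intro P hP φ hφ
    constructor
    · intro hφF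
      rw [← hEq P] at hφF
      obtain ⟨-, -, n, hn, e⟩ := hφF
      refine ⟨⟨n, hn⟩, fun x => Subtype.ext ?_⟩
      have := e x
      rw [au_mem ι (hφ x), au_mem ι (hP x.2)] at this
      exact this
    · rintro ⟨g, hg⟩
      rw [h.2 P hP φ hφ]
      exact ⟨g.1, fun x => congrArg Subtype.val (hg x)⟩
  · have hTN : (T : Subgroup G) ≤ N := by rw [hT]; exact hle
    refine ⟨T.subtype hTN, ?_⟩
    rw [Sylow.coe_subtype]
    ext y
    rw [Subgroup.mem_subgroupOf, hT]
    constructor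
    · rintro ⟨s, hs⟩
      exact ⟨s, Subtype.ext hs⟩
    · rintro ⟨s, rfl⟩
      exact ⟨s, rfl⟩

end fin

end Cfsg.Agent.Helper88.RealizedNormal
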