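import Mathlib
import Cfsg.Agent.Lib.Helper87.FusionMore
import Cfsg.Agent.Lib.Helper87.FusionRadical

set_option autoImplicit false

namespace Cfsg.Agent.Helper88

open Cfsg Cfsg.FusionSystem Cfsg.Agent.Helper87

variable {Ω : Type*} [Group Ω] {S : Subgroup Ω}

/-- a subgroup of `S` containing a centric subgroup is centric -/
theorem isCentric_of_le {F : FusionSystem S} {P N : Subgroup Ω} (hP : F.IsCentric P) (hPN : P ≤ N)
    (hN : N ≤ S) : F.IsCentric N := by
  refine ⟨hN, fun N' hNN' => ?_⟩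
  obtain ⟨f, hf⟩ := isConj_iff.1 hNN'
  have hPP' : Iso F P (hf.1.restrict hPN).image f := Iso.of_mor _
  have hcen := hP.2 _ (isConj_iff.2 ⟨f, hPP'⟩)
  intro c hc
  have h1 : c ∈ centralizerIn S (hf.1.restrict hPN).image := by
    refine ⟨hc.1, fun y hy => ?_⟩
    obtain ⟨x, hx, rfl⟩ := hy
    exact hc.2 _ (hf.map_mem (hPN hx))
  obtain ⟨x, hx, rfl⟩ := hcen h1
  exact hf.map_mem (hPN hx)

theorem isPGroup_zpowers_of_pow {G : Type*} [Group G] {p : ℕ} (a : G) (k : ℕ) (ha : a ^ p ^ k = 1) :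
    IsPGroup p (Subgroup.zpowers a) := by
  rintro ⟨x, hx⟩
  obtain ⟨i, rfl⟩ := Subgroup.mem_zpowers_iff.1 hx
  refine ⟨k, Subtype.ext ?_⟩
  show (a ^ i) ^ p ^ k = 1
  rw [← zpow_natCast, ← zpow_mul, mul_comm, zpow_mul, zpow_natCast, ha, one_zpow]

/-- a `p`-element is conjugate into any given Sylow `p`-subgroup -/
theorem exists_conj_mem_sylow {G : Type*} [Group G] [Finite G] {p : ℕ} [Fact p.Prime] (R : Sylow p G)
    (a : G) (k : ℕ) (ha : a ^ p ^ k = 1) : ∃ b : G, b * a * b⁻¹ ∈ R := by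
  obtain ⟨Q, hQ⟩ := (isPGroup_zpowers_of_pow a k ha).exists_le_sylow
  obtain ⟨b, hb⟩ := MulAction.exists_smul_eq G Q R
  refine ⟨b, ?_⟩
  have haQ : a ∈ Q := hQ (Subgroup.mem_zpowers a)
  rw [← hb]
  show b * a * b⁻¹ ∈ ((b • Q : Sylow p G) : Subgroup G)
  rw [Sylow.coe_subgroup_smul]
  exact ⟨a, haQ, by simp [MulAut.conj_apply]⟩


/-- uniqueness of extensions from a centric normal subgroup, when the target is fully normalized -/
theorem unique_ext_aux {p : ℕ} [Fact p.Prime] [Finite S] (hS : IsPGroup p S) {F : FusionSystem S}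
    (hF : F.IsSaturated p) {P N M : Subgroup Ω} {f f' : Ω → Ω} (hP : F.IsCentric P) (hPN : P ≤ N)
    (hNP : ∀ n ∈ N, n ∈ Subgroup.normalizer (P : Set Ω)) (hM : Iso F N M f)
    (hfn : F.IsFullyNormalized M) (hf' : Mor F N f') (heq : ∀ x ∈ P, f x = f' x) :
    ∃ w ∈ M, ∀ x ∈ N, f' x = w * f x * w⁻¹ := by
  classical
  have hf := hM.1
  have hPP' : Iso F P (hf.restrict hPN).image f := Iso.of_mor _
  set P' := (hf.restrict hPN).image with hP'def
  have hP'cen : F.IsCentric P' := isCentric_of_conj hP (isConj_iff.2 ⟨f, hPP'⟩)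
  have hP'M : P' ≤ M := by
    rintro y ⟨x, hx, rfl⟩
    exact hM.map_mem (hPN hx)
  have hz : ∀ x ∈ N, (f x)⁻¹ * f' x ∈ P' := by
    intro x hx
    apply hP'cen.2 P' (isConj_refl hP'cen.1)
    refine ⟨S.mul_mem (S.inv_mem (hf.mem hx)) (hf'.mem hx), ?_⟩
    show _ ∈ Subgroup.centralizer (P' : Set Ω)
    rw [Subgroup.mem_centralizer_iff]
    rintro y' ⟨y, hy, rfl⟩
    have hxy : x * y * x⁻¹ ∈ P := (Subgroup.mem_normalizer_iff.1 (hNP x hx) y).1 hy
    have e1 := hf.map_conj hx (hPN hy)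
    have e2 := hf'.map_conj hx (hPN hy)
    rw [← heq _ hxy, ← heq y hy, e1] at e2
    have : f y * ((f x)⁻¹ * f' x) = (f x)⁻¹ * (f x * f y * (f x)⁻¹) * f' x := by group
    rw [this, e2]; group
  obtain ⟨g, hg, e1, e2⟩ := hM.symm
  have hθ : Mor F M (fun m => f' (g m)) := hg.1.comp hf' (fun m hm => hg.map_mem hm)
  have hθval : ∀ m ∈ M, m⁻¹ * f' (g m) ∈ P' := by
    intro m hm
    have := hz (g m) (hg.map_mem hm)
    rwa [e2 m hm] at this
  have hθM : ∀ m ∈ M, f' (g m) ∈ M := by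
    intro m hm
    have h1 := hP'M (hθval m hm)
    have h2 : f' (g m) = m * (m⁻¹ * f' (g m)) := by group
    rw [h2]; exact M.mul_mem hm h1
  have hθiso : Iso F M M (fun m => f' (g m)) := iso_of_card_le hθ hM.le_right hθM le_rfl
  have hθfix : ∀ y ∈ P', f' (g y) = y := by
    rintro y ⟨x, hx, rfl⟩
    rw [e1 x (hPN hx), ← heq x hx]
  have hfinM : Finite M := finite_of_le hM.le_right
  let Θ : MulAut M := hθiso.equiv
  have hΘA : Θ ∈ F.autGroup M := hθiso.equiv_mem_autGroup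
  let R₀ : Subgroup M := P'.subgroupOf M
  have hR₀p : IsPGroup p R₀ := by
    apply IsPGroup.of_injective hS ((Subgroup.inclusion hM.le_right).comp R₀.subtype)
    intro a b hab
    have := congrArg Subtype.val hab
    exact Subtype.ext (Subtype.ext this)
  obtain ⟨k, hk⟩ := IsPGroup.iff_card.1 hR₀p
  have hΘpow : Θ ^ p ^ k = 1 := by
    rw [← hk]
    apply pow_card_eq_one_of_stabilizes Θ R₀
    · intro x hx
      apply Subtype.ext
      show f' (g x) = x
      exact hθfix x hx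
    · intro x
      show ((x⁻¹ * Θ x : M) : Ω) ∈ P'
      exact hθval x x.2
  obtain ⟨hMS, R, hR⟩ := fullyAutomized_of_fullyNormalized hS hF hfn
  let a : F.autGroup M := ⟨Θ, hΘA⟩
  have ha : a ^ p ^ k = 1 := Subtype.ext (by simpa using hΘpow)
  obtain ⟨b, hb⟩ := exists_conj_mem_sylow R a k ha
  have hb' : ((b * a * b⁻¹ : F.autGroup M) : MulAut M) ∈ autInducedBy S M := by
    have : b * a * b⁻¹ ∈ (R : Subgroup (F.autGroup M)) := hb
    rw [hR, Subgroup.mem_subgroupOf] at this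
    exact this
  obtain ⟨u, huS, eu⟩ := mem_autInducedBy_iff.1 hb'
  let β : MulAut M := (b : MulAut M)
  have hβ : Mor F M (extAut β) := (mem_autGroup_iff hMS).1 b.2
  have hP'' : Iso F P' (hβ.restrict hP'M).image (extAut β) := Iso.of_mor _
  have hP''cen : F.IsCentric (hβ.restrict hP'M).image :=
    isCentric_of_conj hP'cen (isConj_iff.2 ⟨_, hP''⟩)
  have hu : u ∈ (hβ.restrict hP'M).image := by
    apply hP''cen.2 _ (isConj_refl hP''cen.1)
    refine ⟨huS, ?_⟩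
    show _ ∈ Subgroup.centralizer _
    rw [Subgroup.mem_centralizer_iff]
    rintro y' ⟨y, hy, rfl⟩
    have hyM : y ∈ M := hP'M hy
    have h1 := eu (β ⟨y, hyM⟩)
    have h2 : ((b * a * b⁻¹ : F.autGroup M) : MulAut M) (β ⟨y, hyM⟩) = β ⟨y, hyM⟩ := by
      show β (Θ (β⁻¹ (β ⟨y, hyM⟩))) = _
      rw [MulAut.inv_apply_self]
      congr 1
      apply Subtype.ext
      exact hθfix y hy
    rw [h2, ← extAut_mem β hyM] at h1
    calc extAut β y * u = (u * extAut β y * u⁻¹) * u := by rw [← h1]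
      _ = u * extAut β y := by group
  obtain ⟨y₀, hy₀, rfl⟩ := hu
  have hy₀M : y₀ ∈ M := hP'M hy₀
  refine ⟨y₀, hy₀M, fun x hx => ?_⟩
  have hfx : f x ∈ M := hM.map_mem hx
  have h1 := eu (β ⟨f x, hfx⟩)
  have h2 : ((b * a * b⁻¹ : F.autGroup M) : MulAut M) (β ⟨f x, hfx⟩) = β (Θ ⟨f x, hfx⟩) := by
    show β (Θ (β⁻¹ (β ⟨f x, hfx⟩))) = _
    rw [MulAut.inv_apply_self]
  rw [h2, extAut_mem β hy₀M] at h1
  have h3 : β (Θ ⟨f x, hfx⟩) = β (⟨y₀, hy₀M⟩ * ⟨f x, hfx⟩ * ⟨y₀, hy₀M⟩⁻¹) := by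
    apply Subtype.ext
    rw [h1, map_mul, map_mul, map_inv]; rfl
  have h4 := β.injective h3
  have h5 := congrArg Subtype.val h4
  have h6 : ((Θ ⟨f x, hfx⟩ : M) : Ω) = f' (g (f x)) := rfl
  rw [h6, e1 x hx] at h5
  exact h5


/-- uniqueness of extensions from a centric normal subgroup: two maps of the system on `N` agreeing on the
centric subgroup `P ⊴ N` differ by conjugation by an element of `S` -/
theorem unique_ext {p : ℕ} [Fact p.Prime] [Finite S] (hS : IsPGroup p S) {F : FusionSystem S}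
    (hF : F.IsSaturated p) {P N : Subgroup Ω} {f f' : Ω → Ω} (hP : F.IsCentric P) (hPN : P ≤ N)
    (hNP : ∀ n ∈ N, n ∈ Subgroup.normalizer (P : Set Ω)) (hf : Mor F N f)
    (hf' : Mor F N f') (heq : ∀ x ∈ P, f x = f' x) :
    ∃ w ∈ S, ∀ x ∈ N, f' x = w * f x * w⁻¹ := by
  classical
  have hM : Iso F N hf.image f := Iso.of_mor hf
  set M := hf.image with hMdef
  have hPP' : Iso F P (hf.restrict hPN).image f := Iso.of_mor _
  have hP'cen : F.IsCentric (hf.restrict hPN).image := isCentric_of_conj hP (isConj_iff.2 ⟨f, hPP'⟩)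
  have hP'M : (hf.restrict hPN).image ≤ M := by
    rintro y ⟨x, hx, rfl⟩
    exact hM.map_mem (hPN hx)
  have hz : ∀ x ∈ N, (f x)⁻¹ * f' x ∈ (hf.restrict hPN).image := by
    intro x hx
    apply hP'cen.2 _ (isConj_refl hP'cen.1)
    refine ⟨S.mul_mem (S.inv_mem (hf.mem hx)) (hf'.mem hx), ?_⟩
    show _ ∈ Subgroup.centralizer _
    rw [Subgroup.mem_centralizer_iff]
    rintro y' ⟨y, hy, rfl⟩
    have hxy : x * y * x⁻¹ ∈ P := (Subgroup.mem_normalizer_iff.1 (hNP x hx) y).1 hy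
    have e1 := hf.map_conj hx (hPN hy)
    have e2 := hf'.map_conj hx (hPN hy)
    rw [← heq _ hxy, ← heq y hy, e1] at e2
    have : f y * ((f x)⁻¹ * f' x) = (f x)⁻¹ * (f x * f y * (f x)⁻¹) * f' x := by group
    rw [this, e2]; group
  have hf'M : ∀ x ∈ N, f' x ∈ M := by
    intro x hx
    have h1 := hP'M (hz x hx)
    have h2 : f' x = f x * ((f x)⁻¹ * f' x) := by group
    rw [h2]; exact M.mul_mem (hM.map_mem hx) h1
  obtain ⟨M', hMM', hfn⟩ := exists_fullyNormalized_conj F hM.le_right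
  obtain ⟨κ, hκ⟩ := isConj_iff.1 hMM'
  have h1 : Iso F N M' (fun x => κ (f x)) := hM.comp hκ
  have h2 : Mor F N (fun x => κ (f' x)) := hf'.comp hκ.1 hf'M
  obtain ⟨w₁, hw₁, e⟩ := unique_ext_aux hS hF hP hPN hNP h1 hfn h2
    (fun x hx => by rw [heq x hx])
  obtain ⟨w₀, hw₀, rfl⟩ := hκ.surj hw₁
  refine ⟨w₀, hM.le_right hw₀, fun x hx => ?_⟩
  have hfx : f x ∈ M := hM.map_mem hx
  have h3 : κ (f' x) = κ w₀ * κ (f x) * (κ w₀)⁻¹ := e x hx
  rw [← hκ.1.map_conj hw₀ hfx] at h3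
  exact hκ.1.inj (hf'M x hx) (M.mul_mem (M.mul_mem hw₀ hfx) (M.inv_mem hw₀)) h3

theorem Mor.of_le {F F' : FusionSystem S} (hle : F' ≤ F) {P : Subgroup Ω} {f : Ω → Ω}
    (h : Mor F' P f) : Mor F P f := by
  obtain ⟨φ, hφ, e⟩ := h
  exact ⟨φ, hle P hφ, e⟩

/-- **Key lemma**: for saturated `F' ≤ F` over `S`, a map of `F` on `R` whose restriction to an `F`-centric
subgroup `P ≤ R` lies in `F'` lies itself in `F'`. -/
theorem mor_sub_of_centric {p : ℕ} [Fact p.Prime] [Finite S] (hS : IsPGroup p S)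
    {F F' : FusionSystem S} (hF : F.IsSaturated p) (hF' : F'.IsSaturated p) (hle : F' ≤ F)
    {R : Subgroup Ω} {ψ : Ω → Ω} (hψ : Mor F R ψ) :
    ∀ P : Subgroup Ω, P ≤ R → F.IsCentric P → Mor F' P ψ → Mor F' R ψ := by
  classical
  have hRS : R ≤ S := hψ.le
  have hfinR : Finite R := finite_of_le hRS
  have hRp : IsPGroup p R := hS.to_le hRS
  suffices H : ∀ n : ℕ, ∀ P : Subgroup Ω, P ≤ R → F.IsCentric P → Mor F' P ψ →
      Nat.card R - Nat.card P = n → Mor F' R ψ from fun P h1 h2 h3 => H _ P h1 h2 h3 rfl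
  intro n
  induction n using Nat.strong_induction_on with
  | _ n ih =>
    intro P hPR hP hψP hn
    by_cases hPeq : P = R
    · rw [← hPeq]; exact hψP
    obtain ⟨n₀, hn₀, hn₀P⟩ := exists_normalizer_not_mem (S := R) hRp hPR hPeq
    set N := normalizerIn R P with hN
    have hPN : P ≤ N := le_normalizerIn hPR
    have hNR : N ≤ R := inf_le_left
    have hNS : N ≤ S := hNR.trans hRS
    have hlt : Nat.card P < Nat.card N := card_lt_of_not_mem hPN hNS hn₀ hn₀P
    have hNcard : Nat.card N ≤ Nat.card R := Subgroup.card_le_of_le hNR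
    have hI' : Iso F' P hψP.image ψ := Iso.of_mor hψP
    have hI : Iso F P hψP.image ψ := ⟨Mor.of_le hle hψP, hI'.2⟩
    have hP'cen : F.IsCentric hψP.image := isCentric_of_conj hP (isConj_iff.2 ⟨ψ, hI⟩)
    have hfc : F'.IsFullyCentralized hψP.image := by
      refine ⟨hP'cen.1, fun Q hQ => ?_⟩
      obtain ⟨g, hg⟩ := isConj_iff.1 hQ
      obtain ⟨g', hg', e1, e2⟩ := hg.symm
      have hgF : Iso F hψP.image Q g := ⟨Mor.of_le hle hg.1, hg.2⟩
      have hQcen : centralizerIn S Q ≤ Q := hP'cen.2 Q (isConj_iff.2 ⟨g, hgF⟩)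
      apply card_le_of_mor (hg'.1.restrict hQcen) inf_le_left
      intro c hc
      refine ⟨hg'.1.mem (hQcen hc), ?_⟩
      show _ ∈ Subgroup.centralizer _
      rw [Subgroup.mem_centralizer_iff]
      intro y hy
      have hgy : g y ∈ Q := hg.map_mem hy
      have hcomm : g y * c = c * g y := (Subgroup.mem_centralizer_iff.1 hc.2) (g y) hgy
      rw [← e1 y hy, ← hg'.1.map_mul hgy (hQcen hc), ← hg'.1.map_mul (hQcen hc) hgy, hcomm]
    have hrec := receptive_of_fullyCentralized hS hF' hfc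
    obtain ⟨χ, hχ, eχ⟩ := (isReceptive_iff.1 hrec).2 P ψ hI'
    have hNext : N ≤ hI'.ext := by
      intro m hm
      refine ⟨hNS hm, hm.2, ψ m, hψ.mem (hNR hm), fun x hx => ?_⟩
      exact hψ.map_conj (hNR hm) (hPR hx)
    have hχN : Mor F' N χ := hχ.restrict hNext
    obtain ⟨w, hw, ew⟩ := unique_ext hS hF hP hPN (fun m hm => hm.2) (hψ.restrict hNR)
      (Mor.of_le hle hχN) (fun x hx => (eχ x hx).symm)
    have hψN : Mor F' N ψ := by
      have hc : Mor F' hχN.image (fun y => w⁻¹ * y * w⁻¹⁻¹) :=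
        Mor.conj hχN.image_le (S.inv_mem hw)
      have := hχN.comp hc (fun x hx => ⟨x, hx, rfl⟩)
      refine this.congr (fun x hx => ?_)
      show w⁻¹ * χ x * w⁻¹⁻¹ = ψ x
      rw [ew x hx]; group
    have hNcen : F.IsCentric N := isCentric_of_le hP hPN hNS
    exact ih (Nat.card R - Nat.card N) (by omega) N hNR hNcen hψN rfl

end Cfsg.Agent.Helper88
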