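import Mathlib

set_option autoImplicit false

namespace Cfsg.Agent.Helper88

/-! ### Fitting decomposition for a coprime action on a finite abelian group -/

section

variable {M : Type*} [CommGroup M] [Finite M]

/-- fixed points of a group of automorphisms -/
def fixedSub (A : Subgroup (MulAut M)) : Subgroup M where
  carrier := {x | ∀ α ∈ A, α x = x}
  mul_mem' := by
    intro a b ha hb α hα
    rw [map_mul, ha α hα, hb α hα]
  one_mem' := by intro α _; exact map_one α
  inv_mem' := by
    intro a ha α hα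
    rw [map_inv, ha α hα]

/-- the commutator `[M, A]` -/
def commSub (A : Subgroup (MulAut M)) : Subgroup M :=
  Subgroup.closure {y | ∃ α ∈ A, ∃ x : M, y = x⁻¹ * α x}

omit [Finite M] in
theorem mem_fixedSub {A : Subgroup (MulAut M)} {x : M} : x ∈ fixedSub A ↔ ∀ α ∈ A, α x = x := Iff.rfl

theorem coprime_decomp (A : Subgroup (MulAut M)) (hcop : Nat.Coprime (Nat.card A) (Nat.card M)) :
    fixedSub A ⊓ commSub A = ⊥ ∧ fixedSub A ⊔ commSub A = ⊤ := by
  classical
  letI : Fintype A := Fintype.ofFinite A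
  set n := Nat.card A with hn
  -- the norm map
  let N : M →* M := ∏ α : A, ((α : MulAut M) : M ≃* M).toMonoidHom
  have hN : ∀ x, N x = ∏ α : A, (α : MulAut M) x := by
    intro x
    simp only [N, MonoidHom.finsetProd_apply]
    rfl
  have hfix : ∀ x ∈ fixedSub A, N x = x ^ n := by
    intro x hx
    rw [hN]
    have : ∀ α : A, (α : MulAut M) x = x := fun α => hx α α.2
    simp only [this, Finset.prod_const, Finset.card_univ]
    rw [hn, Nat.card_eq_fintype_card]
  have hinv : ∀ (β : MulAut M), β ∈ A → ∀ x, N (β x) = N x := by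
    intro β hβ x
    rw [hN, hN]
    let β' : A := ⟨β, hβ⟩
    apply Fintype.prod_equiv (Equiv.mulRight β')
    intro α
    show (α : MulAut M) (β x) = ((α * β' : A) : MulAut M) x
    rfl
  have hker : commSub A ≤ N.ker := by
    unfold commSub
    rw [Subgroup.closure_le]
    rintro y ⟨α, hα, x, rfl⟩
    rw [SetLike.mem_coe, MonoidHom.mem_ker, map_mul, map_inv, hinv α hα, inv_mul_cancel]
  have hdecomp : ∀ x : M, x ^ n * (N x)⁻¹ ∈ commSub A := by
    intro x
    have h1 : x ^ n * (N x)⁻¹ = ∏ α : A, (x * ((α : MulAut M) x)⁻¹) := by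
      rw [Finset.prod_mul_distrib, Finset.prod_inv_distrib, ← hN, Finset.prod_const, Finset.card_univ,
        hn, Nat.card_eq_fintype_card]
    rw [h1]
    apply Subgroup.prod_mem
    intro α _
    have h2 : x * ((α : MulAut M) x)⁻¹ = (x⁻¹ * (α : MulAut M) x)⁻¹ := by
      rw [mul_inv_rev, inv_inv, mul_comm]
    rw [h2]
    apply Subgroup.inv_mem
    exact Subgroup.subset_closure ⟨α, α.2, x, rfl⟩
  have hfixN : ∀ x, N x ∈ fixedSub A := by
    intro x β hβ
    rw [hN, map_prod]
    let β' : A := ⟨β, hβ⟩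
    apply Fintype.prod_equiv (Equiv.mulLeft β')
    intro α
    show β ((α : MulAut M) x) = ((β' * α : A) : MulAut M) x
    rfl
  have hord : ∀ x : M, Nat.Coprime n (orderOf x) :=
    fun x => Nat.Coprime.coprime_dvd_right (orderOf_dvd_natCard x) hcop
  constructor
  · rw [eq_bot_iff]
    rintro x ⟨hx1, hx2⟩
    rw [Subgroup.mem_bot]
    have h1 : N x = x ^ n := hfix x hx1
    have h2 : N x = 1 := MonoidHom.mem_ker.mp (hker hx2)
    have h3 : x ^ n = 1 := by rw [← h1, h2]
    have h4 : orderOf x ∣ n := orderOf_dvd_of_pow_eq_one h3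
    have h5 : orderOf x ∣ Nat.gcd n (orderOf x) := Nat.dvd_gcd h4 dvd_rfl
    rw [hord x] at h5
    exact orderOf_eq_one_iff.mp (Nat.dvd_one.mp h5)
  · rw [eq_top_iff]
    intro x _
    obtain ⟨m, hm⟩ := exists_pow_eq_self_of_coprime (hord x)
    rw [← hm]
    apply Subgroup.pow_mem
    have : x ^ n = N x * (x ^ n * (N x)⁻¹) := by
      rw [mul_comm (x ^ n), mul_inv_cancel_left]
    rw [this]
    exact Subgroup.mul_mem _ (Subgroup.mem_sup_left (hfixN x)) (Subgroup.mem_sup_right (hdecomp x))

end

end Cfsg.Agent.Helper88
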