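import Mathlib
import Cfsg.Agent.Lib.Helper87.FusionAlperin
import Cfsg.Agent.Lib.Helper88.CoprimeAbelian

set_option autoImplicit false

namespace Cfsg.Agent.Helper88

open Cfsg Cfsg.FusionSystem Cfsg.Agent.Helper87

variable {Ω : Type*} [Group Ω] {S : Subgroup Ω}

/-! ### Saturated fusion systems over an abelian `p`-group -/

theorem conj_eq_of_abelian (hab : ∀ x ∈ S, ∀ y ∈ S, x * y = y * x) {s x : Ω} (hs : s ∈ S)
    (hx : x ∈ S) : s * x * s⁻¹ = x := by
  rw [hab s hs x hx, mul_inv_cancel_right]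

theorem le_normalizer_of_abelian (hab : ∀ x ∈ S, ∀ y ∈ S, x * y = y * x) {P : Subgroup Ω}
    (hP : P ≤ S) : S ≤ Subgroup.normalizer (P : Set Ω) := by
  intro s hs
  rw [Subgroup.mem_normalizer_iff]
  intro x
  constructor
  · intro hx; rw [conj_eq_of_abelian hab hs (hP hx)]; exact hx
  · intro hx
    have h1 : s⁻¹ * (s * x * s⁻¹) * s⁻¹⁻¹ = s * x * s⁻¹ :=
      conj_eq_of_abelian hab (S.inv_mem hs) (hP hx)
    have h2 : s⁻¹ * (s * x * s⁻¹) * s⁻¹⁻¹ = x := by group
    rw [← h2, h1]; exact hx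

theorem normalizerIn_eq_of_abelian (hab : ∀ x ∈ S, ∀ y ∈ S, x * y = y * x) {P : Subgroup Ω}
    (hP : P ≤ S) : normalizerIn S P = S := by
  unfold normalizerIn
  exact inf_eq_left.2 (le_normalizer_of_abelian hab hP)

theorem fullyNormalized_of_abelian [Finite S] (hab : ∀ x ∈ S, ∀ y ∈ S, x * y = y * x)
    (F : FusionSystem S) {P : Subgroup Ω} (hP : P ≤ S) : F.IsFullyNormalized P := by
  refine ⟨hP, fun Q _ => ?_⟩
  rw [normalizerIn_eq_of_abelian hab hP]
  exact card_normalizerIn_le Q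

/-- over an abelian group every map of a saturated system extends to an automorphism of `S` in the system -/
theorem exists_extension_top {p : ℕ} [Fact p.Prime] [Finite S] (hS : IsPGroup p S)
    {F : FusionSystem S} (hF : F.IsSaturated p) (hab : ∀ x ∈ S, ∀ y ∈ S, x * y = y * x)
    {P : Subgroup Ω} {f : Ω → Ω} (hf : Mor F P f) :
    ∃ g, Iso F S S g ∧ ∀ x ∈ P, g x = f x := by
  have hiso : Iso F P hf.image f := Iso.of_mor hf
  have hQ : F.IsFullyNormalized hf.image := fullyNormalized_of_abelian hab F hf.image_le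
  have hrec := receptive_of_fullyNormalized hS hF hQ
  obtain ⟨g, hg, hgf⟩ := (isReceptive_iff.1 hrec).2 P f hiso
  have hle : S ≤ hiso.ext := by
    intro s hs
    refine ⟨hs, le_normalizer_of_abelian hab hf.le hs, 1, S.one_mem, fun x hx => ?_⟩
    rw [conj_eq_of_abelian hab hs (hf.le hx)]; simp
  have hgS : Mor F S g := hg.restrict hle
  exact ⟨g, iso_of_card_le hgS le_rfl (fun n hn => hgS.mem hn) le_rfl, hgf⟩

theorem autInducedBy_eq_bot_of_abelian (hab : ∀ x ∈ S, ∀ y ∈ S, x * y = y * x) :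
    autInducedBy S S = ⊥ := by
  rw [eq_bot_iff]
  intro α hα
  rw [Subgroup.mem_bot]
  obtain ⟨g, hg, h⟩ := mem_autInducedBy_iff.1 hα
  apply MulEquiv.ext
  intro x
  apply Subtype.ext
  rw [h x, conj_eq_of_abelian hab hg x.2]
  rfl

/-- over an abelian `p`-group, `Aut_F(S)` has order prime to `p` -/
theorem coprime_card_autGroup_top {p : ℕ} [Fact p.Prime] [Finite S] (hS : IsPGroup p S)
    {F : FusionSystem S} (hF : F.IsSaturated p) (hab : ∀ x ∈ S, ∀ y ∈ S, x * y = y * x) :
    Nat.Coprime (Nat.card (F.autGroup S)) p := by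
  have hfa := fullyAutomized_of_fullyNormalized hS hF (fullyNormalized_self F)
  obtain ⟨-, R, hR⟩ := hfa
  rw [autInducedBy_eq_bot_of_abelian hab] at hR
  have hRbot : (R : Subgroup (F.autGroup S)) = ⊥ := by
    rw [hR]
    exact Subgroup.bot_subgroupOf _
  have hnd := R.not_dvd_index
  rw [hRbot, Subgroup.index_bot] at hnd
  exact (Nat.Coprime.symm ((Nat.Prime.coprime_iff_not_dvd (Fact.out : p.Prime)).2 hnd))

end Cfsg.Agent.Helper88
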