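import Mathlib
import Cfsg.Agent.Lib.Helper88.FusionAbelian

set_option autoImplicit false

namespace Cfsg.Agent.Helper88

open Cfsg Cfsg.FusionSystem Cfsg.Agent.Helper87

variable {Ω : Type*} [Group Ω] {S : Subgroup Ω}

/-! ### the inner fusion system of an abelian group -/

theorem inner_hom_apply (hab : ∀ x ∈ S, ∀ y ∈ S, x * y = y * x) {T : Subgroup Ω} (hTS : T ≤ S)
    {P : Subgroup Ω} {φ : P →* Ω} (hφ : φ ∈ (innerFusionSystem T).Hom P) (x : P) : φ x = x := by
  obtain ⟨hP, g, hg, h⟩ := hφ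
  rw [h x]
  exact conj_eq_of_abelian hab (hTS hg) (hTS (hP x.2))

theorem incl_mem_inner {T P : Subgroup Ω} (hP : P ≤ T) : conjHom P 1 ∈ (innerFusionSystem T).Hom P :=
  (innerFusionSystem T).conj_mem hP T.one_mem

theorem conjHom_one_apply {P : Subgroup Ω} (x : P) : conjHom P 1 x = x := by
  show (1 : Ω) * x * 1⁻¹ = x
  simp

theorem autGroup_inner_eq_bot (hab : ∀ x ∈ S, ∀ y ∈ S, x * y = y * x) {T : Subgroup Ω} (hTS : T ≤ S)
    {P : Subgroup Ω} (hP : P ≤ T) : (innerFusionSystem T).autGroup P = ⊥ := by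
  rw [eq_bot_iff]
  intro α hα
  rw [Subgroup.mem_bot]
  obtain ⟨φ, hφ, e⟩ := (mem_autGroup_iff hP).1 hα
  apply MulEquiv.ext
  intro x
  apply Subtype.ext
  have h1 := e x
  rw [extAut_apply, inner_hom_apply hab hTS hφ] at h1
  rw [← h1]; rfl

theorem inner_isSaturated (hab : ∀ x ∈ S, ∀ y ∈ S, x * y = y * x) {T : Subgroup Ω} (hTS : T ≤ S)
    (p : ℕ) : (innerFusionSystem T).IsSaturated p := by
  intro P hP
  refine ⟨P, isConj_refl hP, ⟨hP, ?_⟩, ⟨hP, ?_⟩⟩
  · obtain ⟨R⟩ : Nonempty (Sylow p ((innerFusionSystem T).autGroup P)) := Sylow.nonempty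
    refine ⟨R, ?_⟩
    have hsub : ∀ a : (innerFusionSystem T).autGroup P, a = 1 := by
      intro a
      apply Subtype.ext
      have h1 : (a : MulAut P) ∈ (⊥ : Subgroup (MulAut P)) :=
        (autGroup_inner_eq_bot hab hTS hP) ▸ a.2
      exact Subgroup.mem_bot.mp h1
    ext a
    rw [hsub a]
    exact ⟨fun _ => Subgroup.one_mem _, fun _ => Subgroup.one_mem _⟩
  · intro P0 φ hφ _
    have hext : extender T P0 φ ≤ T := by
      unfold extender
      rw [Subgroup.closure_le]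
      intro g hg
      exact hg.1
    refine ⟨conjHom _ 1, incl_mem_inner hext, fun x hP0 hN => ?_⟩
    rw [conjHom_one_apply, inner_hom_apply hab hTS hφ]

/-- over an abelian `p`-group, the inner system of a strongly closed subgroup is a normal subsystem -/
theorem inner_isNormalIn {p : ℕ} [Fact p.Prime] [Finite S] (hS : IsPGroup p S) {F : FusionSystem S}
    (hF : F.IsSaturated p) (hab : ∀ x ∈ S, ∀ y ∈ S, x * y = y * x) {T : Subgroup Ω}
    (hT : F.StronglyClosed T) : (innerFusionSystem T).IsNormalIn F p := by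
  have hTS : T ≤ S := hT.1
  refine ⟨⟨inner_isSaturated hab hTS p, hF, ?_, hT, ?_, ?_⟩, ?_⟩
  · -- subsystem
    intro P φ hφ
    obtain ⟨hP, g, hg, h⟩ := hφ
    have : φ = conjHom P g := by
      ext x; exact h x
    rw [this]
    exact F.conj_mem (hP.trans hTS) (hTS hg)
  · -- invariance
    intro P hPT φ hφ α hα
    have hle : (P.subgroupOf T).map (T.subtype.comp α.toMonoidHom) ≤ T := by
      rintro _ ⟨y, -, rfl⟩
      exact (α y).2
    refine ⟨conjHom _ 1, incl_mem_inner hle, fun x hφx hαx => ?_⟩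
    rw [conjHom_one_apply]
    show ((α ⟨x, hPT x.2⟩ : T) : Ω) = ((α ⟨φ x, hφx⟩ : T) : Ω)
    congr 2
    apply Subtype.ext
    exact (inner_hom_apply hab hTS hφ x).symm
  · -- Frattini
    intro P hPT φ hφ
    obtain ⟨g, hg, hgf⟩ := exists_extension_top hS hF hab (mor_of_mem hφ)
    have hgT : Mor F T g := hg.1.restrict hTS
    have hmaps : ∀ n ∈ T, g n ∈ T := by
      intro n hn
      obtain ⟨ψ, hψ, e⟩ := hgT
      rw [← e ⟨n, hn⟩]
      exact hT.2 T le_rfl ψ hψ ⟨n, hn⟩
    have hiso : Iso F T T g := iso_of_card_le hgT hTS hmaps le_rfl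
    refine ⟨hiso.equiv, hiso.equiv_mem_autGroup, conjHom P 1, incl_mem_inner hPT, fun x hx => ?_⟩
    rw [hiso.equiv_apply]
    show φ x = g (conjHom P 1 x)
    rw [conjHom_one_apply, hgf x x.2, extFun_apply]
  · -- extension condition
    intro α hα
    rw [autGroup_inner_eq_bot hab hTS le_rfl, Subgroup.mem_bot] at hα
    refine ⟨1, Subgroup.one_mem _, fun x => ?_, fun c _ => ?_⟩
    · rw [hα]; rfl
    · show (c : Ω)⁻¹ * (c : Ω) ∈ _
      rw [inv_mul_cancel]
      exact Subgroup.one_mem _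

end Cfsg.Agent.Helper88
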