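import Mathlib
import Cfsg.Prelude.Def_FischerSpaces
import Cfsg.Prelude.Def_Solvable
import Cfsg.Agent.Lib.Helper67.BaerSuzuki

set_option autoImplicit false

namespace Cfsg.Agent.Helper88

open Cfsg

variable {G : Type*} [Group G]

/-! ### involutions -/

theorem mul_self_of_orderOf_two {d : G} (h : orderOf d = 2) : d * d = 1 := by
  have hd2 : d ^ 2 = 1 := by rw [← h]; exact pow_orderOf_eq_one d
  rw [← pow_two]; exact hd2

theorem inv_eq_self_of_mul_self {d : G} (h : d * d = 1) : d⁻¹ = d := by
  rw [inv_eq_iff_mul_eq_one]; exact h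

theorem commute_of_sq_eq_one {a b : G} (ha : a * a = 1) (hb : b * b = 1) (h : (a * b) ^ 2 = 1) :
    Commute a b := by
  have hainv := inv_eq_self_of_mul_self ha
  have hbinv := inv_eq_self_of_mul_self hb
  show a * b = b * a
  have h2 : a * b * (a * b) = 1 := by rw [← pow_two]; exact h
  calc a * b = (a * b * (a * b)) * (b⁻¹ * a⁻¹) := by group
    _ = b * a := by rw [h2, one_mul, hainv, hbinv]

theorem sq_eq_one_of_commute {a b : G} (ha : a * a = 1) (hb : b * b = 1) (h : Commute a b) :
    (a * b) * (a * b) = 1 := by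
  calc a * b * (a * b) = a * (b * a) * b := by group
    _ = a * (a * b) * b := by rw [h.eq]
    _ = (a * a) * (b * b) := by group
    _ = 1 := by rw [ha, hb, one_mul]

theorem commute_conj_iff (g a e : G) : Commute (g * a * g⁻¹) e ↔ Commute a (g⁻¹ * e * g) := by
  have h := Commute.conj_iff (a := a) (b := g⁻¹ * e * g) g
  have h2 : g * (g⁻¹ * e * g) * g⁻¹ = e := by group
  rw [h2] at h
  exact h

/-! ### classes and sets of 3-transpositions -/

/-- hypotheses bundle: `D` a conjugation-invariant set of 3-transpositions -/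
structure TT (D : Set G) : Prop where
  sq : ∀ d ∈ D, d * d = 1
  prod : ∀ d ∈ D, ∀ e ∈ D, (d * e) ^ 2 = 1 ∨ (d * e) ^ 3 = 1
  conj : ∀ g : G, ∀ d ∈ D, g * d * g⁻¹ ∈ D

theorem conj_mem_of_class {D : Set G} (hD : IsThreeTranspositionClass D) (g : G) {x : G}
    (hx : x ∈ D) : g * x * g⁻¹ ∈ D := by
  obtain ⟨-, ⟨d, -, hDd⟩, -⟩ := hD
  rw [hDd] at hx ⊢
  have hx' : IsConj d x := hx
  show IsConj d (g * x * g⁻¹)
  exact hx'.trans (isConj_iff.2 ⟨g, rfl⟩)

theorem TT.of_class {D : Set G} (hD : IsThreeTranspositionClass D) : TT D where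
  sq d hd := mul_self_of_orderOf_two (hD.1.1 d hd)
  prod := hD.1.2
  conj g _ hd := conj_mem_of_class hD g hd

theorem TT.of_group {D : Set G} (hD : IsThreeTranspositionGroup D) : TT D where
  sq d hd := mul_self_of_orderOf_two (hD.1.1 d hd)
  prod := hD.1.2
  conj := hD.2.1

namespace TT

variable {D : Set G} (h : TT D)
include h

theorem inv_eq {d : G} (hd : d ∈ D) : d⁻¹ = d := inv_eq_self_of_mul_self (h.sq d hd)

theorem conj' {d : G} (hd : d ∈ D) (g : G) : g⁻¹ * d * g ∈ D := by
  have := h.conj g⁻¹ d hd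
  rwa [inv_inv] at this

theorem commute_or_cube {a b : G} (ha : a ∈ D) (hb : b ∈ D) : Commute a b ∨ (a * b) ^ 3 = 1 := by
  rcases h.prod a ha b hb with h2 | h3
  · left; exact commute_of_sq_eq_one (h.sq a ha) (h.sq b hb) h2
  · right; exact h3

/-- braid relation for non-commuting members -/
theorem braid {a b : G} (ha : a ∈ D) (hb : b ∈ D) (hab : ¬ Commute a b) : a * b * a = b * a * b := by
  rcases h.commute_or_cube ha hb with hc | h3
  · exact absurd hc hab
  · have hainv := h.inv_eq ha
    have hbinv := h.inv_eq hb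
    have h3' : a * b * (a * b) * (a * b) = 1 := by
      rw [← h3, pow_succ, pow_two]
    calc a * b * a = (a * b * (a * b) * (a * b)) * (b⁻¹ * a⁻¹ * b⁻¹) := by group
      _ = b * a * b := by rw [h3', one_mul, hainv, hbinv]

/-- `b a b⁻¹ = a b a⁻¹` for non-commuting members -/
theorem conj_swap {a b : G} (ha : a ∈ D) (hb : b ∈ D) (hab : ¬ Commute a b) :
    b * a * b⁻¹ = a * b * a⁻¹ := by
  rw [h.inv_eq ha, h.inv_eq hb]
  exact (h.braid ha hb hab).symm

end TT

/-! ### the relation "commutes with the same members of `D`" -/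

/-- `a` and `b` commute with the same members of `D` -/
def Sim (D : Set G) (a b : G) : Prop := ∀ e ∈ D, Commute a e ↔ Commute b e

namespace Sim

variable {D : Set G} {a b c : G}

theorem refl (D : Set G) (a : G) : Sim D a a := fun _ _ => Iff.rfl

theorem symm (h : Sim D a b) : Sim D b a := fun e he => (h e he).symm

theorem trans (h1 : Sim D a b) (h2 : Sim D b c) : Sim D a c := fun e he => (h1 e he).trans (h2 e he)

theorem commute (h : Sim D a b) (hb : b ∈ D) : Commute a b := (h b hb).mpr (Commute.refl b)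

theorem conj (hT : TT D) (h : Sim D a b) (g : G) : Sim D (g * a * g⁻¹) (g * b * g⁻¹) := by
  intro e he
  rw [commute_conj_iff, commute_conj_iff]
  exact h _ (hT.conj' he g)

end Sim

/-- Key lemma: a product of two equivalent members of `D` preserves every equivalence class. -/
theorem sim_conj_mul {D : Set G} (hT : TT D) {a' b' a : G} (ha' : a' ∈ D) (hb' : b' ∈ D) (ha : a ∈ D)
    (hs : Sim D a' b') : Sim D a ((a' * b') * a * (a' * b')⁻¹) := by
  by_cases hc : Commute a' a
  · have hc' : Commute b' a := (hs a ha).mp hc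
    have : (a' * b') * a * (a' * b')⁻¹ = a := by
      have h1 : Commute (a' * b') a := hc.mul_left hc'
      rw [h1.eq, mul_inv_cancel_right]
    rw [this]
    exact Sim.refl D a
  · have hc' : ¬ Commute b' a := fun h => hc ((hs a ha).mpr h)
    have h1 : a' * a * a'⁻¹ = a * a' * a⁻¹ := hT.conj_swap ha ha' (fun h => hc h.symm)
    have h2 : b' * a * b'⁻¹ = a * b' * a⁻¹ := hT.conj_swap ha hb' (fun h => hc' h.symm)
    -- Sim (a a' a⁻¹) (a b' a⁻¹)
    have h3 : Sim D (a' * a * a'⁻¹) (b' * a * b'⁻¹) := by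
      rw [h1, h2]; exact hs.conj hT a
    have h4 := h3.conj hT a'
    have h5 : a' * (a' * a * a'⁻¹) * a'⁻¹ = a := by
      rw [hT.inv_eq ha']
      calc a' * (a' * a * a') * a' = (a' * a') * a * (a' * a') := by group
        _ = a := by rw [hT.sq a' ha', one_mul, mul_one]
    have h6 : a' * (b' * a * b'⁻¹) * a'⁻¹ = (a' * b') * a * (a' * b')⁻¹ := by group
    rw [h5, h6] at h4
    exact h4

/-! ### `pCore` -/

theorem le_pCore {p : ℕ} {N : Subgroup G} (hN : N.Normal) (hp : IsPGroup p N) : N ≤ pCore p G :=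
  le_sSup ⟨hN, hp⟩

theorem pCore_normal (p : ℕ) (G : Type*) [Group G] : (pCore p G).Normal :=
  Subgroup.sSup_normal _ (fun _ h => h.1)

theorem pCore_isPGroup (p : ℕ) [Fact p.Prime] (G : Type*) [Group G] [Finite G] :
    IsPGroup p (pCore p G) := by
  obtain ⟨P⟩ : Nonempty (Sylow p G) := Sylow.nonempty
  refine P.isPGroup'.to_le (sSup_le ?_)
  rintro N ⟨hN, hp⟩
  obtain ⟨P₀, hP₀⟩ := hp.exists_le_sylow
  obtain ⟨g, hg⟩ := MulAction.exists_smul_eq G P₀ P
  intro n hn
  rw [← hg]
  have h1 : g⁻¹ * n * g⁻¹⁻¹ ∈ N := hN.conj_mem n hn g⁻¹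
  refine ⟨g⁻¹ * n * g⁻¹⁻¹, hP₀ h1, ?_⟩
  simp [MulAut.conj_apply, mul_assoc]

/-- a subgroup generated by pairwise commuting elements of square one is a `2`-group -/
theorem isPGroup_two_closure {s : Set G} (hsq : ∀ x ∈ s, x * x = 1)
    (hcomm : ∀ x ∈ s, ∀ y ∈ s, Commute x y) : IsPGroup 2 (Subgroup.closure s) := by
  have hcl : ∀ x ∈ Subgroup.closure s, x ^ 2 = 1 := by
    have hcommE := Subgroup.isMulCommutative_closure (k := s) (fun a ha b hb => hcomm a ha b hb)
    intro x hx
    induction hx using Subgroup.closure_induction with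
    | mem x hx => rw [pow_two]; exact hsq x hx
    | one => simp
    | mul x y hx hy ihx ihy =>
      have : Commute x y := setLike_mul_comm (s := Subgroup.closure s) hx hy
      rw [this.mul_pow, ihx, ihy, one_mul]
    | inv x hx ih => rw [inv_pow, ih, inv_one]
  rintro ⟨x, hx⟩
  refine ⟨1, ?_⟩
  apply Subtype.ext
  simpa using hcl x hx

theorem isPGroup_two_zpowers {y : G} (hy : y * y = 1) : IsPGroup 2 (Subgroup.zpowers y) := by
  rintro ⟨z, hz⟩
  refine ⟨1, ?_⟩
  apply Subtype.ext
  obtain ⟨n, rfl⟩ := hz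
  show (y ^ n) ^ (2 ^ 1) = 1
  rw [pow_one, ← zpow_natCast, ← zpow_mul, mul_comm, zpow_mul, zpow_natCast, pow_two, hy, one_zpow]

/-- **Main lemma** (uses Baer–Suzuki): the product of two members of `D` commuting with the same members
of `D` lies in `O_2(G)`. -/
theorem mul_mem_pCore_two [Finite G] {D : Set G} (hT : TT D) {d v : G} (hd : d ∈ D) (hv : v ∈ D)
    (hs : Sim D d v) : d * v ∈ pCore 2 G := by
  set x := d * v with hx
  have hdv : Commute d v := hs.commute hv
  have hxx : x * x = 1 := sq_eq_one_of_commute (hT.sq d hd) (hT.sq v hv) hdv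
  set cls : Set G := {w | w ∈ D ∧ Sim D d w} with hcls
  set E := Subgroup.closure cls with hE
  have hEp : IsPGroup 2 E := by
    apply isPGroup_two_closure
    · intro w hw; exact hT.sq w hw.1
    · intro w1 hw1 w2 hw2
      exact (hw1.2.symm.trans hw2.2).commute hw2.1
  have hxE : x ∈ E := E.mul_mem (Subgroup.subset_closure ⟨hd, Sim.refl D d⟩)
    (Subgroup.subset_closure ⟨hv, hs⟩)
  have key : ∀ g : G, IsPGroup 2 ↥(Subgroup.zpowers x ⊔ (Subgroup.zpowers x).map (MulAut.conj g).toMonoidHom) := by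
    intro g
    have hmap : (Subgroup.zpowers x).map (MulAut.conj g).toMonoidHom = Subgroup.zpowers (g * x * g⁻¹) := by
      rw [MonoidHom.map_zpowers]; rfl
    rw [hmap]
    set y := g * x * g⁻¹ with hy
    have hyy : y * y = 1 := by
      rw [hy]
      calc g * x * g⁻¹ * (g * x * g⁻¹) = g * (x * x) * g⁻¹ := by group
        _ = 1 := by rw [hxx, mul_one, mul_inv_cancel]
    have hyinv : y⁻¹ = y := inv_eq_self_of_mul_self hyy
    have hyab : y = (g * d * g⁻¹) * (g * v * g⁻¹) := by rw [hy, hx]; group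
    have hconjE : ∀ z ∈ E, y * z * y⁻¹ ∈ E := by
      intro z hz
      induction hz using Subgroup.closure_induction with
      | mem w hw =>
        apply Subgroup.subset_closure
        refine ⟨hT.conj y w hw.1, hw.2.trans ?_⟩
        rw [hyab]
        exact sim_conj_mul hT (hT.conj g d hd) (hT.conj g v hv) hw.1 (hs.conj hT g)
      | one => simp
      | mul a b _ _ iha ihb =>
        have : y * (a * b) * y⁻¹ = (y * a * y⁻¹) * (y * b * y⁻¹) := by group
        rw [this]; exact E.mul_mem iha ihb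
      | inv a _ iha =>
        have : y * a⁻¹ * y⁻¹ = (y * a * y⁻¹)⁻¹ := by group
        rw [this]; exact E.inv_mem iha
    have hnorm : Subgroup.zpowers y ≤ Subgroup.normalizer (E : Set G) := by
      rw [Subgroup.zpowers_le, Subgroup.mem_normalizer_iff]
      intro z
      constructor
      · exact hconjE z
      · intro hz
        have := hconjE _ hz
        rw [hyinv] at this
        have h2 : y * (y * z * y) * y = z := by
          calc y * (y * z * y) * y = (y * y) * z * (y * y) := by group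
            _ = z := by rw [hyy, one_mul, mul_one]
        rw [h2] at this
        exact this
    have hsup : IsPGroup 2 ↥(Subgroup.zpowers y ⊔ E) :=
      IsPGroup.to_sup_of_normal_right' (isPGroup_two_zpowers hyy) hEp hnorm
    apply hsup.to_le
    apply sup_le
    · exact le_sup_of_le_right (by rw [Subgroup.zpowers_le]; exact hxE)
    · exact le_sup_left
  obtain ⟨N, hN, hNp, hle⟩ := Cfsg.Agent.Helper67.baer_suzuki (p := 2) (Subgroup.zpowers x) key
  exact le_pCore hN hNp (hle (Subgroup.mem_zpowers x))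

end Cfsg.Agent.Helper88
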