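import Mathlib
import Cfsg.Agent.Lib.Helper17.PrimeTIApp

/-!
# Dihedral normalizer: the exceptional characters and the count of characters of degree prime to `p`
(helper88; strengthening of `Helper17.PrimeTI.dihedral_normalizer_degrees` that keeps the set `E`
of exceptional characters, the extra character `X`, and the fact that every other non-trivial
irreducible character has degree divisible by `p`.)
-/

set_option autoImplicit false
set_option linter.style.haveILetI false
set_option linter.unusedSectionVars false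

namespace Cfsg.Agent.Helper88.DihedralExc

open Cfsg Cfsg.Agent.Helper17.PrimeTI

universe u

/-- the trivial character as an element of `IrrCharacter G`. -/
noncomputable def h88_triv (G : Type u) [Group G] [Fintype G] : IrrCharacter G :=
  ⟨fun _ => 1, Cfsg.Agent.Helper81.isIrrCharacter_one⟩

theorem h88_dihedral_exceptional {G : Type u} [Group G] [Fintype G]
    (hperf : commutator G = ⊤) (P : Subgroup G) (p t : ℕ) [hp : Fact p.Prime]
    (hP : Nat.card P = p) (hC : Subgroup.centralizer (P : Set G) = P)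
    (hN : Nat.card (Subgroup.normalizer (P : Set G)) = p * 2) (hte : t * 2 + 1 = p)
    (ht : 2 ≤ t) :
    ∃ (x d : ℕ) (E : Finset (IrrCharacter G)) (X : IrrCharacter G),
      E.card = t ∧ (∀ ψ ∈ E, charDegree (ψ : G → ℂ) = d) ∧
      1 < x ∧ x ∣ Nat.card G ∧ d ∣ Nat.card G ∧
      ((p ∣ x - 1 ∧ d = x + 1) ∨ (p ∣ x + 1 ∧ d = x - 1)) ∧
      (∀ ψ : IrrCharacter G, ψ ∉ E → ψ ≠ X → ψ ≠ h88_triv G →
        p ∣ charDegree (ψ : G → ℂ)) := by
  classical
  obtain ⟨w, d, E, a, hEcard, hEdeg, hEne, haE, haK, hcong, hnorm, hdegeq⟩ :=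
    prime_degree_equation P p 2 t hP hC hN le_rfl hte ht
  set ψ1 : IrrCharacter G := h88_triv G with hψ1
  have hψ1E : ψ1 ∉ E := fun h => hEne ψ1 h rfl
  obtain ⟨k, hk, hk1⟩ := exists_ne_one_of_prime_card P hP
  have ha1 : a ψ1 = 1 := by
    have h := haK ψ1 hψ1E k hk hk1
    have h' : ((1 : ℤ) : ℂ) = ((a ψ1 : ℤ) : ℂ) := by
      rw [← h]; simp [hψ1, h88_triv]
    exact_mod_cast h'.symm
  have hdeg1 : charDegree (ψ1 : G → ℂ) = 1 := charDegree_one
  have hd : d ∣ Nat.card G := by
    obtain ⟨ψ, hψ⟩ := Finset.card_pos.1 (by omega : 0 < E.card)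
    rw [← hEdeg ψ hψ]
    exact Cfsg.Agent.Helper79.irr_degree_dvd_card ψ
  have hsplit1 := Finset.add_sum_erase Finset.univ (fun ψ => (a ψ) ^ 2) (Finset.mem_univ ψ1)
  have hsplit2 := Finset.add_sum_erase Finset.univ
    (fun ψ => a ψ * (charDegree (ψ : G → ℂ) : ℤ)) (Finset.mem_univ ψ1)
  simp only [ha1, hdeg1] at hsplit1 hsplit2
  have hrest : 0 ≤ ∑ ψ ∈ Finset.univ.erase ψ1, (a ψ) ^ 2 :=
    Finset.sum_nonneg (fun i _ => sq_nonneg _)
  rw [← hsplit1] at hnorm
  rw [← hsplit2] at hdegeq
  have hp2 : (p : ℤ) = 2 * t + 1 := by rw [← hte]; push_cast; ring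
  have ht' : (2 : ℤ) ≤ t := by exact_mod_cast ht
  have hle1 : ∑ ψ ∈ Finset.univ.erase ψ1, (a ψ) ^ 2 ≤ 1 := by
    by_contra hgt
    push Not at hgt
    have h2 : (2 : ℤ) ≤ ∑ ψ ∈ Finset.univ.erase ψ1, (a ψ) ^ 2 := hgt
    nlinarith [sq_nonneg w]
  have hcases : ∑ ψ ∈ Finset.univ.erase ψ1, (a ψ) ^ 2 = 0 ∨
      ∑ ψ ∈ Finset.univ.erase ψ1, (a ψ) ^ 2 = 1 := by omega
  rcases hcases with h0 | h1
  · -- only the trivial character: impossible
    exfalso
    have hz := all_zero _ a h0
    have hs0 : ∑ ψ ∈ Finset.univ.erase ψ1, a ψ * (charDegree (ψ : G → ℂ) : ℤ) = 0 :=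
      Finset.sum_eq_zero (fun ψ hψ => by rw [hz ψ hψ, zero_mul])
    rw [hs0] at hdegeq
    rw [h0] at hnorm
    push_cast at hdegeq
    have hdw : (d : ℤ) * w = -1 := by linarith
    have hd0 : (0 : ℤ) ≤ d := by positivity
    have hd1 : (1 : ℤ) ≤ d := by
      by_contra h
      have h0 : (d : ℤ) = 0 := by omega
      rw [h0] at hdw
      simp at hdw
    have hwneg : w ≤ -1 := by
      by_contra h
      push Not at h
      have : 0 ≤ w := by omega
      nlinarith
    have hwge : -1 ≤ w := by
      by_contra h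
      push Not at h
      have : w ≤ -2 := by omega
      nlinarith
    have hw1 : w = -1 := by omega
    rw [hw1] at hnorm
    nlinarith
  · -- one more character
    obtain ⟨X, hX, haX, hrest0⟩ := peel (Finset.univ.erase ψ1) a 0 (by norm_num)
      (by rw [h1]; norm_num)
    have hXne : X ≠ ψ1 := (Finset.mem_erase.1 hX).1
    have hz := all_zero _ a (by exact_mod_cast hrest0)
    have hsplit3 := Finset.add_sum_erase (Finset.univ.erase ψ1)
      (fun ψ => a ψ * (charDegree (ψ : G → ℂ) : ℤ)) hX
    have hs0 : ∑ ψ ∈ (Finset.univ.erase ψ1).erase X, a ψ * (charDegree (ψ : G → ℂ) : ℤ) = 0 :=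
      Finset.sum_eq_zero (fun ψ hψ => by rw [hz ψ hψ, zero_mul])
    rw [hs0, add_zero] at hsplit3
    rw [← hsplit3] at hdegeq
    push_cast at hdegeq
    rw [h1] at hnorm
    have hw1 : w ^ 2 = 1 := by nlinarith
    have hw : w = 1 ∨ w = -1 := by
      have h : (w - 1) * (w + 1) = 0 := by ring_nf; linarith
      rcases mul_eq_zero.1 h with h | h
      · left; linarith
      · right; linarith
    have hXE : X ∉ E := by
      intro h
      have := haE X h
      rcases haX with h' | h' <;> rw [h'] at this <;> norm_num at this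
    have hxdvd : charDegree (X : G → ℂ) ∣ Nat.card G := Cfsg.Agent.Helper79.irr_degree_dvd_card X
    have hxpos : 0 < charDegree (X : G → ℂ) := (Cfsg.Agent.Helper79.irr_one_eq X).2
    have hx1 : charDegree (X : G → ℂ) ≠ 1 := by
      intro h
      apply hXne
      apply Subtype.ext
      exact linear_trivial_of_perfect hperf X h
    have hcX := hcong X hXE
    -- the remaining characters
    have hothers : ∀ ψ : IrrCharacter G, ψ ∉ E → ψ ≠ X → ψ ≠ ψ1 →
        p ∣ charDegree (ψ : G → ℂ) := by
      intro ψ hψE hψX hψ1'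
      have hmem : ψ ∈ (Finset.univ.erase ψ1).erase X :=
        Finset.mem_erase.2 ⟨hψX, Finset.mem_erase.2 ⟨hψ1', Finset.mem_univ ψ⟩⟩
      have ha0 := hz ψ hmem
      have hc := hcong ψ hψE
      rw [ha0, sub_zero] at hc
      exact_mod_cast hc
    refine ⟨charDegree (X : G → ℂ), d, E, X, hEcard, hEdeg, by omega, hxdvd, hd, ?_, hothers⟩
    set x := charDegree (X : G → ℂ) with hx
    have hd0 : (0 : ℤ) ≤ d := by positivity
    have hx2 : (2 : ℤ) ≤ x := by omega
    rcases haX with haX | haX
    · -- a X = 1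
      left
      rw [haX] at hcX hdegeq
      rcases hw with hw | hw
      · rw [hw] at hdegeq; nlinarith
      · rw [hw] at hdegeq
        have hdx : d = x + 1 := by omega
        refine ⟨?_, hdx⟩
        have : ((x - 1 : ℕ) : ℤ) = (x : ℤ) - 1 := by
          rw [Nat.cast_sub (by omega)]; simp
        exact_mod_cast (this ▸ hcX)
    · -- a X = -1
      right
      rw [haX] at hcX hdegeq
      rcases hw with hw | hw
      · rw [hw] at hdegeq
        have hdx : d = x - 1 := by omega
        refine ⟨?_, hdx⟩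
        have : ((x + 1 : ℕ) : ℤ) = (x : ℤ) - (-1) := by push_cast; ring
        exact_mod_cast (this ▸ hcX)
      · rw [hw] at hdegeq; nlinarith

/-- In the dihedral situation at most `t + 2` irreducible characters have degree prime to `p`. -/
theorem h88_card_prime_to_le {G : Type u} [Group G] [Fintype G]
    (hperf : commutator G = ⊤) (P : Subgroup G) (p t : ℕ) [hp : Fact p.Prime]
    (hP : Nat.card P = p) (hC : Subgroup.centralizer (P : Set G) = P)
    (hN : Nat.card (Subgroup.normalizer (P : Set G)) = p * 2) (hte : t * 2 + 1 = p)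
    (ht : 2 ≤ t) (S : Finset (IrrCharacter G))
    (hS : ∀ ψ ∈ S, ¬ p ∣ charDegree (ψ : G → ℂ)) : S.card ≤ t + 2 := by
  classical
  obtain ⟨x, d, E, X, hEcard, -, -, -, -, -, hoth⟩ :=
    h88_dihedral_exceptional hperf P p t hP hC hN hte ht
  have hsub : S ⊆ insert (h88_triv G) (insert X E) := by
    intro ψ hψ
    by_contra hnot
    rw [Finset.mem_insert, Finset.mem_insert] at hnot
    push Not at hnot
    exact hS ψ hψ (hoth ψ hnot.2.2 hnot.2.1 hnot.1)
  calc S.card ≤ (insert (h88_triv G) (insert X E)).card := Finset.card_le_card hsub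
    _ ≤ (insert X E).card + 1 := Finset.card_insert_le _ _
    _ ≤ (E.card + 1) + 1 := by
        have := Finset.card_insert_le X E
        omega
    _ = t + 2 := by rw [hEcard]

end Cfsg.Agent.Helper88.DihedralExc
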