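import Mathlib
import Cfsg.Agent.Lib.Helper17.PrimeTIApp
import Cfsg.Agent.Lib.Helper17.RationalTI
import Cfsg.Agent.Lib.Helper79.Orthogonality
import Cfsg.Agent.Lib.Helper88.DihedralExc

/-!
# O2520 (S0984): a simple group of order 2520 with `|N(P7)| = 21`, `|N(P5)| = 20` (both
self-centralizing) has an irreducible character of degree `6` or of degree `4`
(helper88, for helper55's lemma server).
-/

set_option autoImplicit false
set_option linter.style.haveILetI false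
set_option linter.unusedSectionVars false

namespace Cfsg.Agent.Helper88.O2520

open Cfsg Cfsg.Agent.Helper17.PrimeTI Cfsg.Agent.Helper88.DihedralExc

universe u

/-- the arithmetic of the degree equation for `p = 7`, `e = 3` in order `2520` -/
theorem h88_arith2520 : ∀ x1 ∈ List.range 51, x1 ∣ 2520 → 1 < x1 → ∀ x2 ∈ List.range 51,
    x2 ∣ 2520 → 1 < x2 → ∀ d ∈ List.range 36, d ∣ 2520 → 0 < d →
    1 + x1 ^ 2 + x2 ^ 2 + 2 * d ^ 2 ≤ 2520 →
    ((x1 % 7 = 1 ∧ x2 % 7 = 1 ∧ d = 1 + x1 + x2) ∨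
     (x1 % 7 = 1 ∧ x2 % 7 = 6 ∧ (d + x2 = 1 + x1 ∨ d + 1 + x1 = x2)) ∨
     (x1 % 7 = 6 ∧ x2 % 7 = 1 ∧ (d + x1 = 1 + x2 ∨ d + 1 + x2 = x1)) ∨
     (x1 % 7 = 6 ∧ x2 % 7 = 6 ∧ d + 1 = x1 + x2)) →
    x1 = 6 ∨ x2 = 6 ∨ d = 4 ∨ (d = 24 ∧ ((x1 = 8 ∧ x2 = 15) ∨ (x1 = 15 ∧ x2 = 8))) := by
  decide +kernel

theorem h88_sq_bound {x : ℕ} (h : x ^ 2 ≤ 2520) : x ≤ 50 := by
  by_contra hc
  push Not at hc
  have : 51 ^ 2 ≤ x ^ 2 := Nat.pow_le_pow_left hc 2
  omega

theorem h88_sq_bound' {d : ℕ} (h : 2 * d ^ 2 ≤ 2520) : d ≤ 35 := by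
  by_contra hc
  push Not at hc
  have : 36 ^ 2 ≤ d ^ 2 := Nat.pow_le_pow_left hc 2
  omega

set_option maxHeartbeats 2000000 in
theorem h88_exists_degree {G : Type u} [Group G] [Fintype G] (hperf : commutator G = ⊤)
    (hG : Nat.card G = 2520)
    (P : Subgroup G) (hP : Nat.card P = 7) (hC : Subgroup.centralizer (P : Set G) = P)
    (hN : Nat.card (Subgroup.normalizer (P : Set G)) = 7 * 3)
    (Q : Sylow 5 G) (hQ : Nat.card (Q : Subgroup G) = 5)
    (hCQ : Subgroup.centralizer ((Q : Subgroup G) : Set G) = (Q : Subgroup G))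
    (hNQ : Nat.card (Subgroup.normalizer ((Q : Subgroup G) : Set G)) = 5 * (5 - 1)) :
    ∃ ψ : IrrCharacter G, charDegree (ψ : G → ℂ) = 6 ∨ charDegree (ψ : G → ℂ) = 4 := by
  classical
  have : Fact (Nat.Prime 7) := ⟨by norm_num⟩
  have : Fact (Nat.Prime 5) := ⟨by norm_num⟩
  obtain ⟨w, d, E, a, hEcard, hEdeg, hEne, haE, haK, hcong, hnorm, hdegeq⟩ :=
    prime_degree_equation P 7 3 2 hP hC hN (by norm_num) (by norm_num) (by norm_num)
  set ψ1 : IrrCharacter G := h88_triv G with hψ1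
  have hψ1E : ψ1 ∉ E := fun h => hEne ψ1 h rfl
  obtain ⟨k, hk, hk1⟩ := exists_ne_one_of_prime_card P hP
  have ha1 : a ψ1 = 1 := by
    have h := haK ψ1 hψ1E k hk hk1
    have h' : ((1 : ℤ) : ℂ) = ((a ψ1 : ℤ) : ℂ) := by
      rw [← h]; simp [hψ1, h88_triv]
    exact_mod_cast h'.symm
  have hdeg1 : charDegree (ψ1 : G → ℂ) = 1 := charDegree_one
  have hsplit1 := Finset.add_sum_erase Finset.univ (fun ψ => (a ψ) ^ 2) (Finset.mem_univ ψ1)
  have hsplit2 := Finset.add_sum_erase Finset.univ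
    (fun ψ => a ψ * (charDegree (ψ : G → ℂ) : ℤ)) (Finset.mem_univ ψ1)
  simp only [ha1, hdeg1] at hsplit1 hsplit2
  have hrest : 0 ≤ ∑ ψ ∈ Finset.univ.erase ψ1, (a ψ) ^ 2 :=
    Finset.sum_nonneg (fun i _ => sq_nonneg _)
  rw [← hsplit1] at hnorm
  rw [← hsplit2] at hdegeq
  -- the sum of squares is 2 on the rest and w = ±1
  have hw2 : w ^ 2 = 1 ∧ ∑ ψ ∈ Finset.univ.erase ψ1, (a ψ) ^ 2 = 2 := by
    have hwle : w ^ 2 ≤ 5 := by push_cast at hnorm; nlinarith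
    have hwb : -2 ≤ w ∧ w ≤ 2 := by constructor <;> nlinarith
    obtain ⟨h1, h2⟩ := hwb
    push_cast at hnorm
    interval_cases w <;> constructor <;> omega
  obtain ⟨hw1, hR⟩ := hw2
  have hw : w = 1 ∨ w = -1 := by
    have h : (w - 1) * (w + 1) = 0 := by ring_nf; linarith
    rcases mul_eq_zero.1 h with h | h
    · left; linarith
    · right; linarith
  obtain ⟨X1, hX1, haX1, hrest1⟩ := peel (Finset.univ.erase ψ1) a 1 (by norm_num)
    (by rw [hR]; norm_num)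
  obtain ⟨X2, hX2, haX2, hrest2⟩ := peel ((Finset.univ.erase ψ1).erase X1) a 0 (by norm_num)
    (by rw [hrest1]; norm_num)
  have hz := all_zero _ a (by exact_mod_cast hrest2)
  have hX1ne : X1 ≠ ψ1 := (Finset.mem_erase.1 hX1).1
  have hX2ne1 : X2 ≠ X1 := (Finset.mem_erase.1 hX2).1
  have hX2ne : X2 ≠ ψ1 := (Finset.mem_erase.1 (Finset.mem_erase.1 hX2).2).1
  have hX1E : X1 ∉ E := by
    intro h
    have := haE X1 h
    rcases haX1 with h' | h' <;> rw [h'] at this <;> norm_num at this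
  have hX2E : X2 ∉ E := by
    intro h
    have := haE X2 h
    rcases haX2 with h' | h' <;> rw [h'] at this <;> norm_num at this
  -- the degree equation
  have hs3 := Finset.add_sum_erase (Finset.univ.erase ψ1)
    (fun ψ => a ψ * (charDegree (ψ : G → ℂ) : ℤ)) hX1
  have hs4 := Finset.add_sum_erase ((Finset.univ.erase ψ1).erase X1)
    (fun ψ => a ψ * (charDegree (ψ : G → ℂ) : ℤ)) hX2
  have hs0 : ∑ ψ ∈ ((Finset.univ.erase ψ1).erase X1).erase X2,
      a ψ * (charDegree (ψ : G → ℂ) : ℤ) = 0 :=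
    Finset.sum_eq_zero (fun ψ hψ => by rw [hz ψ hψ, zero_mul])
  rw [hs0, add_zero] at hs4
  rw [← hs4] at hs3
  rw [← hs3] at hdegeq
  push_cast at hdegeq
  set x1 := charDegree (X1 : G → ℂ) with hx1
  set x2 := charDegree (X2 : G → ℂ) with hx2
  have hx1d : x1 ∣ 2520 := hG ▸ Cfsg.Agent.Helper79.irr_degree_dvd_card X1
  have hx2d : x2 ∣ 2520 := hG ▸ Cfsg.Agent.Helper79.irr_degree_dvd_card X2
  have hdd : d ∣ 2520 := by
    obtain ⟨ψ, hψ⟩ := Finset.card_pos.1 (by omega : 0 < E.card)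
    rw [← hEdeg ψ hψ]
    exact hG ▸ Cfsg.Agent.Helper79.irr_degree_dvd_card ψ
  have hdpos : 0 < d := by
    obtain ⟨ψ, hψ⟩ := Finset.card_pos.1 (by omega : 0 < E.card)
    rw [← hEdeg ψ hψ]
    exact (Cfsg.Agent.Helper79.irr_one_eq ψ).2
  have hx1pos : 0 < x1 := (Cfsg.Agent.Helper79.irr_one_eq X1).2
  have hx2pos : 0 < x2 := (Cfsg.Agent.Helper79.irr_one_eq X2).2
  have hx1ne1 : x1 ≠ 1 := by
    intro h
    apply hX1ne
    apply Subtype.ext
    exact linear_trivial_of_perfect hperf X1 h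
  have hx2ne1 : x2 ≠ 1 := by
    intro h
    apply hX2ne
    apply Subtype.ext
    exact linear_trivial_of_perfect hperf X2 h
  have hc1 := hcong X1 hX1E
  have hc2 := hcong X2 hX2E
  -- the sum of squares
  have hsq : 1 + x1 ^ 2 + x2 ^ 2 + 2 * d ^ 2 ≤ 2520 := by
    have hsum := Cfsg.Agent.Helper79.sum_sq_degree_nat (G := G)
    rw [hG] at hsum
    have hT : (insert ψ1 (insert X1 (insert X2 E))) ⊆ (Finset.univ : Finset (IrrCharacter G)) :=
      Finset.subset_univ _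
    have hle := Finset.sum_le_sum_of_subset (f := fun χ : IrrCharacter G =>
      (charDegree (χ : G → ℂ)) ^ 2) hT
    rw [hsum] at hle
    rw [Finset.sum_insert, Finset.sum_insert, Finset.sum_insert hX2E] at hle
    · rw [Finset.sum_congr rfl (fun ψ hψ => by rw [hEdeg ψ hψ]), Finset.sum_const, hEcard,
        hdeg1] at hle
      simp only [smul_eq_mul] at hle
      rw [← hx1, ← hx2] at hle
      omega
    · simp only [Finset.mem_insert]
      push Not
      exact ⟨hX2ne1.symm, hX1E⟩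
    · simp only [Finset.mem_insert]
      push Not
      exact ⟨hX1ne.symm, hX2ne.symm, hψ1E⟩
  have hx1le : x1 ≤ 50 := h88_sq_bound (by omega)
  have hx2le : x2 ≤ 50 := h88_sq_bound (by omega)
  have hdle : d ≤ 35 := h88_sq_bound' (by omega)
  have hsign : ((x1 % 7 = 1 ∧ x2 % 7 = 1 ∧ d = 1 + x1 + x2) ∨
     (x1 % 7 = 1 ∧ x2 % 7 = 6 ∧ (d + x2 = 1 + x1 ∨ d + 1 + x1 = x2)) ∨
     (x1 % 7 = 6 ∧ x2 % 7 = 1 ∧ (d + x1 = 1 + x2 ∨ d + 1 + x2 = x1)) ∨
     (x1 % 7 = 6 ∧ x2 % 7 = 6 ∧ d + 1 = x1 + x2)) := by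
    rcases haX1 with h1 | h1 <;> rcases haX2 with h2 | h2 <;> rcases hw with h3 | h3 <;>
      rw [h1] at hc1 hdegeq <;> rw [h2] at hc2 hdegeq <;> rw [h3] at hdegeq <;> omega
  have hA := h88_arith2520 x1 (List.mem_range.2 (by omega)) hx1d (by omega) x2
    (List.mem_range.2 (by omega)) hx2d (by omega) d (List.mem_range.2 (by omega)) hdd hdpos hsq hsign
  rcases hA with h | h | h | ⟨hd24, h⟩
  · exact ⟨X1, Or.inl h⟩
  · exact ⟨X2, Or.inl h⟩
  · obtain ⟨ψ, hψ⟩ := Finset.card_pos.1 (by omega : 0 < E.card)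
    exact ⟨ψ, Or.inr (by rw [hEdeg ψ hψ, h])⟩
  · -- the row (8, 15, 24): dies at p = 5
    exfalso
    obtain ⟨b, hbK, hbc, hbn, -⟩ := Cfsg.Agent.Helper17.RationalTI.rational_degree_equation hperf Q hQ hCQ hNQ
    obtain ⟨X8, hX8, hX8ne, hX8E⟩ : ∃ X : IrrCharacter G, charDegree (X : G → ℂ) = 8 ∧ X ≠ ψ1 ∧
        X ∉ E := by
      rcases h with ⟨h8, -⟩ | ⟨-, h8⟩
      · exact ⟨X1, h8, hX1ne, hX1E⟩
      · exact ⟨X2, h8, hX2ne, hX2E⟩
    obtain ⟨e, he⟩ := Finset.card_pos.1 (by omega : 0 < E.card)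
    have hee : charDegree (e : G → ℂ) = 24 := by rw [hEdeg e he, hd24]
    have he1 : e ≠ ψ1 := fun h => hψ1E (h ▸ he)
    have he8 : e ≠ X8 := fun h => hX8E (h ▸ he)
    obtain ⟨k5, hk5, hk51⟩ := exists_ne_one_of_prime_card (Q : Subgroup G) hQ
    have hb1 : b ψ1 = 1 := by
      have h := hbK ψ1 k5 hk5 hk51
      have h' : ((1 : ℤ) : ℂ) = ((b ψ1 : ℤ) : ℂ) := by
        rw [← h]; simp [hψ1, h88_triv]
      exact_mod_cast h'.symm
    have hb8 := hbc X8
    have hbe := hbc e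
    rw [hX8] at hb8
    rw [hee] at hbe
    have hb8sq : 4 ≤ (b X8) ^ 2 := by
      have : b X8 ≤ -2 ∨ 3 ≤ b X8 := by omega
      rcases this with h | h <;> nlinarith
    have hbesq : 1 ≤ (b e) ^ 2 := by
      have : b e ≤ -1 ∨ 1 ≤ b e := by omega
      rcases this with h | h <;> nlinarith
    have hT : (insert ψ1 (insert X8 ({e} : Finset (IrrCharacter G)))) ⊆
        (Finset.univ : Finset (IrrCharacter G)) := Finset.subset_univ _
    have hle := Finset.sum_le_sum_of_subset_of_nonneg (f := fun χ : IrrCharacter G => (b χ) ^ 2) hT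
      (fun i _ _ => sq_nonneg _)
    rw [hbn, Finset.sum_insert, Finset.sum_insert, Finset.sum_singleton, hb1] at hle
    · push_cast at hle
      linarith
    · simp only [Finset.mem_singleton]
      exact he8.symm
    · simp only [Finset.mem_insert, Finset.mem_singleton]
      push Not
      exact ⟨hX8ne.symm, he1.symm⟩

end Cfsg.Agent.Helper88.O2520
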