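import Mathlib
import Cfsg.Prelude.Def_Blocks
import Cfsg.Agent.Lib.Helper55.O2520Defs
import Cfsg.Agent.Lib.Helper88.O2520DEG

/-!
# O2520 (S0984) piece (DEG6), verbatim from `tools/o2520_sigs2_helper55.lean.txt` (helper88).
-/

set_option autoImplicit false

namespace Cfsg.Agent.Helper88.O2520

open Cfsg Cfsg.Agent.Helper55.O2520
open scoped Classical

universe u

theorem exists_deg6 {G : Type u} [Group G] [Fintype G] [IsSimpleGroup G] (hG : Nat.card G = 2520)
    (Q7 : Sylow 7 G) (hN7 : Nat.card (Subgroup.normalizer ((Q7 : Subgroup G) : Set G)) = 21)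
    (hC7 : Subgroup.centralizer ((Q7 : Subgroup G) : Set G) = (Q7 : Subgroup G))
    (Q5 : Sylow 5 G) (hN5 : Nat.card (Subgroup.normalizer ((Q5 : Subgroup G) : Set G)) = 20)
    (hC5 : Subgroup.centralizer ((Q5 : Subgroup G) : Set G) = (Q5 : Subgroup G))
    (hno4 : ∀ ψ : IrrCharacter G, charDegree (ψ : G → ℂ) ≠ 4) :
    ∃ ψ : IrrCharacter G, charDegree (ψ : G → ℂ) = 6 := by
  have : Fact (Nat.Prime 7) := ⟨by norm_num⟩
  have : Fact (Nat.Prime 5) := ⟨by norm_num⟩
  have hperf : commutator G = ⊤ :=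
    Cfsg.Agent.Helper17.PrimeTI.perfect_of_simple (by rw [hG]; norm_num)
  have h7 : Nat.card (Q7 : Subgroup G) = 7 := by
    have := Cfsg.Agent.Helper17.sylow_card_eq Q7 (k := 1) (m := 360) (by rw [hG]; norm_num) (by norm_num)
    simpa using this
  have h5 : Nat.card (Q5 : Subgroup G) = 5 := by
    have := Cfsg.Agent.Helper17.sylow_card_eq Q5 (k := 1) (m := 504) (by rw [hG]; norm_num) (by norm_num)
    simpa using this
  obtain ⟨ψ, h | h⟩ := h88_exists_degree hperf hG (Q7 : Subgroup G) h7 hC7 (by rw [hN7]) Q5 h5 hC5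
    (by rw [hN5])
  · exact ⟨ψ, h⟩
  · exact absurd h (hno4 ψ)

end Cfsg.Agent.Helper88.O2520
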