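import Mathlib
import Cfsg.Prelude.Def_FusionSystem
import Cfsg.Agent.Lib.Helper87.FusionNormal
import Cfsg.Agent.Lib.Helper48.SPE

set_option autoImplicit false

namespace Cfsg.Agent.Helper88

open Cfsg Cfsg.FusionSystem Cfsg.Agent.Helper87

/-! ### an abstract consequence of a strongly `p`-embedded subgroup in a quotient -/

theorem exists_subgroup_of_spe_quotient {A : Type*} [Group A] [Finite A] {p : ℕ} [Fact p.Prime]
    (I : Subgroup A) [I.Normal] (M₀ : Subgroup (A ⧸ I)) (hM : IsStronglyPEmbedded p M₀)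
    (P : Sylow p A) :
    ∃ M : Subgroup A, M ≠ ⊤ ∧ (∃ x ∈ (P : Subgroup A), x ∉ I) ∧
      ∀ x ∈ (P : Subgroup A), x ∉ I → ∀ β : A, β * x * β⁻¹ ∈ (P : Subgroup A) → β ∈ M := by
  classical
  have hπ : Function.Surjective (QuotientGroup.mk' I) := QuotientGroup.mk'_surjective I
  obtain ⟨P₀, hP₀ne, hP₀M, -, -⟩ := Cfsg.Agent.Helper48.spe_sylow_data hM
  obtain ⟨g, hg⟩ := MulAction.exists_smul_eq (A ⧸ I) (P.mapSurjective hπ) P₀
  -- the twisted projection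
  let θ : A →* A ⧸ I := (MulAut.conj g).toMonoidHom.comp (QuotientGroup.mk' I)
  have hθ : ∀ a : A, θ a = g * (QuotientGroup.mk' I a) * g⁻¹ := fun a => rfl
  have hθP : ∀ x ∈ (P : Subgroup A), θ x ∈ (P₀ : Subgroup (A ⧸ I)) := by
    intro x hx
    rw [← hg, Cfsg.Agent.Helper48.mem_sylow_smul_iff, hθ]
    have : g⁻¹ * (g * (QuotientGroup.mk' I) x * g⁻¹) * g = (QuotientGroup.mk' I) x := by group
    rw [this, Sylow.coe_mapSurjective]
    exact Subgroup.mem_map_of_mem _ hx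
  have hθker : ∀ x : A, θ x = 1 → x ∈ I := by
    intro x hx
    rw [hθ] at hx
    have h1 : (QuotientGroup.mk' I) x = 1 := by
      have : (QuotientGroup.mk' I) x = g⁻¹ * (g * (QuotientGroup.mk' I) x * g⁻¹) * g := by group
      rw [this, hx]; group
    exact (QuotientGroup.eq_one_iff x).1 h1
  have hθsurj : Function.Surjective θ := by
    intro y
    obtain ⟨a, ha⟩ := hπ (g⁻¹ * y * g)
    refine ⟨a, ?_⟩
    rw [hθ, ha]; group
  refine ⟨M₀.comap θ, ?_, ?_, ?_⟩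
  · intro htop
    apply hM.2.1
    rw [eq_top_iff]
    intro y _
    obtain ⟨a, rfl⟩ := hθsurj y
    have : a ∈ M₀.comap θ := by rw [htop]; trivial
    exact this
  · obtain ⟨y, hy, hy1⟩ : ∃ y ∈ (P₀ : Subgroup (A ⧸ I)), y ≠ 1 := by
      by_contra hcon
      push Not at hcon
      apply hP₀ne
      rw [eq_bot_iff]
      intro y hy
      exact Subgroup.mem_bot.2 (hcon y hy)
    rw [← hg, Cfsg.Agent.Helper48.mem_sylow_smul_iff, Sylow.coe_mapSurjective] at hy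
    obtain ⟨x, hx, hxy⟩ := hy
    refine ⟨x, hx, fun hxI => hy1 ?_⟩
    have h1 : (QuotientGroup.mk' I) x = 1 := (QuotientGroup.eq_one_iff x).2 hxI
    rw [h1] at hxy
    have : y = g * (g⁻¹ * y * g) * g⁻¹ := by group
    rw [this, ← hxy]; group
  · intro x hx hxI β hβ
    show θ β ∈ M₀
    have hy : θ x ∈ (P₀ : Subgroup (A ⧸ I)) := hθP x hx
    have hy1 : θ x ≠ 1 := fun h => hxI (hθker x h)
    -- order of θ x
    obtain ⟨k, hk⟩ := (IsPGroup.iff_orderOf.1 P₀.2) ⟨θ x, hy⟩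
    have hk' : orderOf (θ x) = p ^ k := by rw [← hk, Subgroup.orderOf_mk]
    have hk0 : k ≠ 0 := by
      rintro rfl
      rw [pow_zero, orderOf_eq_one_iff] at hk'
      exact hy1 hk'
    obtain ⟨j, rfl⟩ := Nat.exists_eq_succ_of_ne_zero hk0
    have hp := (Fact.out : p.Prime)
    have hz : orderOf ((θ x) ^ (p ^ j)) = p := by
      rw [orderOf_pow_of_dvd (pow_ne_zero _ hp.ne_zero) (by rw [hk']; exact pow_dvd_pow p (Nat.le_succ j)),
        hk', pow_succ, Nat.mul_div_cancel_left _ (pow_pos hp.pos j)]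
    have hzM : (θ x) ^ (p ^ j) ∈ M₀ := M₀.pow_mem (hP₀M hy) _
    apply (Cfsg.Agent.Helper48.spe_ufp hM hzM hz).2
    rw [← conj_pow]
    apply M₀.pow_mem
    have : θ β * θ x * (θ β)⁻¹ = θ (β * x * β⁻¹) := by simp
    rw [this]
    exact hP₀M (hθP _ hβ)

/-! ### the subsystem omitting an essential class -/

section Omit

variable {Ω : Type*} [Group Ω] {S : Subgroup Ω} (F : FusionSystem S) (Q : Subgroup Ω)
  (M : Subgroup (F.autGroup Q))

/-- `f` restricts to an automorphism of `Q` lying in `M` -/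
def GoodAut (f : Ω → Ω) : Prop :=
  ∃ β : F.autGroup Q, β ∈ M ∧ ∀ x : Q, (((β : MulAut Q) x : Q) : Ω) = f x

variable {F Q M}

theorem GoodAut.congr {f f' : Ω → Ω} (h : GoodAut F Q M f) (hff' : ∀ x ∈ Q, f x = f' x) :
    GoodAut F Q M f' := by
  obtain ⟨β, hβ, e⟩ := h
  exact ⟨β, hβ, fun x => (e x).trans (hff' x x.2)⟩

theorem GoodAut.comp {f f' : Ω → Ω} (h : GoodAut F Q M f) (h' : GoodAut F Q M f') :
    GoodAut F Q M (fun x => f' (f x)) := by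
  obtain ⟨β, hβ, e⟩ := h
  obtain ⟨β', hβ', e'⟩ := h'
  refine ⟨β' * β, M.mul_mem hβ' hβ, fun x => ?_⟩
  show ((((β' : MulAut Q)) (((β : MulAut Q)) x) : Q) : Ω) = f' (f x)
  rw [e', e]

theorem GoodAut.inv {f f' : Ω → Ω} (h : GoodAut F Q M f) (hff' : ∀ y ∈ Q, f' (f y) = y) :
    GoodAut F Q M f' := by
  obtain ⟨β, hβ, e⟩ := h
  refine ⟨β⁻¹, M.inv_mem hβ, fun x => ?_⟩
  obtain ⟨y, rfl⟩ := (β : MulAut Q).surjective x
  have h1 : ((β⁻¹ : F.autGroup Q) : MulAut Q) ((β : MulAut Q) y) = y := by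
    show ((β : MulAut Q)⁻¹) ((β : MulAut Q) y) = y
    simp
  rw [h1, e, hff' y y.2]

theorem GoodAut.of_iso {f : Ω → Ω} (h : Iso F Q Q f)
    (hm : (⟨h.equiv, h.equiv_mem_autGroup⟩ : F.autGroup Q) ∈ M) : GoodAut F Q M f :=
  ⟨_, hm, fun _ => rfl⟩

/-- the key property of `M` -/
def KeyProp (F : FusionSystem S) (Q : Subgroup Ω) (M : Subgroup (F.autGroup Q)) : Prop :=
  ∀ x ∈ autInducedBy S Q, x ∉ Inn Q → ∀ β : F.autGroup Q,
    (β : MulAut Q) * x * (β : MulAut Q)⁻¹ ∈ autInducedBy S Q → β ∈ M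

/-- strongly embedded fusion form -/
theorem goodAut_of_extends (hM : KeyProp F Q M) (hcen : F.IsCentric Q) {f : Ω → Ω}
    (h : Iso F Q Q f) {U : Subgroup Ω} (hU : Mor F U f) (hQU : Q ≤ U)
    (hUN : U ≤ normalizerIn S Q) {u : Ω} (hu : u ∈ U) (huQ : u ∉ Q) : GoodAut F Q M f := by
  apply GoodAut.of_iso h
  have huN := hUN hu
  apply hM (conjAut Q u huN.2) (conjAut_mem_autInducedBy huN.1 huN.2)
  · intro hI
    exact huQ (mem_of_conjAut_mem_inn hcen huN.1 huN.2 hI)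
  · have hfu : f u ∈ Subgroup.normalizer (Q : Set Ω) := hU.map_normalizer hQU h hu huN.2
    have : (h.equiv : MulAut Q) * conjAut Q u huN.2 * (h.equiv : MulAut Q)⁻¹ = conjAut Q (f u) hfu := by
      ext y
      obtain ⟨y', rfl⟩ := (h.equiv : MulAut Q).surjective y
      show (((h.equiv : MulAut Q) (conjAut Q u huN.2 ((h.equiv : MulAut Q)⁻¹ ((h.equiv : MulAut Q) y'))) : Q) : Ω) = _
      have h1 : (h.equiv : MulAut Q)⁻¹ ((h.equiv : MulAut Q) y') = y' := by simp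
      rw [h1, conjAut_apply]
      show f ((conjAut Q u huN.2 y' : Q) : Ω) = f u * f y' * (f u)⁻¹
      rw [conjAut_apply, hU.map_conj hu (hQU y'.2)]
    show (h.equiv : MulAut Q) * conjAut Q u huN.2 * (h.equiv : MulAut Q)⁻¹ ∈ autInducedBy S Q
    rw [this]
    exact conjAut_mem_autInducedBy (hU.mem hu) hfu

/-- admissible identification of a conjugate `Q₁` of `Q` with `Q` -/
structure Adm (F : FusionSystem S) (Q Q₁ : Subgroup Ω) (k g : Ω → Ω) : Prop where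
  iso : Iso F Q₁ Q k
  mor : Mor F (normalizerIn S Q₁) k
  inv : Iso F Q Q₁ g
  left : ∀ x ∈ Q₁, g (k x) = x
  right : ∀ y ∈ Q, k (g y) = y

theorem exists_adm {p : ℕ} [Fact p.Prime] [Finite S] (hS : IsPGroup p S) (hF : F.IsSaturated p)
    (hfn : F.IsFullyNormalized Q) {Q₁ : Subgroup Ω} (hc : F.IsConj Q₁ Q) :
    ∃ k g, Adm F Q Q₁ k g := by
  obtain ⟨k, hk, hiso⟩ := exists_map_normalizer_to_fullyNormalized hS hF hfn hc
  obtain ⟨g, hg, e1, e2⟩ := hiso.symm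
  exact ⟨k, g, hiso, hk, hg, e1, e2⟩

theorem adm_refl (hQ : Q ≤ S) : Adm F Q Q (fun x => x) (fun x => x) :=
  ⟨Iso.refl hQ, Mor.id inf_le_left, Iso.refl hQ, fun _ _ => rfl, fun _ _ => rfl⟩

theorem Adm.ne_top [Finite S] {Q₁ : Subgroup Ω} {k g : Ω → Ω} (a : Adm F Q Q₁ k g) (hne : Q ≠ S) :
    Q₁ ≠ S := by
  intro h
  apply hne
  have hQS : Q ≤ S := a.iso.le_right
  have hc := a.iso.card_eq
  rw [h] at hc
  exact Subgroup.eq_of_le_of_card_ge hQS hc.le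

/-- the extension lemma -/
theorem goodAut_of_ext (hM : KeyProp F Q M) (hcen : F.IsCentric Q) {Q₁ Q₂ N : Subgroup Ω}
    {k₁ g₁ k₂ g₂ ψ : Ω → Ω} (a₁ : Adm F Q Q₁ k₁ g₁) (a₂ : Adm F Q Q₂ k₂ g₂) (hQN : Q₁ ≤ N)
    (hN : N ≤ normalizerIn S Q₁) {n : Ω} (hn : n ∈ N) (hnQ : n ∉ Q₁) (hψ : Mor F N ψ)
    (hψQ : Iso F Q₁ Q₂ ψ) : GoodAut F Q M (fun y => k₂ (ψ (g₁ y))) := by
  have hk₁N : Mor F N k₁ := a₁.mor.restrict hN
  have hU : Iso F N hk₁N.image k₁ := Iso.of_mor hk₁N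
  obtain ⟨G₁, hG₁, eG1, eG2⟩ := hU.symm
  have hψN : ∀ x ∈ N, ψ x ∈ normalizerIn S Q₂ := fun x hx =>
    ⟨hψ.mem hx, hψ.map_normalizer hQN hψQ hx (hN hx).2⟩
  have hf : Mor F hk₁N.image (fun y => k₂ (ψ (G₁ y))) :=
    (hG₁.1.comp hψ (fun y hy => hG₁.map_mem hy)).comp a₂.mor (fun y hy => hψN _ (hG₁.map_mem hy))
  have hQU : Q ≤ hk₁N.image := by
    intro y hy
    obtain ⟨x, hx, rfl⟩ := a₁.iso.surj hy
    exact ⟨x, hQN hx, rfl⟩
  have hUN : hk₁N.image ≤ normalizerIn S Q := by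
    rintro _ ⟨x, hx, rfl⟩
    exact map_normalizerIn a₁.mor a₁.iso (hN hx)
  have agree : ∀ y ∈ Q, G₁ y = g₁ y := by
    intro y hy
    obtain ⟨x, hx, rfl⟩ := a₁.iso.surj hy
    rw [eG1 x (hQN hx), a₁.left x hx]
  have hfQ : Iso F Q Q (fun y => k₂ (ψ (G₁ y))) :=
    ((a₁.inv.comp hψQ).comp a₂.iso).congr (fun y hy => by show k₂ (ψ (g₁ y)) = _; rw [agree y hy])
  have hu : k₁ n ∈ hk₁N.image := ⟨n, hn, rfl⟩
  have huQ : k₁ n ∉ Q := by
    intro h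
    obtain ⟨x, hx, hxn⟩ := a₁.iso.surj h
    have := hk₁N.inj (hQN hx) hn hxn
    exact hnQ (this ▸ hx)
  exact (goodAut_of_extends hM hcen hfQ hf hQU hUN hu huQ).congr
    (fun y hy => by show k₂ (ψ (G₁ y)) = _; rw [agree y hy])

/-- the maps of the subsystem -/
def GoodMap (F : FusionSystem S) (Q : Subgroup Ω) (M : Subgroup (F.autGroup Q)) (P : Subgroup Ω)
    (f : Ω → Ω) : Prop :=
  Mor F P f ∧ ∀ (Q₁ Q₂ : Subgroup Ω) (k₁ g₁ k₂ g₂ : Ω → Ω), Q₁ ≤ P → Adm F Q Q₁ k₁ g₁ →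
    Adm F Q Q₂ k₂ g₂ → Iso F Q₁ Q₂ f → GoodAut F Q M (fun y => k₂ (f (g₁ y)))

theorem GoodMap.congr {P : Subgroup Ω} {f f' : Ω → Ω} (h : GoodMap F Q M P f)
    (hff' : ∀ x ∈ P, f x = f' x) : GoodMap F Q M P f' := by
  refine ⟨h.1.congr hff', fun Q₁ Q₂ k₁ g₁ k₂ g₂ hQ₁P a₁ a₂ hiso => ?_⟩
  have hiso' : Iso F Q₁ Q₂ f := hiso.congr (fun x hx => (hff' x (hQ₁P hx)).symm)
  refine (h.2 Q₁ Q₂ k₁ g₁ k₂ g₂ hQ₁P a₁ a₂ hiso').congr (fun y hy => ?_)
  show k₂ (f (g₁ y)) = k₂ (f' (g₁ y))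
  rw [hff' _ (hQ₁P (a₁.inv.map_mem hy))]

theorem goodMap_conj {p : ℕ} [Fact p.Prime] [Finite S] (hS : IsPGroup p S)
    (hM : KeyProp F Q M) (hcen : F.IsCentric Q) (hne : Q ≠ S) {P : Subgroup Ω} (hP : P ≤ S)
    {s : Ω} (hs : s ∈ S) : GoodMap F Q M P (fun x => s * x * s⁻¹) := by
  refine ⟨Mor.conj hP hs, fun Q₁ Q₂ k₁ g₁ k₂ g₂ hQ₁P a₁ a₂ hiso => ?_⟩
  obtain ⟨n, hn, hnQ⟩ := exists_normalizer_not_mem hS a₁.iso.le_left (a₁.ne_top hne)
  exact goodAut_of_ext hM hcen a₁ a₂ (le_normalizerIn a₁.iso.le_left) le_rfl hn hnQ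
    (Mor.conj inf_le_left hs) hiso

theorem GoodMap.comp {p : ℕ} [Fact p.Prime] [Finite S] (hS : IsPGroup p S) (hF : F.IsSaturated p)
    (hfn : F.IsFullyNormalized Q) {P R : Subgroup Ω} {f f' : Ω → Ω}
    (hf : GoodMap F Q M P f) (hf' : GoodMap F Q M R f') (hPR : ∀ x ∈ P, f x ∈ R) :
    GoodMap F Q M P (fun x => f' (f x)) := by
  refine ⟨hf.1.comp hf'.1 hPR, fun Q₁ Q₂ k₁ g₁ k₂ g₂ hQ₁P a₁ a₂ hiso => ?_⟩
  have hfQ₁ : Mor F Q₁ f := hf.1.restrict hQ₁P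
  have i₁ : Iso F Q₁ hfQ₁.image f := Iso.of_mor hfQ₁
  have hQ₁'R : hfQ₁.image ≤ R := by
    rintro _ ⟨x, hx, rfl⟩
    exact hPR x (hQ₁P hx)
  obtain ⟨fi, hfi, -, -⟩ := i₁.symm
  have hc : F.IsConj hfQ₁.image Q := isConj_iff.2 ⟨_, hfi.comp a₁.iso⟩
  obtain ⟨k', g', a'⟩ := exists_adm hS hF hfn hc
  have i₂ : Iso F hfQ₁.image Q₂ f' := by
    refine ⟨hf'.1.restrict hQ₁'R, fun y => ⟨fun hy => ?_, ?_⟩⟩
    · obtain ⟨x, hx, rfl⟩ := hiso.surj hy
      exact ⟨f x, ⟨x, hx, rfl⟩, rfl⟩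
    · rintro ⟨_, ⟨x, hx, rfl⟩, rfl⟩
      exact hiso.map_mem hx
  have G1 := hf.2 Q₁ hfQ₁.image k₁ g₁ k' g' hQ₁P a₁ a' i₁
  have G2 := hf'.2 hfQ₁.image Q₂ k' g' k₂ g₂ hQ₁'R a' a₂ i₂
  refine (G1.comp G2).congr (fun y hy => ?_)
  show k₂ (f' (g' (k' (f (g₁ y))))) = k₂ (f' (f (g₁ y)))
  rw [a'.left _ ⟨g₁ y, a₁.inv.map_mem hy, rfl⟩]

/-- the subsystem omitting the class of `Q` -/
noncomputable def omitSystem {p : ℕ} [Fact p.Prime] [Finite S] (hS : IsPGroup p S)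
    (hF : F.IsSaturated p) (hfn : F.IsFullyNormalized Q) (hM : KeyProp F Q M)
    (hcen : F.IsCentric Q) (hne : Q ≠ S) : FusionSystem S where
  Hom P := {φ | GoodMap F Q M P (extFun φ)}
  le_of_mem := by
    intro P φ h
    have h1 : φ ∈ F.Hom P := mem_hom_iff_mor.2 h.1
    exact F.le_of_mem h1
  injective_of_mem := by
    intro P φ h
    exact F.injective_of_mem (mem_hom_iff_mor.2 h.1)
  conj_mem := by
    intro P s hP hs
    refine (goodMap_conj hS hM hcen hne hP hs).congr (fun x hx => ?_)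
    rw [extFun_mem _ hx]
    rfl
  comp_mem := by
    intro P R φ ψ hφ hψ h
    have h1 : ∀ x ∈ P, extFun φ x ∈ R := fun x hx => by rw [extFun_mem φ hx]; exact h ⟨x, hx⟩
    refine (GoodMap.comp hS hF hfn hφ hψ h1).congr (fun x hx => ?_)
    rw [extFun_mem (ψ.comp (φ.codRestrict R h)) hx, extFun_mem φ hx, extFun_mem ψ (h ⟨x, hx⟩)]
    rfl
  inv_mem := by
    intro P φ hφ
    have hφF : φ ∈ F.Hom P := mem_hom_iff_mor.2 hφ.1
    obtain ⟨ψ, hψ, e⟩ := F.inv_mem hφF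
    have key : ∀ x ∈ P, extFun ψ (extFun φ x) = x := by
      intro x hx
      rw [extFun_mem φ hx, extFun_mem ψ ⟨⟨x, hx⟩, rfl⟩]
      exact e ⟨x, hx⟩
    have hrange : ∀ y ∈ φ.range, ∃ x ∈ P, extFun φ x = y := by
      rintro _ ⟨x, rfl⟩
      exact ⟨x, x.2, extFun_apply φ x⟩
    refine ⟨ψ, ⟨mor_of_mem hψ, ?_⟩, e⟩
    intro Q₁' Q₂' k₁' g₁' k₂' g₂' hQ₁'R a₁' a₂' hiso
    have hQ₂'P : Q₂' ≤ P := by
      intro y hy
      obtain ⟨x', hx', rfl⟩ := hiso.surj hy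
      obtain ⟨x, hx, rfl⟩ := hrange x' (hQ₁'R hx')
      rw [key x hx]; exact hx
    have i : Iso F Q₂' Q₁' (extFun φ) := by
      refine ⟨hφ.1.restrict hQ₂'P, fun y => ⟨fun hy => ?_, ?_⟩⟩
      · obtain ⟨x₀, hx₀, rfl⟩ := hrange y (hQ₁'R hy)
        refine ⟨x₀, ?_, rfl⟩
        have := hiso.map_mem hy
        rwa [key x₀ hx₀] at this
      · rintro ⟨x, hx, rfl⟩
        obtain ⟨y', hy', rfl⟩ := hiso.surj hx
        obtain ⟨x₀, hx₀, rfl⟩ := hrange y' (hQ₁'R hy')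
        rw [key x₀ hx₀]; exact hy'
    have G := hφ.2 Q₂' Q₁' k₂' g₂' k₁' g₁' hQ₂'P a₂' a₁' i
    refine G.inv (fun y hy => ?_)
    show k₂' (extFun ψ (g₁' (k₁' (extFun φ (g₂' y))))) = y
    have h1 : g₂' y ∈ Q₂' := a₂'.inv.map_mem hy
    rw [a₁'.left _ (i.map_mem h1), key _ (hQ₂'P h1), a₂'.right y hy]

theorem autGroup_le_omitSystem {p : ℕ} [Fact p.Prime] [Finite S] (hS : IsPGroup p S)
    (hF : F.IsSaturated p) (hfn : F.IsFullyNormalized Q) (hM : KeyProp F Q M)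
    (hcen : F.IsCentric Q) (hne : Q ≠ S) {R : Subgroup Ω} (hR : R ≤ S) (hnc : ¬ F.IsConj Q R) :
    F.autGroup R ≤ (omitSystem hS hF hfn hM hcen hne).autGroup R := by
  intro α hα
  rw [mem_autGroup_iff hR] at hα
  apply Subgroup.subset_closure
  show GoodMap F Q M R (extAut α)
  refine ⟨hα, fun Q₁ Q₂ k₁ g₁ k₂ g₂ hQ₁R a₁ a₂ hiso => ?_⟩
  have hQ₁ne : Q₁ ≠ R := by
    intro h
    apply hnc
    rw [← h]
    exact isConj_iff.2 ⟨g₁, a₁.inv⟩
  have : Finite R := finite_of_le hR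
  have hRp : IsPGroup p R := hS.to_le hR
  obtain ⟨n, hn, hnQ⟩ := exists_normalizer_not_mem (S := R) hRp hQ₁R hQ₁ne
  exact goodAut_of_ext hM hcen a₁ a₂ (le_normalizerIn (S := R) hQ₁R) (inf_le_inf_right _ hR) hn hnQ
    (hα.restrict inf_le_left) hiso

theorem not_le_omitSystem {p : ℕ} [Fact p.Prime] [Finite S] (hS : IsPGroup p S)
    (hF : F.IsSaturated p) (hfn : F.IsFullyNormalized Q) (hM : KeyProp F Q M)
    (hcen : F.IsCentric Q) (hne : Q ≠ S) (hMtop : M ≠ ⊤) :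
    ¬ F ≤ omitSystem hS hF hfn hM hcen hne := by
  intro hle
  apply hMtop
  rw [eq_top_iff]
  intro β _
  have hQS := hcen.1
  have hβ : Mor F Q (extAut (β : MulAut Q)) := (mem_autGroup_iff hQS).1 β.2
  have hφ : Q.subtype.comp (β : MulAut Q).toMonoidHom ∈ F.Hom Q := mem_hom_iff_mor.2 hβ
  have h1 : GoodMap F Q M Q (extAut (β : MulAut Q)) := hle Q hφ
  obtain ⟨β', hβ'M, e⟩ := h1.2 Q Q (fun x => x) (fun x => x) (fun x => x) (fun x => x) le_rfl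
    (adm_refl hQS) (adm_refl hQS) (iso_of_mor_extAut hβ)
  have : β' = β := by
    apply Subtype.ext
    apply MulEquiv.ext
    intro x
    apply Subtype.ext
    rw [e x]
    exact extAut_apply _ x
  rw [← this]
  exact hβ'M

end Omit

/-- **An essential class cannot be omitted**: for `Q` essential in a saturated system `F` there is a fusion
system containing `Aut_F(R)` for all `R` not `F`-conjugate to `Q` but not containing `F`. -/
theorem exists_omit_essential {Ω : Type*} [Group Ω] {S : Subgroup Ω} [Finite S] {p : ℕ} [Fact p.Prime]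
    (hS : IsPGroup p S) (F : FusionSystem S) (hF : F.IsSaturated p) (Q : Subgroup Ω)
    (hQ : F.IsEssential p Q) :
    ∃ E : FusionSystem S, (∀ R : Subgroup Ω, R ≤ S → ¬ F.IsConj Q R → F.autGroup R ≤ E.autGroup R) ∧
      ¬ F ≤ E := by
  obtain ⟨hcen, hfn, hn, M₀, hM₀⟩ := hQ
  have := hn
  have hQS := hcen.1
  have : Finite Q := finite_of_le hQS
  have : Finite (MulAut Q) := Finite.of_injective (fun e : MulAut Q => (e : Q → Q)) DFunLike.coe_injective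
  obtain ⟨-, PA, hPA⟩ := fullyAutomized_of_fullyNormalized hS hF hfn
  obtain ⟨M, hMtop, ⟨x₀, hx₀P, hx₀I⟩, hMkey⟩ := exists_subgroup_of_spe_quotient _ M₀ hM₀ PA
  have hKey : KeyProp F Q M := by
    intro x hx hxI β hβ
    have hxA : x ∈ F.autGroup Q := autInducedBy_le_autGroup F hQS hx
    apply hMkey ⟨x, hxA⟩
    · rw [hPA, Subgroup.mem_subgroupOf]; exact hx
    · rw [Subgroup.mem_subgroupOf]; exact hxI
    · rw [hPA, Subgroup.mem_subgroupOf]; exact hβ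
  have hne : Q ≠ S := by
    intro hQeq
    apply hx₀I
    rw [Subgroup.mem_subgroupOf]
    have h1 : (x₀ : MulAut Q) ∈ autInducedBy S Q := by
      rw [hPA, Subgroup.mem_subgroupOf] at hx₀P; exact hx₀P
    obtain ⟨n, hnS, e⟩ := mem_autInducedBy_iff.1 h1
    have hnQ : n ∈ Q := by rw [hQeq]; exact hnS
    refine ⟨⟨n, hnQ⟩, ?_⟩
    ext y
    rw [e]
    simp [MulAut.conj_apply]
  exact ⟨omitSystem hS hF hfn hKey hcen hne,
    fun R hR hnc => autGroup_le_omitSystem hS hF hfn hKey hcen hne hR hnc,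
    not_le_omitSystem hS hF hfn hKey hcen hne hMtop⟩

end Cfsg.Agent.Helper88
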