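import Mathlib
import Cfsg.Prelude.Def_FischerSpaces

set_option autoImplicit false

namespace Cfsg.Agent.Helper88

open Cfsg Cfsg.LineSystem

variable {X : Type*} {L : Set (Set X)}

/-- partial linear space with three-point lines -/
structure PL3 (L : Set (Set X)) : Prop where
  pl : IsPartialLinear L
  three : ∀ l ∈ L, l.ncard = 3

theorem PL3.line_eq (h : PL3 L) {l : Set X} (hl : l ∈ L) {x y : X} (hx : x ∈ l) (hy : y ∈ l)
    (hxy : x ≠ y) : ∃ z, z ≠ x ∧ z ≠ y ∧ l = {x, y, z} := by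
  obtain ⟨a, b, c, hab, hac, hbc, rfl⟩ := Set.ncard_eq_three.1 (h.three l hl)
  simp only [Set.mem_insert_iff, Set.mem_singleton_iff] at hx hy
  rcases hx with rfl | rfl | rfl <;> rcases hy with rfl | rfl | rfl
  · exact absurd rfl hxy
  · exact ⟨c, hac.symm, hbc.symm, rfl⟩
  · exact ⟨b, hab.symm, hbc, by ext t; simp only [Set.mem_insert_iff, Set.mem_singleton_iff]; tauto⟩
  · exact ⟨c, hbc.symm, hac.symm, by ext t; simp only [Set.mem_insert_iff, Set.mem_singleton_iff]; tauto⟩
  · exact absurd rfl hxy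
  · exact ⟨a, hab, hac, by ext t; simp only [Set.mem_insert_iff, Set.mem_singleton_iff]; tauto⟩
  · exact ⟨b, hbc, hab.symm, by ext t; simp only [Set.mem_insert_iff, Set.mem_singleton_iff]; tauto⟩
  · exact ⟨a, hac, hab, by ext t; simp only [Set.mem_insert_iff, Set.mem_singleton_iff]; tauto⟩
  · exact absurd rfl hxy

theorem PL3.third_unique (h : PL3 L) {x y z z' : X} (hxy : x ≠ y) (h1 : ({x, y, z} : Set X) ∈ L)
    (h2 : ({x, y, z'} : Set X) ∈ L) (hz'x : z' ≠ x) (hz'y : z' ≠ y) : z' = z := by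
  have e := h.pl _ h1 _ h2 x y hxy (by simp) (by simp) (by simp) (by simp)
  have hz' : z' ∈ ({x, y, z} : Set X) := by rw [e]; simp
  simp only [Set.mem_insert_iff, Set.mem_singleton_iff] at hz'
  rcases hz' with h | h | h
  · exact absurd h hz'x
  · exact absurd h hz'y
  · exact h

theorem PL3.lineMap_eq (h : PL3 L) {x y z : X} (hzx : z ≠ x) (hzy : z ≠ y) (hxy : x ≠ y)
    (hl : ({x, y, z} : Set X) ∈ L) : lineMap L x y = z := by
  unfold lineMap
  have hex : ∃ z : X, z ≠ x ∧ z ≠ y ∧ x ≠ y ∧ ({x, y, z} : Set X) ∈ L := ⟨z, hzx, hzy, hxy, hl⟩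
  rw [dif_pos hex]
  obtain ⟨h1, h2, -, h4⟩ := hex.choose_spec
  exact h.third_unique hxy hl h4 h1 h2

theorem lineMap_of_not_collinear {x y : X} (hn : ¬ Collinear L x y) : lineMap L x y = y := by
  unfold lineMap
  rw [dif_neg]
  rintro ⟨z, -, -, hxy, hl⟩
  exact hn ⟨hxy, _, hl, by simp, by simp⟩

theorem lineMap_self (x : X) : lineMap L x x = x :=
  lineMap_of_not_collinear (fun h => h.1 rfl)

theorem PL3.exists_third (h : PL3 L) {x y : X} (hc : Collinear L x y) :
    ∃ z, z ≠ x ∧ z ≠ y ∧ ({x, y, z} : Set X) ∈ L ∧ lineMap L x y = z := by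
  obtain ⟨hxy, l, hl, hx, hy⟩ := hc
  obtain ⟨z, hzx, hzy, rfl⟩ := h.line_eq hl hx hy hxy
  exact ⟨z, hzx, hzy, hl, h.lineMap_eq hzx hzy hxy hl⟩

theorem PL3.lineMap_lineMap (h : PL3 L) (x y : X) : lineMap L x (lineMap L x y) = y := by
  by_cases hc : Collinear L x y
  · obtain ⟨z, hzx, hzy, hl, e⟩ := h.exists_third hc
    rw [e]
    have hl' : ({x, z, y} : Set X) ∈ L := by
      have : ({x, z, y} : Set X) = {x, y, z} := by
        ext t; simp only [Set.mem_insert_iff, Set.mem_singleton_iff]; tauto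
      rw [this]; exact hl
    exact h.lineMap_eq hc.1.symm hzy.symm hzx.symm hl'
  · rw [lineMap_of_not_collinear hc, lineMap_of_not_collinear hc]

/-- `t(x)` as a permutation -/
noncomputable def PL3.perm (h : PL3 L) (x : X) : Equiv.Perm X where
  toFun := lineMap L x
  invFun := lineMap L x
  left_inv := h.lineMap_lineMap x
  right_inv := h.lineMap_lineMap x

theorem PL3.coe_perm (h : PL3 L) (x : X) : ⇑(h.perm x) = lineMap L x := rfl

theorem PL3.perm_mul_self (h : PL3 L) (x : X) : h.perm x * h.perm x = 1 := by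
  ext y
  exact h.lineMap_lineMap x y

theorem PL3.perm_ne_one (h : PL3 L) {x : X} (hx : ∃ l ∈ L, x ∈ l) : h.perm x ≠ 1 := by
  obtain ⟨l, hl, hxl⟩ := hx
  obtain ⟨a, b, c, hab, hac, hbc, rfl⟩ := Set.ncard_eq_three.1 (h.three l hl)
  -- pick a point of the line different from x
  obtain ⟨y, hy, hyx⟩ : ∃ y ∈ ({a, b, c} : Set X), y ≠ x := by
    by_cases hxa : a = x
    · exact ⟨b, by simp, fun hb => hab (hxa.trans hb.symm)⟩
    · exact ⟨a, by simp, hxa⟩
  obtain ⟨z, hzx, hzy, -, e⟩ := h.exists_third ⟨hyx.symm, _, hl, hxl, hy⟩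
  intro h1
  have : h.perm x y = y := by rw [h1]; rfl
  rw [h.coe_perm, e] at this
  exact hzy this

theorem PL3.orderOf_perm (h : PL3 L) {x : X} (hx : ∃ l ∈ L, x ∈ l) : orderOf (h.perm x) = 2 :=
  orderOf_eq_prime (by rw [pow_two]; exact h.perm_mul_self x) (h.perm_ne_one hx)

/-! ### equivariance of `lineMap` under automorphisms -/

theorem collinear_of_iso {σ : X ≃ X} (hσ : IsIso L L σ) {x y : X} (hc : Collinear L (σ x) (σ y)) :
    Collinear L x y := by
  obtain ⟨hne, l', hl', hx, hy⟩ := hc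
  have hs : σ ⁻¹' l' ∈ L := (hσ _).2 (by rw [Equiv.image_preimage]; exact hl')
  exact ⟨fun h => hne (by rw [h]), _, hs, hx, hy⟩

theorem PL3.lineMap_equivariant (h : PL3 L) {σ : X ≃ X} (hσ : IsIso L L σ) (x y : X) :
    lineMap L (σ x) (σ y) = σ (lineMap L x y) := by
  by_cases hc : Collinear L x y
  · obtain ⟨z, hzx, hzy, hl, e⟩ := h.exists_third hc
    rw [e]
    have h1 : σ '' ({x, y, z} : Set X) ∈ L := (hσ _).1 hl
    have h2 : σ '' ({x, y, z} : Set X) = {σ x, σ y, σ z} := by
      simp only [Set.image_insert_eq, Set.image_singleton]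
    rw [h2] at h1
    exact h.lineMap_eq (fun h' => hzx (σ.injective h')) (fun h' => hzy (σ.injective h'))
      (fun h' => hc.1 (σ.injective h')) h1
  · rw [lineMap_of_not_collinear hc, lineMap_of_not_collinear (fun h' => hc (collinear_of_iso hσ h'))]

theorem PL3.perm_conj (h : PL3 L) {σ : Equiv.Perm X} (hσ : IsIso L L σ) (y : X) :
    h.perm (σ y) = σ * h.perm y * σ⁻¹ := by
  ext w
  show lineMap L (σ y) w = σ (lineMap L y (σ⁻¹ w))
  rw [← h.lineMap_equivariant hσ]
  congr 1
  exact (Equiv.apply_symm_apply σ w).symm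

/-! ### span -/

theorem subset_span (S : Set X) : S ⊆ span L S := by
  intro x hx T hT
  exact hT.1 hx

theorem isSubspace_span (S : Set X) : IsSubspace L (span L S) := by
  intro l hl x hx y hy hxy hxl hyl t ht T hT
  exact hT.2 l hl x (hx T hT) y (hy T hT) hxy hxl hyl ht

/-! ### transfer through a model of a subspace -/

theorem PL3.lineMap_mem_subspace (h : PL3 L) {W : Set X} (hW : IsSubspace L W) {p q : X}
    (hp : p ∈ W) (hq : q ∈ W) : lineMap L p q ∈ W := by
  by_cases hc : Collinear L p q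
  · obtain ⟨z, -, -, hl, e⟩ := h.exists_third hc
    rw [e]
    exact hW _ hl p hp q hq hc.1 (by simp) (by simp) (by simp)
  · rw [lineMap_of_not_collinear hc]; exact hq

theorem PL3.model_lineMap (h : PL3 L) {W : Set X} (hW : IsSubspace L W) {Y : Type*}
    {M : Set (Set Y)} (hM : PL3 M) (e : W ≃ Y) (he : IsIso (restrict L W) M e) {p q : X}
    (hp : p ∈ W) (hq : q ∈ W) :
    e ⟨lineMap L p q, h.lineMap_mem_subspace hW hp hq⟩ = lineMap M (e ⟨p, hp⟩) (e ⟨q, hq⟩) := by
  by_cases hc : Collinear L p q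
  · obtain ⟨z, hzp, hzq, hl, e1⟩ := h.exists_third hc
    have hlW : ({p, q, z} : Set X) ⊆ W := hW _ hl p hp q hq hc.1 (by simp) (by simp)
    have hz : z ∈ W := hlW (by simp)
    have hs : {t : W | (t : X) ∈ ({p, q, z} : Set X)} ∈ restrict L W := ⟨_, hl, hlW, rfl⟩
    have hes := (he _).1 hs
    have himg : e '' {t : W | (t : X) ∈ ({p, q, z} : Set X)} = {e ⟨p, hp⟩, e ⟨q, hq⟩, e ⟨z, hz⟩} := by
      ext y
      constructor
      · rintro ⟨t, ht, rfl⟩
        simp only [Set.mem_ofPred_eq, Set.mem_insert_iff, Set.mem_singleton_iff] at ht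
        simp only [Set.mem_insert_iff, Set.mem_singleton_iff]
        rcases ht with h' | h' | h'
        · left; congr 1; exact Subtype.ext h'
        · right; left; congr 1; exact Subtype.ext h'
        · right; right; congr 1; exact Subtype.ext h'
      · intro hy
        simp only [Set.mem_insert_iff, Set.mem_singleton_iff] at hy
        rcases hy with rfl | rfl | rfl
        · exact ⟨⟨p, hp⟩, by simp, rfl⟩
        · exact ⟨⟨q, hq⟩, by simp, rfl⟩
        · exact ⟨⟨z, hz⟩, by simp, rfl⟩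
    rw [himg] at hes
    have h3 : (⟨lineMap L p q, h.lineMap_mem_subspace hW hp hq⟩ : W) = ⟨z, hz⟩ := Subtype.ext e1
    rw [h3]
    symm
    apply hM.lineMap_eq _ _ _ hes
    · intro h'; exact hzp (congrArg Subtype.val (e.injective h'))
    · intro h'; exact hzq (congrArg Subtype.val (e.injective h'))
    · intro h'; exact hc.1 (congrArg Subtype.val (e.injective h'))
  · have h3 : (⟨lineMap L p q, h.lineMap_mem_subspace hW hp hq⟩ : W) = ⟨q, hq⟩ :=
      Subtype.ext (lineMap_of_not_collinear hc)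
    rw [h3]
    symm
    apply lineMap_of_not_collinear
    rintro ⟨hne, lam, hlam, h1, h2⟩
    have hs : e ⁻¹' lam ∈ restrict L W := (he _).2 (by rw [Equiv.image_preimage]; exact hlam)
    obtain ⟨l', hl', -, hs'⟩ := hs
    have hp' : (⟨p, hp⟩ : W) ∈ e ⁻¹' lam := h1
    have hq' : (⟨q, hq⟩ : W) ∈ e ⁻¹' lam := h2
    rw [hs'] at hp' hq'
    refine hc ⟨fun h' => hne ?_, l', hl', hp', hq'⟩
    subst h'
    rfl

theorem PL3.image_mem_of_model (h : PL3 L) {W : Set X} (hW : IsSubspace L W) {Y : Type*}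
    {M : Set (Set Y)} (hM : PL3 M) (hAut : ∀ a : Y, ∀ lam ∈ M, lineMap M a '' lam ∈ M)
    (e : W ≃ Y) (he : IsIso (restrict L W) M e) {x : X} (hx : x ∈ W) {l : Set X} (hl : l ∈ L)
    (hlW : l ⊆ W) : lineMap L x '' l ∈ L := by
  have hs : {t : W | (t : X) ∈ l} ∈ restrict L W := ⟨_, hl, hlW, rfl⟩
  have hlam := (he _).1 hs
  have hlam' := hAut (e ⟨x, hx⟩) _ hlam
  have hs' : e ⁻¹' (lineMap M (e ⟨x, hx⟩) '' (e '' {t : W | (t : X) ∈ l})) ∈ restrict L W :=
    (he _).2 (by rw [Equiv.image_preimage]; exact hlam')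
  obtain ⟨l', hl', hl'W, hs'eq⟩ := hs'
  suffices hh : lineMap L x '' l = l' by rw [hh]; exact hl'
  ext w
  constructor
  · rintro ⟨y, hy, rfl⟩
    have hyW := hlW hy
    have hmem := h.lineMap_mem_subspace hW hx hyW
    have h1 : (⟨lineMap L x y, hmem⟩ : W) ∈
        e ⁻¹' (lineMap M (e ⟨x, hx⟩) '' (e '' {t : W | (t : X) ∈ l})) := by
      show e ⟨_, hmem⟩ ∈ (lineMap M (e ⟨x, hx⟩) '' (e '' {t : W | (t : X) ∈ l}))
      rw [h.model_lineMap hW hM e he hx hyW]
      exact ⟨e ⟨y, hyW⟩, ⟨⟨y, hyW⟩, hy, rfl⟩, rfl⟩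
    rw [hs'eq] at h1
    exact h1
  · intro hw
    have hwW := hl'W hw
    have h1 : (⟨w, hwW⟩ : W) ∈ e ⁻¹' (lineMap M (e ⟨x, hx⟩) '' (e '' {t : W | (t : X) ∈ l})) := by
      rw [hs'eq]; exact hw
    obtain ⟨_, ⟨⟨y, hyW⟩, hy, rfl⟩, e2⟩ := h1
    refine ⟨y, hy, ?_⟩
    rw [← h.model_lineMap hW hM e he hx hyW] at e2
    exact congrArg Subtype.val (e.injective e2)

/-! ### the dual affine plane of order two -/

/-- explicit third-point function in the dual affine plane -/
def third2 (s s' : DualAffinePoint) : DualAffinePoint :=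
  if h : (symmDiff s.1 s'.1).card = 2 ∧ (s.1 ∩ s'.1).card = 1 then ⟨symmDiff s.1 s'.1, h.1⟩ else s'

theorem dap_pl : ∀ i j : Fin 4, ∀ s s' : DualAffinePoint, s ≠ s' → i ∉ s.1 → i ∉ s'.1 → j ∉ s.1 →
    j ∉ s'.1 → i = j := by
  decide +kernel

theorem dap_three : ∀ i : Fin 4, ∃ a b c : DualAffinePoint, a ≠ b ∧ a ≠ c ∧ b ≠ c ∧
    ∀ t : DualAffinePoint, i ∉ t.1 ↔ (t = a ∨ t = b ∨ t = c) := by
  decide +kernel

theorem dap_third : ∀ (s s' : DualAffinePoint) (i : Fin 4), s ≠ s' → i ∉ s.1 → i ∉ s'.1 →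
    (i ∉ (third2 s s').1 ∧ third2 s s' ≠ s ∧ third2 s s' ≠ s' ∧
      ∀ t : DualAffinePoint, i ∉ t.1 → t = s ∨ t = s' ∨ t = third2 s s') := by
  decide +kernel

theorem dap_fix : ∀ s s' : DualAffinePoint, (s = s' ∨ ∀ i : Fin 4, i ∈ s.1 ∨ i ∈ s'.1) →
    third2 s s' = s' := by
  decide +kernel

theorem dap_line : ∀ (s : DualAffinePoint) (i : Fin 4), ∃ j : Fin 4, ∀ t : DualAffinePoint,
    i ∉ t.1 ↔ j ∉ (third2 s t).1 := by
  decide +kernel

theorem dap_invol : ∀ s t : DualAffinePoint, third2 s (third2 s t) = t := by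
  decide +kernel

theorem pl3_dualAffinePlaneTwo : PL3 dualAffinePlaneTwo := by
  constructor
  · rintro l ⟨i, rfl⟩ m ⟨j, rfl⟩ x y hxy hxl hyl hxm hym
    rw [dap_pl i j x y hxy hxl hyl hxm hym]
  · rintro l ⟨i, rfl⟩
    obtain ⟨a, b, c, hab, hac, hbc, h⟩ := dap_three i
    rw [Set.ncard_eq_three]
    refine ⟨a, b, c, hab, hac, hbc, ?_⟩
    ext t
    simp only [Set.mem_insert_iff, Set.mem_singleton_iff]
    exact h t

theorem lineMap_dualAffinePlaneTwo (s s' : DualAffinePoint) :
    lineMap dualAffinePlaneTwo s s' = third2 s s' := by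
  by_cases hc : Collinear dualAffinePlaneTwo s s'
  · obtain ⟨hne, l, ⟨i, rfl⟩, hs, hs'⟩ := hc
    obtain ⟨h1, h2, h3, h4⟩ := dap_third s s' i hne hs hs'
    apply pl3_dualAffinePlaneTwo.lineMap_eq h2 h3 hne
    refine ⟨i, ?_⟩
    ext t
    simp only [Set.mem_insert_iff, Set.mem_singleton_iff]
    constructor
    · rintro (rfl | rfl | rfl)
      · exact hs
      · exact hs'
      · exact h1
    · intro ht
      exact h4 t ht
  · rw [lineMap_of_not_collinear hc]
    symm
    apply dap_fix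
    by_contra hcon
    push Not at hcon
    obtain ⟨hne, i, hi1, hi2⟩ := hcon
    exact hc ⟨hne, _, ⟨i, rfl⟩, hi1, hi2⟩

theorem aut_dualAffinePlaneTwo (a : DualAffinePoint) (lam : Set DualAffinePoint)
    (hlam : lam ∈ dualAffinePlaneTwo) : lineMap dualAffinePlaneTwo a '' lam ∈ dualAffinePlaneTwo := by
  obtain ⟨i, rfl⟩ := hlam
  obtain ⟨j, hj⟩ := dap_line a i
  refine ⟨j, ?_⟩
  ext t
  constructor
  · rintro ⟨t', ht', rfl⟩
    rw [lineMap_dualAffinePlaneTwo]
    exact (hj t').1 ht'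
  · intro ht
    refine ⟨third2 a t, ?_, ?_⟩
    · show i ∉ (third2 a t).1
      rw [hj (third2 a t), dap_invol]
      exact ht
    · rw [lineMap_dualAffinePlaneTwo, dap_invol]

/-! ### the affine plane of order three -/

theorem zmod3_cases (c : ZMod 3) : c = 0 ∨ c = 1 ∨ c = 2 := by
  revert c; decide

theorem ap_neg_two (v : Fin 2 → ZMod 3) : -v - v = v := by
  ext i
  simp only [Pi.sub_apply, Pi.neg_apply]
  generalize v i = a
  revert a; decide

theorem ap_two_smul (v w : Fin 2 → ZMod 3) : v + (2 : ZMod 3) • w = -v - (v + w) := by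
  ext i
  simp only [Pi.add_apply, Pi.smul_apply, Pi.sub_apply, Pi.neg_apply, smul_eq_mul]
  generalize v i = a
  generalize w i = b
  revert a b; decide

theorem ap_ne_left {x y : Fin 2 → ZMod 3} (hxy : x ≠ y) : -x - y ≠ x := by
  intro h
  apply hxy
  ext i
  have := congrFun h i
  simp only [Pi.sub_apply, Pi.neg_apply] at this
  generalize x i = a at this
  generalize y i = b at this
  revert a b; decide

theorem ap_ne_right {x y : Fin 2 → ZMod 3} (hxy : x ≠ y) : -x - y ≠ y := by
  intro h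
  apply hxy
  ext i
  have := congrFun h i
  simp only [Pi.sub_apply, Pi.neg_apply] at this
  generalize x i = a at this
  generalize y i = b at this
  revert a b; decide

theorem mem_affinePlaneThree_iff {l : Set (Fin 2 → ZMod 3)} :
    l ∈ affinePlaneThree ↔ ∃ x y : Fin 2 → ZMod 3, x ≠ y ∧ l = {x, y, -x - y} := by
  constructor
  · rintro ⟨v, w, hw, rfl⟩
    refine ⟨v, v + w, fun h => hw ?_, ?_⟩
    · have : v + w = v + 0 := by rw [add_zero]; exact h.symm
      exact add_left_cancel this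
    · ext t
      simp only [Set.mem_ofPred_eq, Set.mem_insert_iff, Set.mem_singleton_iff]
      constructor
      · rintro ⟨c, rfl⟩
        rcases zmod3_cases c with rfl | rfl | rfl
        · left; simp
        · right; left; simp
        · right; right
          exact ap_two_smul v w
      · rintro (rfl | rfl | rfl)
        · exact ⟨0, by simp⟩
        · exact ⟨1, by simp⟩
        · exact ⟨2, (ap_two_smul v w).symm⟩
  · rintro ⟨x, y, hxy, rfl⟩
    refine ⟨x, y - x, fun h => hxy (sub_eq_zero.1 h).symm, ?_⟩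
    have h2 : x + (2 : ZMod 3) • (y - x) = -x - y := by
      rw [ap_two_smul]; congr 1; abel
    ext t
    simp only [Set.mem_ofPred_eq, Set.mem_insert_iff, Set.mem_singleton_iff]
    constructor
    · rintro (rfl | rfl | rfl)
      · exact ⟨0, by simp⟩
      · exact ⟨1, by simp⟩
      · exact ⟨2, h2.symm⟩
    · rintro ⟨c, rfl⟩
      rcases zmod3_cases c with rfl | rfl | rfl
      · left; simp
      · right; left; simp
      · right; right; exact h2

theorem ap_line_eq {a b x y : Fin 2 → ZMod 3} (hxy : x ≠ y) (hx : x ∈ ({a, b, -a - b} : Set (Fin 2 → ZMod 3)))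
    (hy : y ∈ ({a, b, -a - b} : Set (Fin 2 → ZMod 3))) :
    ({a, b, -a - b} : Set (Fin 2 → ZMod 3)) = {x, y, -x - y} := by
  have e1 : -a - (-a - b) = b := by abel
  have e2 : -b - (-a - b) = a := by abel
  have e3 : -(-a - b) - a = b := by abel
  have e4 : -(-a - b) - b = a := by abel
  have e5 : -b - a = -a - b := by abel
  simp only [Set.mem_insert_iff, Set.mem_singleton_iff] at hx hy
  rcases hx with rfl | rfl | rfl <;> rcases hy with rfl | rfl | rfl
  · exact absurd rfl hxy
  · rfl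
  · rw [e1]; ext t; simp only [Set.mem_insert_iff, Set.mem_singleton_iff]; tauto
  · rw [e5]; ext t; simp only [Set.mem_insert_iff, Set.mem_singleton_iff]; tauto
  · exact absurd rfl hxy
  · rw [e2]; ext t; simp only [Set.mem_insert_iff, Set.mem_singleton_iff]; tauto
  · rw [e3]; ext t; simp only [Set.mem_insert_iff, Set.mem_singleton_iff]; tauto
  · rw [e4]; ext t; simp only [Set.mem_insert_iff, Set.mem_singleton_iff]; tauto
  · exact absurd rfl hxy

theorem pl3_affinePlaneThree : PL3 affinePlaneThree := by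
  constructor
  · intro l hl m hm x y hxy hxl hyl hxm hym
    obtain ⟨a, b, -, rfl⟩ := mem_affinePlaneThree_iff.1 hl
    obtain ⟨c, d, -, rfl⟩ := mem_affinePlaneThree_iff.1 hm
    rw [ap_line_eq hxy hxl hyl, ap_line_eq hxy hxm hym]
  · intro l hl
    obtain ⟨a, b, hab, rfl⟩ := mem_affinePlaneThree_iff.1 hl
    rw [Set.ncard_eq_three]
    exact ⟨a, b, -a - b, hab, (ap_ne_left hab).symm, (ap_ne_right hab).symm, rfl⟩

theorem lineMap_affinePlaneThree (a b : Fin 2 → ZMod 3) : lineMap affinePlaneThree a b = -a - b := by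
  by_cases hab : a = b
  · subst hab
    rw [lineMap_self, ap_neg_two]
  · exact pl3_affinePlaneThree.lineMap_eq (ap_ne_left hab) (ap_ne_right hab) hab
      (mem_affinePlaneThree_iff.2 ⟨a, b, hab, rfl⟩)

theorem aut_affinePlaneThree (a : Fin 2 → ZMod 3) (lam : Set (Fin 2 → ZMod 3))
    (hlam : lam ∈ affinePlaneThree) : lineMap affinePlaneThree a '' lam ∈ affinePlaneThree := by
  obtain ⟨x, y, hxy, rfl⟩ := mem_affinePlaneThree_iff.1 hlam
  rw [mem_affinePlaneThree_iff]
  refine ⟨-a - x, -a - y, fun h => hxy (neg_injective (add_left_cancel (a := -a) (by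
    simpa [sub_eq_add_neg] using h))), ?_⟩
  simp only [Set.image_insert_eq, Set.image_singleton, lineMap_affinePlaneThree]
  have : -a - (-x - y) = -(-a - x) - (-a - y) := by
    have h1 := ap_neg_two a
    calc -a - (-x - y) = (-a - a) + a + x + y := by abel
      _ = a + a + x + y := by rw [h1]
      _ = -(-a - x) - (-a - y) := by abel
  rw [this]

/-! ### Fischer spaces: the maps `t(x)` are automorphisms and 3-transpositions -/

theorem fs_pl3 (hL : IsFischerSpace L) : PL3 L := ⟨hL.1, hL.2.1⟩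

theorem fischer_image_mem (hL : IsFischerSpace L) (x : X) {l : Set X} (hl : l ∈ L) :
    lineMap L x '' l ∈ L := by
  have h := (fs_pl3 hL)
  by_cases hxl : x ∈ l
  · -- the line passes through `x`
    obtain ⟨a, b, c, hab, hac, hbc, rfl⟩ := Set.ncard_eq_three.1 (h.three l hl)
    obtain ⟨y, hy, hyx⟩ : ∃ y ∈ ({a, b, c} : Set X), y ≠ x := by
      by_cases hxa : a = x
      · exact ⟨b, by simp, fun hb => hab (hxa.trans hb.symm)⟩
      · exact ⟨a, by simp, hxa⟩
    obtain ⟨z, hzx, hzy, e⟩ := h.line_eq hl hxl hy hyx.symm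
    rw [e] at hl ⊢
    have h1 : lineMap L x y = z := h.lineMap_eq hzx hzy hyx.symm hl
    have h2 : lineMap L x z = y := by rw [← h1]; exact h.lineMap_lineMap x y
    simp only [Set.image_insert_eq, Set.image_singleton, lineMap_self, h1, h2]
    have : ({x, z, y} : Set X) = {x, y, z} := by
      ext t; simp only [Set.mem_insert_iff, Set.mem_singleton_iff]; tauto
    rw [this]; exact hl
  · by_cases hcol : ∃ y ∈ l, Collinear L x y
    · obtain ⟨y, hy, hc⟩ := hcol
      obtain ⟨hxy, m, hm, hxm, hym⟩ := hc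
      have hne : l ≠ m := fun h' => hxl (h' ▸ hxm)
      have hmeet : (l ∩ m).Nonempty := ⟨y, hy, hym⟩
      have hsub := isSubspace_span (L := L) (l ∪ m)
      have hxW : x ∈ span L (l ∪ m) := subset_span _ (Or.inr hxm)
      have hlW : l ⊆ span L (l ∪ m) := fun t ht => subset_span _ (Or.inl ht)
      rcases hL.2.2 l hl m hm hne hmeet with ⟨e, he⟩ | ⟨e, he⟩
      · exact h.image_mem_of_model hsub pl3_dualAffinePlaneTwo aut_dualAffinePlaneTwo e he hxW hl hlW
      · exact h.image_mem_of_model hsub pl3_affinePlaneThree aut_affinePlaneThree e he hxW hl hlW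
    · push Not at hcol
      have : lineMap L x '' l = l := by
        ext t
        constructor
        · rintro ⟨y, hy, rfl⟩
          rw [lineMap_of_not_collinear (hcol y hy)]; exact hy
        · intro ht
          exact ⟨t, ht, lineMap_of_not_collinear (hcol t ht)⟩
      rw [this]; exact hl

theorem fischer_isIso (hL : IsFischerSpace L) (x : X) : IsIso L L ((fs_pl3 hL).perm x) := by
  intro l
  constructor
  · intro hl
    exact fischer_image_mem hL x hl
  · intro hl
    have := fischer_image_mem hL x hl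
    have e : lineMap L x '' ((fs_pl3 hL).perm x '' l) = l := by
      rw [(fs_pl3 hL).coe_perm, Set.image_image]
      simp only [(fs_pl3 hL).lineMap_lineMap, Set.image_id']
    rw [e] at this
    exact this

section grp

variable {G : Type*} [Group G] {a b : G}

theorem fs_inv_eq_self (ha : a * a = 1) : a⁻¹ = a := inv_eq_of_mul_eq_one_left ha

theorem fs_sq_of_conj (ha : a * a = 1) (hb : b * b = 1) (h : a * b * a⁻¹ = b) : (a * b) ^ 2 = 1 := by
  rw [fs_inv_eq_self ha] at h
  calc (a * b) ^ 2 = (a * b * a) * b := by rw [pow_two]; simp only [mul_assoc]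
    _ = b * b := by rw [h]
    _ = 1 := hb

theorem fs_cube_of_conj (ha : a * a = 1) (hb : b * b = 1) (h : a * b * a⁻¹ = b * a * b⁻¹) :
    (a * b) ^ 3 = 1 := by
  rw [fs_inv_eq_self ha, fs_inv_eq_self hb] at h
  calc (a * b) ^ 3 = (a * b * a) * (b * a * b) := by rw [pow_succ, pow_two]; simp only [mul_assoc]
    _ = (b * a * b) * (b * a * b) := by rw [h]
    _ = b * a * (b * b) * a * b := by simp only [mul_assoc]
    _ = 1 := by rw [hb, mul_one, mul_assoc b a a, ha, mul_one, hb]

end grp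

theorem fischer_transpositions (hL : IsFischerSpace L) (x y : X) :
    ((fs_pl3 hL).perm x * (fs_pl3 hL).perm y) ^ 2 = 1 ∨ ((fs_pl3 hL).perm x * (fs_pl3 hL).perm y) ^ 3 = 1 := by
  have h := (fs_pl3 hL)
  have hx2 := h.perm_mul_self x
  have hy2 := h.perm_mul_self y
  have c1 : h.perm (lineMap L x y) = h.perm x * h.perm y * (h.perm x)⁻¹ :=
    h.perm_conj (fischer_isIso hL x) y
  by_cases hc : Collinear L x y
  · right
    have c2 : h.perm (lineMap L y x) = h.perm y * h.perm x * (h.perm y)⁻¹ :=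
      h.perm_conj (fischer_isIso hL y) x
    obtain ⟨z, hzx, hzy, hl, e⟩ := h.exists_third hc
    have hl' : ({y, x, z} : Set X) ∈ L := by
      have : ({y, x, z} : Set X) = {x, y, z} := by
        ext t; simp only [Set.mem_insert_iff, Set.mem_singleton_iff]; tauto
      rw [this]; exact hl
    have e' : lineMap L y x = z := h.lineMap_eq hzy hzx hc.1.symm hl'
    rw [e] at c1
    rw [e'] at c2
    exact fs_cube_of_conj hx2 hy2 (c1.symm.trans c2)
  · left
    rw [lineMap_of_not_collinear hc] at c1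
    exact fs_sq_of_conj hx2 hy2 c1.symm

end Cfsg.Agent.Helper88
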