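import Mathlib

set_option autoImplicit false

namespace Cfsg.Agent.Helper88

section
variable {G : Type*} [Group G]

/-- polycyclic relations of `3^{1+2}:2` -/
structure PcRel (a u v z : G) : Prop where
  aa : a * a = 1
  u3 : u * (u * u) = 1
  v3 : v * (v * v) = 1
  z3 : z * (z * z) = 1
  zu : z * u = u * z
  zv : z * v = v * z
  az : a * z = z * a
  vu : v * u = u * (v * (z * z))
  au : a * u = u * (u * a)
  av : a * v = v * (v * a)

theorem comm_central {u v : G} (v3 : v * v * v = 1) (uv3 : u * v * (u * v) * (u * v) = 1)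
    (uV3 : u * v⁻¹ * (u * v⁻¹) * (u * v⁻¹) = 1) :
    (u⁻¹ * v⁻¹ * u * v) * u = u * (u⁻¹ * v⁻¹ * u * v) := by
  have hVV : v⁻¹ * v⁻¹ = v := by
    calc v⁻¹ * v⁻¹ = v⁻¹ * v⁻¹ * (v * v * v) := by rw [v3, mul_one]
      _ = v := by group
  have R1 : u * v * u = v⁻¹ * u⁻¹ * v⁻¹ := by
    have h1 : u * v * u * (v * u * v) = 1 := by rw [← uv3]; simp only [mul_assoc]
    calc u * v * u = u * v * u * (v * u * v) * (v * u * v)⁻¹ := by group
      _ = v⁻¹ * u⁻¹ * v⁻¹ := by rw [h1]; group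
  have R2 : v⁻¹ * u * v⁻¹ = u⁻¹ * v * u⁻¹ := by
    have h1 : u * (v⁻¹ * u * v⁻¹) * (u * v⁻¹) = 1 := by rw [← uV3]; simp only [mul_assoc]
    calc v⁻¹ * u * v⁻¹ = u⁻¹ * (u * (v⁻¹ * u * v⁻¹) * (u * v⁻¹)) * (u * v⁻¹)⁻¹ := by group
      _ = u⁻¹ * v * u⁻¹ := by rw [h1]; group
  calc u⁻¹ * v⁻¹ * u * v * u = u⁻¹ * v⁻¹ * (u * v * u) := by group
    _ = u⁻¹ * (v⁻¹ * v⁻¹) * u⁻¹ * v⁻¹ := by rw [R1]; group
    _ = (u⁻¹ * v * u⁻¹) * v⁻¹ := by rw [hVV]
    _ = (v⁻¹ * u * v⁻¹) * v⁻¹ := by rw [R2]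
    _ = v⁻¹ * u * (v⁻¹ * v⁻¹) := by group
    _ = v⁻¹ * u * v := by rw [hVV]
    _ = u * (u⁻¹ * v⁻¹ * u * v) := by group

theorem pcRel_of {a u v : G} (aa : a * a = 1) (au : a * u * a = u⁻¹) (av : a * v * a = v⁻¹)
    (u3 : u * u * u = 1) (v3 : v * v * v = 1) (uv3 : u * v * (u * v) * (u * v) = 1)
    (uV3 : u * v⁻¹ * (u * v⁻¹) * (u * v⁻¹) = 1) :
    PcRel a u v (u⁻¹ * v⁻¹ * u * v) := by
  have ainv : a⁻¹ = a := inv_eq_of_mul_eq_one_left aa
  have uinv : u⁻¹ = u * u := by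
    apply inv_eq_of_mul_eq_one_left
    rw [← u3]
  have vinv : v⁻¹ = v * v := by
    apply inv_eq_of_mul_eq_one_left
    rw [← v3]
  have zu : (u⁻¹ * v⁻¹ * u * v) * u = u * (u⁻¹ * v⁻¹ * u * v) := comm_central v3 uv3 uV3
  -- symmetric version
  have vu3 : v * u * (v * u) * (v * u) = 1 := by
    have : v * u * (v * u) * (v * u) = u⁻¹ * (u * v * (u * v) * (u * v)) * u := by group
    rw [this, uv3]; group
  have vU3 : v * u⁻¹ * (v * u⁻¹) * (v * u⁻¹) = 1 := by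
    have : v * u⁻¹ * (v * u⁻¹) * (v * u⁻¹) = (u * v⁻¹ * (u * v⁻¹) * (u * v⁻¹))⁻¹ := by group
    rw [this, uV3, inv_one]
  have zv' : (v⁻¹ * u⁻¹ * v * u) * v = v * (v⁻¹ * u⁻¹ * v * u) := comm_central u3 vu3 vU3
  have zinv : (u⁻¹ * v⁻¹ * u * v)⁻¹ = v⁻¹ * u⁻¹ * v * u := by group
  have hcu : Commute (u⁻¹ * v⁻¹ * u * v) u := zu
  have hcv : Commute (u⁻¹ * v⁻¹ * u * v) v := by
    have hc : Commute (v⁻¹ * u⁻¹ * v * u) v := zv'
    rw [← inv_inv (u⁻¹ * v⁻¹ * u * v), zinv]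
    exact hc.inv_left
  have zv : (u⁻¹ * v⁻¹ * u * v) * v = v * (u⁻¹ * v⁻¹ * u * v) := hcv.eq
  have z3 : (u⁻¹ * v⁻¹ * u * v) * ((u⁻¹ * v⁻¹ * u * v) * (u⁻¹ * v⁻¹ * u * v)) = 1 := by
    have h1 : v⁻¹ * u * v = u * (u⁻¹ * v⁻¹ * u * v) := by group
    have h2 : (v⁻¹ * u * v) * (v⁻¹ * u * v) * (v⁻¹ * u * v) = 1 := by
      have : (v⁻¹ * u * v) * (v⁻¹ * u * v) * (v⁻¹ * u * v) = v⁻¹ * (u * u * u) * v := by group
      rw [this, u3]; group
    rw [h1] at h2
    set z := u⁻¹ * v⁻¹ * u * v with hz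
    have h3 : u * z * (u * z) * (u * z) = (u * u * u) * (z * (z * z)) := by
      calc u * z * (u * z) * (u * z) = u * (z * u) * (z * u) * z := by simp only [mul_assoc]
        _ = u * (u * z) * (u * z) * z := by rw [hcu.eq]
        _ = u * u * (z * u) * z * z := by simp only [mul_assoc]
        _ = u * u * (u * z) * z * z := by rw [hcu.eq]
        _ = (u * u * u) * (z * (z * z)) := by simp only [mul_assoc]
    rw [h3, u3, one_mul] at h2
    exact h2
  have az : a * (u⁻¹ * v⁻¹ * u * v) = (u⁻¹ * v⁻¹ * u * v) * a := by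
    have hau : a * u⁻¹ * a = u := by
      have : a * u⁻¹ * a = (a * u * a)⁻¹ := by
        rw [_root_.mul_inv_rev, _root_.mul_inv_rev, ainv, mul_assoc]
      rw [this, au, inv_inv]
    have hav : a * v⁻¹ * a = v := by
      have : a * v⁻¹ * a = (a * v * a)⁻¹ := by
        rw [_root_.mul_inv_rev, _root_.mul_inv_rev, ainv, mul_assoc]
      rw [this, av, inv_inv]
    have h1 : a * (u⁻¹ * v⁻¹ * u * v) =
        (a * u⁻¹ * a) * (a * v⁻¹ * a) * (a * u * a) * (a * v * a) * a := by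
      have e : ∀ x : G, a * (a * x) = x := fun x => by rw [← mul_assoc, aa, one_mul]
      simp only [mul_assoc, e]
      rw [aa, mul_one]
    rw [h1, hau, hav, au, av]
    -- u v u⁻¹ v⁻¹ = z
    have h2 : u * v * u⁻¹ * v⁻¹ = u⁻¹ * v⁻¹ * u * v := by
      have huv : u * v = v * u * (u⁻¹ * v⁻¹ * u * v) := by group
      calc u * v * u⁻¹ * v⁻¹ = v * u * (u⁻¹ * v⁻¹ * u * v) * u⁻¹ * v⁻¹ := by rw [← huv]
        _ = v * u * ((u⁻¹ * v⁻¹ * u * v) * u⁻¹) * v⁻¹ := by simp only [mul_assoc]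
        _ = v * u * (u⁻¹ * (u⁻¹ * v⁻¹ * u * v)) * v⁻¹ := by rw [(hcu.inv_right).eq]
        _ = v * ((u⁻¹ * v⁻¹ * u * v) * v⁻¹) := by group
        _ = v * (v⁻¹ * (u⁻¹ * v⁻¹ * u * v)) := by rw [(hcv.inv_right).eq]
        _ = u⁻¹ * v⁻¹ * u * v := by group
    rw [h2]
  refine ⟨aa, by rw [← u3]; simp only [mul_assoc], by rw [← v3]; simp only [mul_assoc], z3, zu, zv, az,
    ?_, ?_, ?_⟩
  · -- v u = u v z⁻¹, z⁻¹ = z z
    have hz2 : (u⁻¹ * v⁻¹ * u * v) * (u⁻¹ * v⁻¹ * u * v) = (u⁻¹ * v⁻¹ * u * v)⁻¹ := by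
      symm
      apply inv_eq_of_mul_eq_one_left
      rw [← z3]; simp only [mul_assoc]
    rw [hz2]; group
  · calc a * u = (a * u * a) * a := by rw [mul_assoc (a * u), aa, mul_one]
      _ = u * (u * a) := by rw [au, uinv, mul_assoc]
  · calc a * v = (a * v * a) * a := by rw [mul_assoc (a * v), aa, mul_one]
      _ = v * (v * a) := by rw [av, vinv, mul_assoc]


/-- the nine conjugates of `a` -/
def pcP (a u v : G) : Fin 3 → Fin 3 → G :=
  ![![a, (v * v) * a * v, v * a * (v * v)],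
    ![(u * u) * a * u, (v * v) * ((u * u) * a * u) * v, v * ((u * u) * a * u) * (v * v)],
    ![u * a * (u * u), (v * v) * (u * a * (u * u)) * v, v * (u * a * (u * u)) * (v * v)]]

/-- `(i, i') ↦ -i - i'` on `Fin 3` -/
def negAdd3 : Fin 3 → Fin 3 → Fin 3 := ![![0, 2, 1], ![2, 1, 0], ![1, 0, 2]]

theorem pcP_conj {a u v z : G} (h : PcRel a u v z) (i j i' j' : Fin 3) :
    pcP a u v i' j' * pcP a u v i j * pcP a u v i' j' = pcP a u v (negAdd3 i i') (negAdd3 j j') := by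
  have aa := h.aa
  have u3 := h.u3
  have v3 := h.v3
  have z3 := h.z3
  have zu := h.zu
  have zv := h.zv
  have az := h.az
  have vu := h.vu
  have au := h.au
  have av := h.av
  have aa' : ∀ x, a * (a * x) = x := fun x => by rw [← mul_assoc, aa, one_mul]
  have u3' : ∀ x, u * (u * (u * x)) = x := fun x => by
    rw [← mul_assoc u u x, ← mul_assoc u (u * u) x, u3, one_mul]
  have v3' : ∀ x, v * (v * (v * x)) = x := fun x => by
    rw [← mul_assoc v v x, ← mul_assoc v (v * v) x, v3, one_mul]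
  have z3' : ∀ x, z * (z * (z * x)) = x := fun x => by
    rw [← mul_assoc z z x, ← mul_assoc z (z * z) x, z3, one_mul]
  have zu' : ∀ x, z * (u * x) = u * (z * x) := fun x => by rw [← mul_assoc, zu, mul_assoc]
  have zv' : ∀ x, z * (v * x) = v * (z * x) := fun x => by rw [← mul_assoc, zv, mul_assoc]
  have az' : ∀ x, a * (z * x) = z * (a * x) := fun x => by rw [← mul_assoc, az, mul_assoc]
  have vu' : ∀ x, v * (u * x) = u * (v * (z * (z * x))) := fun x => by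
    rw [← mul_assoc, vu]; simp only [mul_assoc]
  have au' : ∀ x, a * (u * x) = u * (u * (a * x)) := fun x => by
    rw [← mul_assoc, au]; simp only [mul_assoc]
  have av' : ∀ x, a * (v * x) = v * (v * (a * x)) := fun x => by
    rw [← mul_assoc, av]; simp only [mul_assoc]
  fin_cases i <;> fin_cases j <;> fin_cases i' <;> fin_cases j' <;>
    simp only [pcP, negAdd3, Fin.reduceFinMk, Fin.isValue, Matrix.cons_val, mul_assoc, mul_one, one_mul,
      aa, u3, v3, z3, zu, zv, az, vu, au, av, aa', u3', v3', z3', zu', zv', az', vu', au', av']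


theorem negAdd3_self : ∀ r : Fin 3, negAdd3 r r = r := by decide

theorem pcP_mul_self {a u v z : G} (h : PcRel a u v z) (r s : Fin 3) :
    pcP a u v r s * pcP a u v r s = 1 := by
  have := pcP_conj h r s r s
  rw [negAdd3_self, negAdd3_self] at this
  exact mul_eq_right.1 this

theorem pcP_commute_refl {a u v z : G} (h : PcRel a u v z) {i j i' j' : Fin 3}
    (hc : Commute (pcP a u v i j) (pcP a u v i' j')) (r s : Fin 3) :
    Commute (pcP a u v (negAdd3 i r) (negAdd3 j s)) (pcP a u v (negAdd3 i' r) (negAdd3 j' s)) := by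
  rw [← pcP_conj h i j r s, ← pcP_conj h i' j' r s]
  have hg := pcP_mul_self h r s
  set g := pcP a u v r s
  set x := pcP a u v i j
  set y := pcP a u v i' j'
  show g * x * g * (g * y * g) = g * y * g * (g * x * g)
  calc g * x * g * (g * y * g) = g * x * (g * g) * y * g := by simp only [mul_assoc]
    _ = g * (x * y) * g := by rw [hg, mul_one]; simp only [mul_assoc]
    _ = g * (y * x) * g := by rw [hc.eq]
    _ = g * y * (g * g) * x * g := by rw [hg, mul_one]; simp only [mul_assoc]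
    _ = g * y * g * (g * x * g) := by simp only [mul_assoc]

/-- the four base pairs -/
def pcBase : List (Fin 3 × Fin 3 × Fin 3 × Fin 3) := [(0, 0, 2, 0), (0, 0, 0, 2), (2, 0, 0, 2), (1, 0, 0, 2)]

theorem pcP_base : ∀ i j i' j' : Fin 3, (i ≠ i' ∨ j ≠ j') → ∃ r s : Fin 3,
    (negAdd3 i r, negAdd3 j s, negAdd3 i' r, negAdd3 j' s) ∈ pcBase ∨
      (negAdd3 i' r, negAdd3 j' s, negAdd3 i r, negAdd3 j s) ∈ pcBase := by
  decide

theorem pcP_not_commute {a u v z : G} (h : PcRel a u v z)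
    (hb1 : ¬ Commute (pcP a u v 0 0) (pcP a u v 2 0)) (hb2 : ¬ Commute (pcP a u v 0 0) (pcP a u v 0 2))
    (hb3 : ¬ Commute (pcP a u v 2 0) (pcP a u v 0 2)) (hb4 : ¬ Commute (pcP a u v 1 0) (pcP a u v 0 2))
    (i j i' j' : Fin 3) (hne : i ≠ i' ∨ j ≠ j') :
    ¬ Commute (pcP a u v i j) (pcP a u v i' j') := by
  intro hc
  obtain ⟨r, s, hmem⟩ := pcP_base i j i' j' hne
  have hc' := pcP_commute_refl h hc r s
  rcases hmem with hm | hm
  · simp only [pcBase, List.mem_cons, Prod.mk.injEq, List.not_mem_nil, or_false] at hm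
    rcases hm with ⟨e1, e2, e3, e4⟩ | ⟨e1, e2, e3, e4⟩ | ⟨e1, e2, e3, e4⟩ | ⟨e1, e2, e3, e4⟩ <;>
      rw [e1, e2, e3, e4] at hc'
    · exact hb1 hc'
    · exact hb2 hc'
    · exact hb3 hc'
    · exact hb4 hc'
  · simp only [pcBase, List.mem_cons, Prod.mk.injEq, List.not_mem_nil, or_false] at hm
    rcases hm with ⟨e1, e2, e3, e4⟩ | ⟨e1, e2, e3, e4⟩ | ⟨e1, e2, e3, e4⟩ | ⟨e1, e2, e3, e4⟩ <;>
      rw [e1, e2, e3, e4] at hc'
    · exact hb1 hc'.symm
    · exact hb2 hc'.symm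
    · exact hb3 hc'.symm
    · exact hb4 hc'.symm

theorem pcP_eq_conj {a u v z : G} (h : PcRel a u v z) (i j : Fin 3) :
    ∃ g : G, pcP a u v i j = g * a * g⁻¹ := by
  have u3 := h.u3
  have v3 := h.v3
  have uinv : u⁻¹ = u * u := inv_eq_of_mul_eq_one_right u3
  have vinv : v⁻¹ = v * v := inv_eq_of_mul_eq_one_right v3
  have uuinv : (u * u)⁻¹ = u := inv_eq_of_mul_eq_one_left (by rw [← mul_assoc] at u3; rw [← u3]; simp only [mul_assoc])
  have vvinv : (v * v)⁻¹ = v := inv_eq_of_mul_eq_one_left (by rw [← mul_assoc] at v3; rw [← v3]; simp only [mul_assoc])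
  fin_cases i <;> fin_cases j
  · exact ⟨1, by simp [pcP]⟩
  · exact ⟨v * v, by rw [vvinv]; simp [pcP]⟩
  · exact ⟨v, by rw [vinv]; simp [pcP]⟩
  · exact ⟨u * u, by rw [uuinv]; simp [pcP]⟩
  · exact ⟨(v * v) * (u * u), by rw [_root_.mul_inv_rev, uuinv, vvinv]; simp [pcP, mul_assoc]⟩
  · exact ⟨v * (u * u), by rw [_root_.mul_inv_rev, uuinv, vinv]; simp [pcP, mul_assoc]⟩
  · exact ⟨u, by rw [uinv]; simp [pcP]⟩
  · exact ⟨(v * v) * u, by rw [_root_.mul_inv_rev, uinv, vvinv]; simp [pcP, mul_assoc]⟩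
  · exact ⟨v * u, by rw [_root_.mul_inv_rev, uinv, vinv]; simp [pcP, mul_assoc]⟩

end

end Cfsg.Agent.Helper88
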