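import Mathlib
import Cfsg.Prelude.Def_FischerSpaces
import Cfsg.Agent.Lib.Helper88.FischerSpace
import Cfsg.Agent.Lib.Helper88.ThreeTrans
import Cfsg.Agent.Lib.Helper88.Heis

set_option autoImplicit false

namespace Cfsg.Agent.Helper88

open Cfsg Cfsg.LineSystem

variable {G : Type*} [Group G] {D : Set G}

/-- the line through two members of `D` -/
def tline (x y : D) : Set D :=
  {z : D | (z : G) = x ∨ (z : G) = y ∨ (z : G) = (y : G) * (x : G) * (y : G)⁻¹}

theorem mem_ttLines_iff {l : Set D} :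
    l ∈ threeTranspositionLines D ↔ ∃ x y : D, ¬ Commute (x : G) (y : G) ∧ l = tline x y := Iff.rfl

namespace TT

variable (h : TT D)
include h

/-- the third point of the line through two non-commuting members -/
def circ (x y : D) : D := ⟨(y : G) * (x : G) * (y : G)⁻¹, h.conj y x x.2⟩

theorem tline_eq (x y : D) : tline x y = {x, y, h.circ x y} := by
  ext z
  simp only [tline, Set.mem_ofPred_eq, Set.mem_insert_iff, Set.mem_singleton_iff]
  constructor
  · rintro (e | e | e)
    · left; exact Subtype.ext e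
    · right; left; exact Subtype.ext e
    · right; right; exact Subtype.ext e
  · rintro (rfl | rfl | rfl)
    · left; rfl
    · right; left; rfl
    · right; right; rfl

theorem circ_ne_left {x y : D} (hxy : ¬ Commute (x : G) (y : G)) : h.circ x y ≠ x := by
  intro e
  apply hxy
  have e' : (y : G) * x * (y : G)⁻¹ = x := congrArg Subtype.val e
  show (x : G) * y = y * x
  calc (x : G) * y = ((y : G) * x * (y : G)⁻¹) * y := by rw [e']
    _ = y * x := by group

theorem circ_ne_right {x y : D} (hxy : ¬ Commute (x : G) (y : G)) : h.circ x y ≠ y := by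
  intro e
  apply hxy
  have e' : (y : G) * x * (y : G)⁻¹ = y := congrArg Subtype.val e
  have : (x : G) = y := by
    calc (x : G) = (y : G)⁻¹ * ((y : G) * x * (y : G)⁻¹) * y := by group
      _ = y := by rw [e']; group
  rw [this]

omit h in
theorem ne_of_not_commute {x y : D} (hxy : ¬ Commute (x : G) (y : G)) : x ≠ y := by
  rintro rfl
  exact hxy (Commute.refl _)

theorem circ_comm {x y : D} (hxy : ¬ Commute (x : G) (y : G)) : h.circ y x = h.circ x y :=
  Subtype.ext (h.conj_swap x.2 y.2 hxy).symm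

/-- value of `circ` as a product of three involutions -/
theorem circ_val (x y : D) : ((h.circ x y : D) : G) = (y : G) * x * y := by
  show (y : G) * x * (y : G)⁻¹ = _
  rw [h.inv_eq y.2]

theorem circ_circ_left {x y : D} (hxy : ¬ Commute (x : G) (y : G)) :
    ¬ Commute (x : G) (h.circ x y : D) ∧ h.circ x (h.circ x y) = y := by
  have hb := h.braid x.2 y.2 hxy
  have hx := h.sq x x.2
  have hy := h.sq y y.2
  have key : ((h.circ x (h.circ x y) : D) : G) = y := by
    rw [h.circ_val, h.circ_val]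
    calc (y : G) * x * y * x * ((y : G) * x * y) = (y : G) * (x * y * x) * (y * x * y) := by group
      _ = (y : G) * (y * x * y) * (y * x * y) := by rw [hb]
      _ = ((y : G) * y) * x * (y * y) * x * y := by group
      _ = y := by rw [hy, one_mul, mul_one, hx, one_mul]
  refine ⟨fun hc => ?_, Subtype.ext key⟩
  have e1 : ((h.circ x (h.circ x y) : D) : G) = x := by
    show ((h.circ x y : D) : G) * x * ((h.circ x y : D) : G)⁻¹ = x
    rw [← hc.eq, mul_inv_cancel_right]
  exact ne_of_not_commute hxy (Subtype.ext (e1.symm.trans key))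


theorem circ_circ_right {x y : D} (hxy : ¬ Commute (x : G) (y : G)) :
    ¬ Commute (y : G) (h.circ x y : D) ∧ h.circ y (h.circ x y) = x := by
  have hyx : ¬ Commute (y : G) (x : G) := fun hc => hxy hc.symm
  have := h.circ_circ_left hyx
  rwa [h.circ_comm hxy] at this

theorem tline_eq_of_mem {x y p q : D} (hxy : ¬ Commute (x : G) (y : G)) (hp : p ∈ tline x y)
    (hq : q ∈ tline x y) (hpq : p ≠ q) : ¬ Commute (p : G) (q : G) ∧ tline p q = tline x y := by
  obtain ⟨hxc, hxc'⟩ := h.circ_circ_left hxy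
  obtain ⟨hyc, hyc'⟩ := h.circ_circ_right hxy
  have hcx : ¬ Commute ((h.circ x y : D) : G) (x : G) := fun hc => hxc hc.symm
  have hcy : ¬ Commute ((h.circ x y : D) : G) (y : G) := fun hc => hyc hc.symm
  have hyx : ¬ Commute (y : G) (x : G) := fun hc => hxy hc.symm
  rw [h.tline_eq x y] at hp hq ⊢
  simp only [Set.mem_insert_iff, Set.mem_singleton_iff] at hp hq
  rcases hp with rfl | rfl | rfl <;> rcases hq with rfl | rfl | rfl
  · exact absurd rfl hpq
  · exact ⟨hxy, h.tline_eq _ _⟩
  · refine ⟨hxc, ?_⟩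
    rw [h.tline_eq, hxc']
    ext t; simp only [Set.mem_insert_iff, Set.mem_singleton_iff]; tauto
  · refine ⟨hyx, ?_⟩
    rw [h.tline_eq, h.circ_comm hxy]
    ext t; simp only [Set.mem_insert_iff, Set.mem_singleton_iff]; tauto
  · exact absurd rfl hpq
  · refine ⟨hyc, ?_⟩
    rw [h.tline_eq, hyc']
    ext t; simp only [Set.mem_insert_iff, Set.mem_singleton_iff]; tauto
  · refine ⟨hcx, ?_⟩
    rw [h.tline_eq, h.circ_comm hxc, hxc']
    ext t; simp only [Set.mem_insert_iff, Set.mem_singleton_iff]; tauto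
  · refine ⟨hcy, ?_⟩
    rw [h.tline_eq, h.circ_comm hyc, hyc']
    ext t; simp only [Set.mem_insert_iff, Set.mem_singleton_iff]; tauto
  · exact absurd rfl hpq

omit h in
theorem left_mem_tline (x y : D) : x ∈ tline x y := Or.inl rfl

omit h in
theorem right_mem_tline (x y : D) : y ∈ tline x y := Or.inr (Or.inl rfl)

theorem circ_mem_tline (x y : D) : h.circ x y ∈ tline x y := Or.inr (Or.inr rfl)

/-- the line system of a set of 3-transpositions is partial linear with three-point lines -/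
theorem pl3 : PL3 (threeTranspositionLines D) := by
  constructor
  · rintro l ⟨x, y, hxy, rfl⟩ m ⟨x', y', hxy', rfl⟩ p q hpq hp hq hp' hq'
    exact (h.tline_eq_of_mem hxy hp hq hpq).2.symm.trans (h.tline_eq_of_mem hxy' hp' hq' hpq).2
  · rintro l ⟨x, y, hxy, rfl⟩
    rw [Set.ncard_eq_three]
    exact ⟨x, y, h.circ x y, ne_of_not_commute hxy, (h.circ_ne_left hxy).symm,
      (h.circ_ne_right hxy).symm, h.tline_eq x y⟩

theorem collinear_iff {x y : D} :
    Collinear (threeTranspositionLines D) x y ↔ ¬ Commute (x : G) (y : G) := by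
  constructor
  · rintro ⟨hne, l, ⟨x', y', hxy', rfl⟩, hx, hy⟩
    exact (h.tline_eq_of_mem hxy' hx hy hne).1
  · intro hxy
    exact ⟨ne_of_not_commute hxy, _, ⟨x, y, hxy, rfl⟩, Or.inl rfl, right_mem_tline x y⟩

theorem lineMap_eq_circ {x y : D} (hxy : ¬ Commute (x : G) (y : G)) :
    lineMap (threeTranspositionLines D) x y = h.circ x y := by
  apply h.pl3.lineMap_eq (h.circ_ne_left hxy) (h.circ_ne_right hxy) (ne_of_not_commute hxy)
  rw [← h.tline_eq]
  exact ⟨x, y, hxy, rfl⟩


/-- a model of a subspace of the line system of 3-transpositions -/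
theorem model {Y : Type*} {M : Set (Set Y)} (hM : PL3 M) (P : Y → D) (hP : Function.Injective P)
    (H1 : ∀ y y' : Y, Collinear M y y' →
      ¬ Commute ((P y : D) : G) ((P y' : D) : G) ∧ P (lineMap M y y') = h.circ (P y) (P y'))
    (H2 : ∀ y y' : Y, ¬ Collinear M y y' → Commute ((P y : D) : G) ((P y' : D) : G)) :
    IsSubspace (threeTranspositionLines D) (Set.range P) ∧
      Isomorphic (restrict (threeTranspositionLines D) (Set.range P)) M := by
  have hcolP : ∀ y y' : Y, ¬ Commute ((P y : D) : G) ((P y' : D) : G) → Collinear M y y' :=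
    fun y y' hnc => by
      by_contra hn
      exact hnc (H2 y y' hn)
  constructor
  · rintro l hl p ⟨y, rfl⟩ q ⟨y', rfl⟩ hpq hpl hql t ht
    obtain ⟨x₀, y₀, hxy₀, rfl⟩ := mem_ttLines_iff.1 hl
    obtain ⟨hnc, heq⟩ := h.tline_eq_of_mem hxy₀ hpl hql hpq
    obtain ⟨-, h3⟩ := H1 y y' (hcolP y y' hnc)
    rw [← heq, h.tline_eq] at ht
    simp only [Set.mem_insert_iff, Set.mem_singleton_iff] at ht
    rcases ht with rfl | rfl | rfl
    · exact ⟨y, rfl⟩
    · exact ⟨y', rfl⟩
    · exact ⟨_, h3⟩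
  · refine ⟨(Equiv.ofInjective P hP).symm, fun s => ?_⟩
    have he1 : ∀ t : Set.range P, P ((Equiv.ofInjective P hP).symm t) = t.1 :=
      fun t => Equiv.apply_ofInjective_symm hP t
    have he2 : ∀ y : Y, (Equiv.ofInjective P hP).symm ⟨P y, ⟨y, rfl⟩⟩ = y :=
      fun y => Equiv.ofInjective_symm_apply hP y
    constructor
    · rintro ⟨l', hl', hl'W, rfl⟩
      obtain ⟨x₀, y₀, hxy₀, rfl⟩ := mem_ttLines_iff.1 hl'
      obtain ⟨y₁, hy₁⟩ := hl'W (left_mem_tline x₀ y₀)
      obtain ⟨y₂, hy₂⟩ := hl'W (right_mem_tline x₀ y₀)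
      subst hy₁ hy₂
      have hcol := hcolP y₁ y₂ hxy₀
      obtain ⟨z, hz1, hz2, hline, hlm⟩ := hM.exists_third hcol
      obtain ⟨-, h3⟩ := H1 y₁ y₂ hcol
      rw [hlm] at h3
      suffices hh : (Equiv.ofInjective P hP).symm '' {t : Set.range P | (t : D) ∈ tline (P y₁) (P y₂)} =
          {y₁, y₂, z} by rw [hh]; exact hline
      ext y
      simp only [Set.mem_image, Set.mem_ofPred_eq, Set.mem_insert_iff, Set.mem_singleton_iff]
      constructor
      · rintro ⟨t, ht, rfl⟩
        rw [h.tline_eq] at ht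
        simp only [Set.mem_insert_iff, Set.mem_singleton_iff] at ht
        rcases ht with e | e | e
        · left; apply hP; rw [he1]; exact e
        · right; left; apply hP; rw [he1]; exact e
        · right; right; apply hP; rw [he1, h3]; exact e
      · intro hy
        refine ⟨⟨P y, ⟨y, rfl⟩⟩, ?_, he2 y⟩
        show P y ∈ tline (P y₁) (P y₂)
        rw [h.tline_eq]
        simp only [Set.mem_insert_iff, Set.mem_singleton_iff]
        rcases hy with rfl | rfl | rfl
        · left; rfl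
        · right; left; rfl
        · right; right; exact h3
    · intro hlam
      obtain ⟨y₁, y₂, y₃, h12, h13, h23, hset⟩ := Set.ncard_eq_three.1 (hM.three _ hlam)
      rw [hset] at hlam
      have hcol : Collinear M y₁ y₂ := ⟨h12, _, hlam, by simp, by simp⟩
      have hlm : lineMap M y₁ y₂ = y₃ := hM.lineMap_eq h13.symm h23.symm h12 hlam
      obtain ⟨hnc, h3⟩ := H1 y₁ y₂ hcol
      rw [hlm] at h3
      refine ⟨tline (P y₁) (P y₂), ⟨P y₁, P y₂, hnc, rfl⟩, ?_, ?_⟩
      · intro t ht
        rw [h.tline_eq] at ht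
        simp only [Set.mem_insert_iff, Set.mem_singleton_iff] at ht
        rcases ht with rfl | rfl | rfl
        · exact ⟨y₁, rfl⟩
        · exact ⟨y₂, rfl⟩
        · exact ⟨y₃, h3⟩
      · ext t
        have ht : t ∈ s ↔ (Equiv.ofInjective P hP).symm t ∈ (Equiv.ofInjective P hP).symm '' s :=
          ((Equiv.ofInjective P hP).symm.injective.mem_set_image).symm
        rw [ht, hset]
        simp only [Set.mem_insert_iff, Set.mem_singleton_iff, Set.mem_ofPred_eq]
        rw [h.tline_eq]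
        simp only [Set.mem_insert_iff, Set.mem_singleton_iff]
        have key : ∀ y : Y, (Equiv.ofInjective P hP).symm t = y ↔ (t : D) = P y := by
          intro y
          constructor
          · intro e; rw [← e, he1]
          · intro e; apply hP; rw [he1]; exact e
        rw [key, key, key, h3]


/-- identification of the span of two lines with a model -/
theorem plane_iso {Y : Type*} {M : Set (Set Y)} (hM : PL3 M) (P : Y → D) (hP : Function.Injective P)
    (H1 : ∀ y y' : Y, Collinear M y y' →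
      ¬ Commute ((P y : D) : G) ((P y' : D) : G) ∧ P (lineMap M y y') = h.circ (P y) (P y'))
    (H2 : ∀ y y' : Y, ¬ Collinear M y y' → Commute ((P y : D) : G) ((P y' : D) : G))
    {S : Set D} (hS : S ⊆ Set.range P)
    (hgen : ∀ T : Set D, IsSubspace (threeTranspositionLines D) T → S ⊆ T → Set.range P ⊆ T) :
    Isomorphic (restrict (threeTranspositionLines D) (span (threeTranspositionLines D) S)) M := by
  obtain ⟨hsub, hiso⟩ := h.model hM P hP H1 H2
  have : span (threeTranspositionLines D) S = Set.range P :=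
    Set.Subset.antisymm (fun t ht => ht _ ⟨hS, hsub⟩) (hgen _ (isSubspace_span S) (subset_span S))
  rw [this]
  exact hiso

/-- in a subspace, the third point of two non-commuting members lies in the subspace -/
theorem circ_mem_subspace {T : Set D} (hT : IsSubspace (threeTranspositionLines D) T) {x y : D}
    (hx : x ∈ T) (hy : y ∈ T) (hxy : ¬ Commute (x : G) (y : G)) : h.circ x y ∈ T :=
  hT (tline x y) ⟨x, y, hxy, rfl⟩ x hx y hy (ne_of_not_commute hxy) (left_mem_tline x y)
    (right_mem_tline x y) (h.circ_mem_tline x y)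

end TT

open Equiv

/-- the transposition attached to a two-element subset of `Fin 4` -/
def swapOf (s : Finset (Fin 4)) : Perm (Fin 4) :=
  if 0 ∈ s ∧ 1 ∈ s then swap 0 1 else if 0 ∈ s ∧ 2 ∈ s then swap 0 2 else if 0 ∈ s ∧ 3 ∈ s then swap 0 3
  else if 1 ∈ s ∧ 2 ∈ s then swap 1 2 else if 1 ∈ s ∧ 3 ∈ s then swap 1 3 else swap 2 3

def dp01 : DualAffinePoint := ⟨{0, 1}, by decide⟩
def dp02 : DualAffinePoint := ⟨{0, 2}, by decide⟩
def dp03 : DualAffinePoint := ⟨{0, 3}, by decide⟩
def dp12 : DualAffinePoint := ⟨{1, 2}, by decide⟩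
def dp13 : DualAffinePoint := ⟨{1, 3}, by decide⟩
def dp23 : DualAffinePoint := ⟨{2, 3}, by decide⟩

theorem swapOf_inj : ∀ s s' : DualAffinePoint, swapOf s.1 = swapOf s'.1 → s = s' := by
  decide +kernel

theorem swapOf_conj : ∀ s : DualAffinePoint, ∃ g : Perm (Fin 4), swapOf s.1 = g * swap 0 1 * g⁻¹ := by
  decide +kernel

theorem swapOf_collinear : ∀ (s s' : DualAffinePoint) (i : Fin 4), s ≠ s' → i ∉ s.1 → i ∉ s'.1 →
    swapOf s.1 * swapOf s'.1 ≠ swapOf s'.1 * swapOf s.1 := by
  decide +kernel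

theorem swapOf_third : ∀ (s s' : DualAffinePoint) (i : Fin 4), s ≠ s' → i ∉ s.1 → i ∉ s'.1 →
    swapOf (third2 s s').1 = swapOf s'.1 * swapOf s.1 * (swapOf s'.1)⁻¹ := by
  decide +kernel

theorem swapOf_commute : ∀ s s' : DualAffinePoint, (s = s' ∨ ∀ i : Fin 4, i ∈ s.1 ∨ i ∈ s'.1) →
    swapOf s.1 * swapOf s'.1 = swapOf s'.1 * swapOf s.1 := by
  decide +kernel

theorem dp_facts : swapOf dp01.1 = swap 0 1 ∧ swapOf dp12.1 = swap 1 2 ∧ swapOf dp23.1 = swap 2 3 ∧
    third2 dp12 dp01 = dp02 ∧ third2 dp12 dp23 = dp13 ∧ third2 dp01 dp13 = dp03 ∧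
    dp12 ≠ dp01 ∧ dp12 ≠ dp23 ∧ dp01 ≠ dp13 ∧
    (3 : Fin 4) ∉ dp12.1 ∧ (3 : Fin 4) ∉ dp01.1 ∧ (0 : Fin 4) ∉ dp12.1 ∧ (0 : Fin 4) ∉ dp23.1 ∧
    (2 : Fin 4) ∉ dp01.1 ∧ (2 : Fin 4) ∉ dp13.1 ∧
    ∀ y : DualAffinePoint, y = dp01 ∨ y = dp02 ∨ y = dp03 ∨ y = dp12 ∨ y = dp13 ∨ y = dp23 := by
  decide +kernel


/-- the plane spanned by two lines `{a,b,·}`, `{a,d,·}` with `b`, `d` commuting is dual affine -/
theorem TT.plane_dual (h : TT D) (φ : Perm (Fin 4) →* G) (hφ : Function.Injective φ) {a b d : D}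
    (hb : φ (swap 0 1) = b) (ha : φ (swap 1 2) = a) (hd : φ (swap 2 3) = d) :
    Isomorphic (restrict (threeTranspositionLines D)
      (span (threeTranspositionLines D) (tline a b ∪ tline a d))) dualAffinePlaneTwo := by
  have mem : ∀ s : DualAffinePoint, φ (swapOf s.1) ∈ D := by
    intro s
    obtain ⟨g, hg⟩ := swapOf_conj s
    rw [hg, map_mul, map_mul, map_inv, hb]
    exact h.conj _ _ b.2
  obtain ⟨f01, f12, f23, t02, t13, t03, n1, n2, n3, i1, i2, i3, i4, i5, i6, hall⟩ := dp_facts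
  have H1 : ∀ s s' : DualAffinePoint, Collinear dualAffinePlaneTwo s s' →
      ¬ Commute (((⟨φ (swapOf s.1), mem s⟩ : D)) : G) ((⟨φ (swapOf s'.1), mem s'⟩ : D) : G) ∧
        (⟨φ (swapOf (lineMap dualAffinePlaneTwo s s').1), mem _⟩ : D) =
          h.circ ⟨φ (swapOf s.1), mem s⟩ ⟨φ (swapOf s'.1), mem s'⟩ := by
    rintro s s' ⟨hne, l, ⟨i, rfl⟩, hs, hs'⟩
    constructor
    · intro hc
      apply swapOf_collinear s s' i hne hs hs'
      apply hφ
      rw [map_mul, map_mul]
      exact hc.eq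
    · rw [lineMap_dualAffinePlaneTwo]
      apply Subtype.ext
      show φ (swapOf (third2 s s').1) = φ (swapOf s'.1) * φ (swapOf s.1) * (φ (swapOf s'.1))⁻¹
      rw [swapOf_third s s' i hne hs hs', map_mul, map_mul, map_inv]
  have H2 : ∀ s s' : DualAffinePoint, ¬ Collinear dualAffinePlaneTwo s s' →
      Commute (((⟨φ (swapOf s.1), mem s⟩ : D)) : G) ((⟨φ (swapOf s'.1), mem s'⟩ : D) : G) := by
    intro s s' hn
    have h1 : s = s' ∨ ∀ i : Fin 4, i ∈ s.1 ∨ i ∈ s'.1 := by
      by_contra hcon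
      push Not at hcon
      obtain ⟨hne, i, hi, hi'⟩ := hcon
      exact hn ⟨hne, _, ⟨i, rfl⟩, hi, hi'⟩
    show φ (swapOf s.1) * φ (swapOf s'.1) = φ (swapOf s'.1) * φ (swapOf s.1)
    rw [← map_mul, ← map_mul, swapOf_commute s s' h1]
  have hP : Function.Injective (fun s : DualAffinePoint => (⟨φ (swapOf s.1), mem s⟩ : D)) := by
    intro s s' e
    exact swapOf_inj s s' (hφ (congrArg Subtype.val e))
  -- the six points
  have e12 : (⟨φ (swapOf dp12.1), mem dp12⟩ : D) = a := Subtype.ext (by show φ (swapOf dp12.1) = a; rw [f12]; exact ha)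
  have e01 : (⟨φ (swapOf dp01.1), mem dp01⟩ : D) = b := Subtype.ext (by show φ (swapOf dp01.1) = b; rw [f01]; exact hb)
  have e23 : (⟨φ (swapOf dp23.1), mem dp23⟩ : D) = d := Subtype.ext (by show φ (swapOf dp23.1) = d; rw [f23]; exact hd)
  have c1 : Collinear dualAffinePlaneTwo dp12 dp01 := ⟨n1, _, ⟨3, rfl⟩, i1, i2⟩
  have c2 : Collinear dualAffinePlaneTwo dp12 dp23 := ⟨n2, _, ⟨0, rfl⟩, i3, i4⟩
  have c3 : Collinear dualAffinePlaneTwo dp01 dp13 := ⟨n3, _, ⟨2, rfl⟩, i5, i6⟩
  have e02 : (⟨φ (swapOf dp02.1), mem dp02⟩ : D) = h.circ a b := by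
    have := (H1 _ _ c1).2
    rw [lineMap_dualAffinePlaneTwo, t02, e12, e01] at this
    exact this
  have e13 : (⟨φ (swapOf dp13.1), mem dp13⟩ : D) = h.circ a d := by
    have := (H1 _ _ c2).2
    rw [lineMap_dualAffinePlaneTwo, t13, e12, e23] at this
    exact this
  have e03 : (⟨φ (swapOf dp03.1), mem dp03⟩ : D) = h.circ b (h.circ a d) := by
    have := (H1 _ _ c3).2
    rw [lineMap_dualAffinePlaneTwo, t03, e01, e13] at this
    exact this
  have hbd' : ¬ Commute (b : G) ((h.circ a d : D) : G) := by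
    have := (H1 _ _ c3).1
    rw [e01, e13] at this
    exact this
  apply h.plane_iso pl3_dualAffinePlaneTwo _ hP H1 H2
  · intro t ht
    rcases ht with ht | ht
    · rw [h.tline_eq] at ht
      simp only [Set.mem_insert_iff, Set.mem_singleton_iff] at ht
      rcases ht with rfl | rfl | rfl
      · exact ⟨dp12, e12⟩
      · exact ⟨dp01, e01⟩
      · exact ⟨dp02, e02⟩
    · rw [h.tline_eq] at ht
      simp only [Set.mem_insert_iff, Set.mem_singleton_iff] at ht
      rcases ht with rfl | rfl | rfl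
      · exact ⟨dp12, e12⟩
      · exact ⟨dp23, e23⟩
      · exact ⟨dp13, e13⟩
  · rintro T hT hST _ ⟨y, rfl⟩
    have hbT : b ∈ T := hST (Or.inl (right_mem_tline a b))
    have hadT : h.circ a d ∈ T := hST (Or.inr (h.circ_mem_tline a d))
    rcases hall y with rfl | rfl | rfl | rfl | rfl | rfl
    · show (⟨φ (swapOf dp01.1), mem dp01⟩ : D) ∈ T
      rw [e01]; exact hbT
    · show (⟨φ (swapOf dp02.1), mem dp02⟩ : D) ∈ T
      rw [e02]; exact hST (Or.inl (h.circ_mem_tline a b))
    · show (⟨φ (swapOf dp03.1), mem dp03⟩ : D) ∈ T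
      rw [e03]; exact h.circ_mem_subspace hT hbT hadT hbd'
    · show (⟨φ (swapOf dp12.1), mem dp12⟩ : D) ∈ T
      rw [e12]; exact hST (Or.inl (left_mem_tline a b))
    · show (⟨φ (swapOf dp13.1), mem dp13⟩ : D) ∈ T
      rw [e13]; exact hadT
    · show (⟨φ (swapOf dp23.1), mem dp23⟩ : D) ∈ T
      rw [e23]; exact hST (Or.inr (right_mem_tline a d))

/-! ### the affine case -/

/-- `ZMod 3` is `Fin 3` -/
def ofZ (x : ZMod 3) : Fin 3 := x

theorem negAdd3_eq : ∀ x y : ZMod 3, negAdd3 (ofZ x) (ofZ y) = ofZ (-x - y) := by decide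

theorem vec2_eta (w : Fin 2 → ZMod 3) : w = ![w 0, w 1] := by
  ext k; fin_cases k <;> rfl

/-- the plane spanned by two lines `{a,b,·}`, `{a,d,·}` with no commuting pairs is affine of order three -/
theorem TT.plane_affine (h : TT D) {a b d : D} (hab : ¬ Commute (a : G) (b : G))
    (had : ¬ Commute (a : G) (d : G)) (hbd : ¬ Commute (b : G) (d : G))
    (hcd : ¬ Commute ((h.circ a b : D) : G) (d : G)) :
    Isomorphic (restrict (threeTranspositionLines D)
      (span (threeTranspositionLines D) (tline a b ∪ tline a d))) affinePlaneThree := by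
  have aa := h.sq a a.2
  have bb := h.sq b b.2
  have dd := h.sq d d.2
  have ainv := h.inv_eq a.2
  have binv := h.inv_eq b.2
  have dinv := h.inv_eq d.2
  have cube : ∀ x y : D, ¬ Commute (x : G) (y : G) → (x : G) * y * (x * y) * (x * y) = 1 := by
    intro x y hxy
    rcases h.commute_or_cube x.2 y.2 with hc | h3
    · exact absurd hc hxy
    · rw [← h3, pow_three']
  -- the relations
  have hau : (a : G) * ((a : G) * b) * a = ((a : G) * b)⁻¹ := by
    rw [_root_.mul_inv_rev, ainv, binv, ← mul_assoc, aa, one_mul]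
  have hav : (a : G) * ((a : G) * d) * a = ((a : G) * d)⁻¹ := by
    rw [_root_.mul_inv_rev, ainv, dinv, ← mul_assoc, aa, one_mul]
  have hu3 := cube a b hab
  have hv3 := cube a d had
  have hcval : ((h.circ a b : D) : G) = (a : G) * b * a := by
    rw [h.circ_val, h.braid a.2 b.2 hab]
  have hcval' : ((h.circ a d : D) : G) = (a : G) * d * a := by
    rw [h.circ_val, h.braid a.2 d.2 had]
  have huv3 : (a : G) * b * ((a : G) * d) * ((a : G) * b * ((a : G) * d)) * ((a : G) * b * ((a : G) * d)) = 1 := by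
    have := cube (h.circ a b) d hcd
    rw [hcval] at this
    simpa only [mul_assoc] using this
  have huV3 : (a : G) * b * ((a : G) * d)⁻¹ * ((a : G) * b * ((a : G) * d)⁻¹) *
      ((a : G) * b * ((a : G) * d)⁻¹) = 1 := by
    have h1 := cube b d hbd
    rw [_root_.mul_inv_rev, ainv, dinv]
    have e : ∀ x : G, (a : G) * ((a : G) * x) = x := fun x => by rw [← mul_assoc, aa, one_mul]
    calc (a : G) * b * ((d : G) * a) * ((a : G) * b * ((d : G) * a)) * ((a : G) * b * ((d : G) * a))
        = (a : G) * ((b : G) * d * ((b : G) * d) * ((b : G) * d)) * a := by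
          simp only [mul_assoc, e]
      _ = 1 := by rw [h1, mul_one, aa]
  have hpc := pcRel_of aa hau hav hu3 hv3 huv3 huV3
  have e : ∀ x : G, (a : G) * ((a : G) * x) = x := fun x => by rw [← mul_assoc, aa, one_mul]
  have eb : ∀ x : G, (b : G) * ((b : G) * x) = x := fun x => by rw [← mul_assoc, bb, one_mul]
  have ed : ∀ x : G, (d : G) * ((d : G) * x) = x := fun x => by rw [← mul_assoc, dd, one_mul]
  -- the basic points
  have p00 : pcP (a : G) ((a : G) * b) ((a : G) * d) 0 0 = a := rfl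
  have p20 : pcP (a : G) ((a : G) * b) ((a : G) * d) 2 0 = b := by
    show (a : G) * b * a * ((a : G) * b * ((a : G) * b)) = b
    simp only [mul_assoc, e, eb, aa, bb, mul_one]
  have p10 : pcP (a : G) ((a : G) * b) ((a : G) * d) 1 0 = (h.circ a b : D) := by
    show ((a : G) * b * ((a : G) * b)) * a * ((a : G) * b) = _
    rw [hcval]
    simp only [mul_assoc, e, eb, aa, bb, mul_one]
  have p02 : pcP (a : G) ((a : G) * b) ((a : G) * d) 0 2 = d := by
    show (a : G) * d * a * ((a : G) * d * ((a : G) * d)) = d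
    simp only [mul_assoc, e, ed, aa, dd, mul_one]
  have p01 : pcP (a : G) ((a : G) * b) ((a : G) * d) 0 1 = (h.circ a d : D) := by
    show ((a : G) * d * ((a : G) * d)) * a * ((a : G) * d) = _
    rw [hcval']
    simp only [mul_assoc, e, ed, aa, dd, mul_one]
  set u : G := (a : G) * b with hu
  set v : G := (a : G) * d with hv
  have mem : ∀ i j : Fin 3, pcP (a : G) u v i j ∈ D := by
    intro i j
    obtain ⟨g, hg⟩ := pcP_eq_conj hpc i j
    rw [hg]
    exact h.conj g a a.2
  have hnc := pcP_not_commute hpc (by rw [p00, p20]; exact hab) (by rw [p00, p02]; exact had)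
    (by rw [p20, p02]; exact hbd) (by rw [p10, p02]; exact hcd)
  -- the model map
  have H1 : ∀ w w' : Fin 2 → ZMod 3, Collinear affinePlaneThree w w' →
      ¬ Commute (((⟨pcP (a : G) u v (ofZ (w 0)) (ofZ (w 1)), mem _ _⟩ : D)) : G)
        ((⟨pcP (a : G) u v (ofZ (w' 0)) (ofZ (w' 1)), mem _ _⟩ : D) : G) ∧
      (⟨pcP (a : G) u v (ofZ ((lineMap affinePlaneThree w w') 0))
          (ofZ ((lineMap affinePlaneThree w w') 1)), mem _ _⟩ : D) =
        h.circ ⟨pcP (a : G) u v (ofZ (w 0)) (ofZ (w 1)), mem _ _⟩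
          ⟨pcP (a : G) u v (ofZ (w' 0)) (ofZ (w' 1)), mem _ _⟩ := by
    rintro w w' ⟨hne, -⟩
    constructor
    · apply hnc
      by_contra hcon
      push Not at hcon
      apply hne
      rw [vec2_eta w, vec2_eta w']
      have h0 : w 0 = w' 0 := hcon.1
      have h1 : w 1 = w' 1 := hcon.2
      rw [h0, h1]
    · apply Subtype.ext
      rw [h.circ_val]
      show pcP (a : G) u v (ofZ ((lineMap affinePlaneThree w w') 0))
          (ofZ ((lineMap affinePlaneThree w w') 1)) =
        pcP (a : G) u v (ofZ (w' 0)) (ofZ (w' 1)) * pcP (a : G) u v (ofZ (w 0)) (ofZ (w 1)) *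
          pcP (a : G) u v (ofZ (w' 0)) (ofZ (w' 1))
      rw [pcP_conj hpc, lineMap_affinePlaneThree, negAdd3_eq, negAdd3_eq]
      rfl
  have H2 : ∀ w w' : Fin 2 → ZMod 3, ¬ Collinear affinePlaneThree w w' →
      Commute (((⟨pcP (a : G) u v (ofZ (w 0)) (ofZ (w 1)), mem _ _⟩ : D)) : G)
        ((⟨pcP (a : G) u v (ofZ (w' 0)) (ofZ (w' 1)), mem _ _⟩ : D) : G) := by
    intro w w' hn
    have : w = w' := by
      by_contra hne
      exact hn ⟨hne, _, mem_affinePlaneThree_iff.2 ⟨w, w', hne, rfl⟩, by simp, by simp⟩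
    rw [this]
  have hP : Function.Injective (fun w : Fin 2 → ZMod 3 =>
      (⟨pcP (a : G) u v (ofZ (w 0)) (ofZ (w 1)), mem _ _⟩ : D)) := by
    intro w w' e
    by_contra hne
    have hcol : Collinear affinePlaneThree w w' :=
      ⟨hne, _, mem_affinePlaneThree_iff.2 ⟨w, w', hne, rfl⟩, by simp, by simp⟩
    apply (H1 w w' hcol).1
    have e' : pcP (a : G) u v (ofZ (w 0)) (ofZ (w 1)) = pcP (a : G) u v (ofZ (w' 0)) (ofZ (w' 1)) :=
      congrArg Subtype.val e
    show Commute (pcP (a : G) u v (ofZ (w 0)) (ofZ (w 1))) (pcP (a : G) u v (ofZ (w' 0)) (ofZ (w' 1)))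
    rw [e']
  -- points on the two lines
  have hl : ∀ i : ZMod 3, (⟨pcP (a : G) u v (ofZ i) (ofZ 0), mem _ _⟩ : D) ∈ tline a b := by
    intro i
    rcases zmod3_cases i with rfl | rfl | rfl
    · exact Or.inl p00
    · exact Or.inr (Or.inr p10)
    · exact Or.inr (Or.inl p20)
  have hm : ∀ j : ZMod 3, (⟨pcP (a : G) u v (ofZ 0) (ofZ j), mem _ _⟩ : D) ∈ tline a d := by
    intro j
    rcases zmod3_cases j with rfl | rfl | rfl
    · exact Or.inl p00
    · exact Or.inr (Or.inr p01)
    · exact Or.inr (Or.inl p02)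
  apply h.plane_iso pl3_affinePlaneThree _ hP H1 H2
  · intro t ht
    rcases ht with ht | ht
    · rw [h.tline_eq] at ht
      simp only [Set.mem_insert_iff, Set.mem_singleton_iff] at ht
      rcases ht with rfl | rfl | rfl
      · exact ⟨![0, 0], Subtype.ext p00⟩
      · exact ⟨![2, 0], Subtype.ext p20⟩
      · exact ⟨![1, 0], Subtype.ext p10⟩
    · rw [h.tline_eq] at ht
      simp only [Set.mem_insert_iff, Set.mem_singleton_iff] at ht
      rcases ht with rfl | rfl | rfl
      · exact ⟨![0, 0], Subtype.ext p00⟩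
      · exact ⟨![0, 2], Subtype.ext p02⟩
      · exact ⟨![0, 1], Subtype.ext p01⟩
  · rintro T hT hST _ ⟨w, rfl⟩
    show (⟨pcP (a : G) u v (ofZ (w 0)) (ofZ (w 1)), mem _ _⟩ : D) ∈ T
    by_cases h0 : w 0 = 0
    · rw [h0]; exact hST (Or.inr (hm (w 1)))
    by_cases h1 : w 1 = 0
    · rw [h1]; exact hST (Or.inl (hl (w 0)))
    -- third point of `(-w 0, 0)` and `(0, -w 1)`
    have hne : (![-(w 0), 0] : Fin 2 → ZMod 3) ≠ ![0, -(w 1)] := by
      intro e
      have := congrFun e 0
      simp only [Matrix.cons_val_zero] at this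
      exact h0 (neg_eq_zero.1 this)
    have hcol : Collinear affinePlaneThree ![-(w 0), 0] ![0, -(w 1)] :=
      ⟨hne, _, mem_affinePlaneThree_iff.2 ⟨_, _, hne, rfl⟩, by simp, by simp⟩
    obtain ⟨hnc', h3⟩ := H1 _ _ hcol
    have e3 : lineMap affinePlaneThree ![-(w 0), 0] ![0, -(w 1)] = w := by
      rw [lineMap_affinePlaneThree]
      ext k
      fin_cases k <;> simp
    rw [e3] at h3
    rw [h3]
    apply h.circ_mem_subspace hT _ _ hnc'
    · exact hST (Or.inl (hl _))
    · exact hST (Or.inr (hm _))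

end Cfsg.Agent.Helper88
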