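import Mathlib
import Cfsg.Agent.Lib.Helper56.FrobLiftD
import Cfsg.Agent.Lib.Helper56.FrobComplB

set_option autoImplicit false
set_option linter.unusedSectionVars false
set_option linter.unusedVariables false
set_option linter.style.haveILetI false
set_option maxHeartbeats 800000

/-! Change of characteristic for Frobenius complements: a finite group `G` satisfying the
"norm hypothesis" (in particular every Frobenius complement) has, for every prime `r` not
dividing its order, a finite nontrivial module of exponent `r` on which it acts without fixed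
points.  The module is `ℤ[G] / (J + r ℤ[G])`, `J` the two-sided ideal generated by the norm
elements `∑_{j < o(g)} g^j`, `g ≠ 1`; it is nonzero by Nakayama's lemma. -/

namespace Cfsg.Agent.Helper88.FrobChar

open Finset

universe u

section defs

variable (G : Type*) [Group G]

/-- the norm element of `g` in the integral group ring -/
noncomputable def normEl {G : Type*} [Group G] (g : G) : MonoidAlgebra ℤ G :=
  ∑ j ∈ range (orderOf g), (MonoidAlgebra.of ℤ G g) ^ j

/-- the two-sided ideal generated by the norm elements of the non-identity elements, as a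
`ℤ`-submodule -/
noncomputable def Jz : Submodule ℤ (MonoidAlgebra ℤ G) :=
  Submodule.span ℤ {z | ∃ g : G, g ≠ 1 ∧ ∃ x y : MonoidAlgebra ℤ G, z = x * normEl g * y}

/-- the multiples of `r` -/
noncomputable def rM (r : ℕ) : Submodule ℤ (MonoidAlgebra ℤ G) :=
  LinearMap.range (LinearMap.lsmul ℤ (MonoidAlgebra ℤ G) (r : ℤ))

/-- `J + r ℤ[G]` -/
noncomputable def Jr (r : ℕ) : Submodule ℤ (MonoidAlgebra ℤ G) := Jz G ⊔ rM G r

end defs

variable {G : Type*} [Group G]

lemma mul_mem_Jz (w : MonoidAlgebra ℤ G) {z : MonoidAlgebra ℤ G} (hz : z ∈ Jz G) :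
    w * z ∈ Jz G := by
  unfold Jz at hz ⊢
  induction hz using Submodule.span_induction with
  | mem z hz =>
    obtain ⟨g, hg, x, y, rfl⟩ := hz
    apply Submodule.subset_span
    exact ⟨g, hg, w * x, y, by simp only [mul_assoc]⟩
  | zero => simp
  | add a b _ _ ha hb => rw [mul_add]; exact Submodule.add_mem _ ha hb
  | smul c a _ ha => rw [mul_smul_comm]; exact Submodule.smul_mem _ c ha

lemma normEl_mul_mem {g : G} (hg : g ≠ 1) (x : MonoidAlgebra ℤ G) : normEl g * x ∈ Jz G := by
  apply Submodule.subset_span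
  exact ⟨g, hg, 1, x, by rw [one_mul]⟩

lemma map_eq_zero_of_mem_Jz {R : Type*} [Ring R] (φ : MonoidAlgebra ℤ G →+* R)
    (h : ∀ g : G, g ≠ 1 → φ (normEl g) = 0) {z : MonoidAlgebra ℤ G} (hz : z ∈ Jz G) :
    φ z = 0 := by
  unfold Jz at hz
  induction hz using Submodule.span_induction with
  | mem z hz =>
    obtain ⟨g, hg, x, y, rfl⟩ := hz
    rw [map_mul, map_mul, h g hg, mul_zero, zero_mul]
  | zero => simp
  | add a b _ _ ha hb => rw [map_add, ha, hb, add_zero]
  | smul c a _ ha => rw [map_zsmul, ha, smul_zero]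

lemma mem_rM {r : ℕ} {x : MonoidAlgebra ℤ G} : x ∈ rM G r ↔ ∃ y, (r : ℤ) • y = x := by
  unfold rM
  rw [LinearMap.mem_range]
  rfl

lemma mul_mem_Jr (r : ℕ) (w : MonoidAlgebra ℤ G) {z : MonoidAlgebra ℤ G} (hz : z ∈ Jr G r) :
    w * z ∈ Jr G r := by
  unfold Jr at hz ⊢
  obtain ⟨j, hj, k, hk, rfl⟩ := Submodule.mem_sup.mp hz
  obtain ⟨y, rfl⟩ := mem_rM.mp hk
  rw [mul_add]
  apply Submodule.add_mem_sup (mul_mem_Jz w hj)
  rw [mul_smul_comm]
  exact mem_rM.mpr ⟨w * y, rfl⟩

/-- the norm hypothesis -/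
def NormHyp (G : Type*) [Group G] : Prop :=
  ∀ D : ℤ, D ≠ 0 → ∃ (R : Type) (_ : Ring R) (σ : G →* R),
    (∀ g : G, g ≠ 1 → ∑ j ∈ range (orderOf g), σ g ^ j = 0) ∧ (D : R) ≠ 0

lemma zsmul_one_notMem_Jz (hyp : NormHyp G) (D : ℤ) (hD : D ≠ 0) :
    D • (1 : MonoidAlgebra ℤ G) ∉ Jz G := by
  intro hmem
  obtain ⟨R, _, σ, hσ, hDR⟩ := hyp D hD
  let φ : MonoidAlgebra ℤ G →ₐ[ℤ] R := MonoidAlgebra.lift ℤ R G σ
  have hφof : ∀ g : G, φ (MonoidAlgebra.of ℤ G g) = σ g := fun g => by
    show MonoidAlgebra.lift ℤ R G σ (MonoidAlgebra.of ℤ G g) = σ g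
    rw [MonoidAlgebra.lift_of]
  have hφn : ∀ g : G, g ≠ 1 → (φ : MonoidAlgebra ℤ G →+* R) (normEl g) = 0 := by
    intro g hg
    show φ (normEl g) = 0
    unfold normEl
    rw [map_sum]
    simp only [map_pow, hφof]
    exact hσ g hg
  have h0 := map_eq_zero_of_mem_Jz (φ : MonoidAlgebra ℤ G →+* R) hφn hmem
  have h1 : (φ : MonoidAlgebra ℤ G →+* R) (D • (1 : MonoidAlgebra ℤ G)) = (D : R) := by
    rw [map_zsmul, map_one, zsmul_one]
  rw [h1] at h0
  exact hDR h0

lemma one_notMem_Jr [Finite G] (hyp : NormHyp G) (r : ℕ) (hr : r.Prime) :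
    (1 : MonoidAlgebra ℤ G) ∉ Jr G r := by
  intro h1
  unfold Jr at h1
  obtain ⟨j, hj, k, hk, hjk⟩ := Submodule.mem_sup.mp h1
  obtain ⟨y, rfl⟩ := mem_rM.mp hk
  -- the quotient `Λ = ℤ[G] / J`
  let I : Ideal ℤ := Ideal.span {(r : ℤ)}
  have htop : (⊤ : Submodule ℤ (MonoidAlgebra ℤ G ⧸ Jz G)) ≤
      I • (⊤ : Submodule ℤ (MonoidAlgebra ℤ G ⧸ Jz G)) := by
    intro m _
    induction m using Submodule.Quotient.induction_on with
    | H x =>
      have hx : x = x * j + (r : ℤ) • (x * y) := by
        rw [← mul_smul_comm, ← mul_add, hjk, mul_one]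
      have h2 : (Submodule.Quotient.mk x : MonoidAlgebra ℤ G ⧸ Jz G) =
          (r : ℤ) • Submodule.Quotient.mk (x * y) := by
        conv_lhs => rw [hx]
        rw [Submodule.Quotient.mk_add, Submodule.Quotient.mk_smul,
          (Submodule.Quotient.mk_eq_zero (Jz G)).mpr (mul_mem_Jz x hj), zero_add]
      rw [h2]
      exact Submodule.smul_mem_smul (Ideal.mem_span_singleton_self _) Submodule.mem_top
  have hfg : (⊤ : Submodule ℤ (MonoidAlgebra ℤ G ⧸ Jz G)).FG := Module.finite_def.mp inferInstance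
  obtain ⟨D, hD1, hD2⟩ :=
    Submodule.exists_sub_one_mem_and_smul_eq_zero_of_fg_of_le_smul I ⊤ hfg htop
  have hD0 : D ≠ 0 := by
    rintro rfl
    rw [Ideal.mem_span_singleton] at hD1
    have h3 : (r : ℤ) ∣ 1 := by
      have : (r : ℤ) ∣ -(0 - 1) := (dvd_neg).mpr hD1
      simpa using this
    have h4 : r ∣ 1 := by exact_mod_cast h3
    exact hr.one_lt.ne' (Nat.dvd_one.mp h4)
  have h5 := hD2 (Submodule.Quotient.mk (1 : MonoidAlgebra ℤ G)) Submodule.mem_top
  rw [← Submodule.Quotient.mk_smul, Submodule.Quotient.mk_eq_zero] at h5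
  exact zsmul_one_notMem_Jz hyp D hD0 h5

section module

variable (G : Type u) [Group G] (r : ℕ)

/-- the module `ℤ[G] / (J + r ℤ[G])` -/
abbrev Mr : Type u := MonoidAlgebra ℤ G ⧸ Jr G r

/-- left multiplication by a group element on `Mr` -/
noncomputable def Lg (g : G) : Mr G r →ₗ[ℤ] Mr G r :=
  (Jr G r).mapQ (Jr G r) (LinearMap.mulLeft ℤ (MonoidAlgebra.of ℤ G g))
    (fun z hz => mul_mem_Jr r _ hz)

lemma Lg_mk (g : G) (x : MonoidAlgebra ℤ G) :
    Lg G r g (Submodule.Quotient.mk x) = Submodule.Quotient.mk (MonoidAlgebra.of ℤ G g * x) :=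
  rfl

noncomputable instance instDMA : DistribMulAction G (Mr G r) where
  smul g m := Lg G r g m
  one_smul m := by
    induction m using Submodule.Quotient.induction_on with
    | H x =>
      show Lg G r 1 (Submodule.Quotient.mk x) = _
      rw [Lg_mk, map_one, one_mul]
  mul_smul g h m := by
    induction m using Submodule.Quotient.induction_on with
    | H x =>
      show Lg G r (g * h) (Submodule.Quotient.mk x) =
        Lg G r g (Lg G r h (Submodule.Quotient.mk x))
      rw [Lg_mk, Lg_mk, Lg_mk, map_mul, mul_assoc]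
  smul_zero g := map_zero (Lg G r g)
  smul_add g a b := map_add (Lg G r g) a b

lemma smul_mk (g : G) (x : MonoidAlgebra ℤ G) :
    g • (Submodule.Quotient.mk x : Mr G r) = Submodule.Quotient.mk (MonoidAlgebra.of ℤ G g * x) :=
  rfl

lemma nsmul_eq_zero (m : Mr G r) : r • m = 0 := by
  induction m using Submodule.Quotient.induction_on with
  | H x =>
    rw [← Submodule.Quotient.mk_smul, Submodule.Quotient.mk_eq_zero]
    unfold Jr
    apply Submodule.mem_sup_right
    exact mem_rM.mpr ⟨x, by rw [natCast_zsmul]⟩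

lemma finite_Mr [Finite G] (hr : 0 < r) : Finite (Mr G r) := by
  apply Module.finite_of_fg_torsion
  intro m
  refine ⟨⟨(r : ℤ), ?_⟩, ?_⟩
  · rw [mem_nonZeroDivisors_iff_ne_zero]
    exact_mod_cast hr.ne'
  · show (r : ℤ) • m = 0
    rw [natCast_zsmul]
    exact nsmul_eq_zero G r m

end module

/-- powers of `g` act trivially on a fixed vector -/
lemma pow_mul_sub_mem (r : ℕ) (g : G) (x : MonoidAlgebra ℤ G)
    (h : MonoidAlgebra.of ℤ G g * x - x ∈ Jr G r) (j : ℕ) :
    (MonoidAlgebra.of ℤ G g) ^ j * x - x ∈ Jr G r := by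
  induction j with
  | zero => simp
  | succ j ih =>
    have e : (MonoidAlgebra.of ℤ G g) ^ (j + 1) * x - x =
        (MonoidAlgebra.of ℤ G g) ^ j * (MonoidAlgebra.of ℤ G g * x - x) +
          ((MonoidAlgebra.of ℤ G g) ^ j * x - x) := by
      rw [pow_succ, mul_sub, mul_assoc]
      abel
    rw [e]
    exact Submodule.add_mem _ (mul_mem_Jr r _ h) ih

/-- **Change of characteristic.**  A finite group with the norm hypothesis acts without fixed
points on a finite nontrivial abelian group of exponent `r`, for every prime `r` not dividing its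
order. -/
theorem exists_fpf_module {G : Type u} [Group G] [Finite G] (hyp : NormHyp G) (r : ℕ)
    (hr : r.Prime) (hrG : ¬ r ∣ Nat.card G) :
    ∃ (M : Type u) (_ : AddCommGroup M) (_ : DistribMulAction G M) (_ : Finite M)
      (_ : Nontrivial M), (∀ m : M, r • m = 0) ∧
        ∀ g : G, g ≠ 1 → ∀ m : M, g • m = m → m = 0 := by
  refine ⟨Mr G r, inferInstance, instDMA G r, finite_Mr G r hr.pos, ?_, nsmul_eq_zero G r, ?_⟩
  · refine ⟨⟨Submodule.Quotient.mk 1, 0, ?_⟩⟩
    intro h
    rw [Submodule.Quotient.mk_eq_zero] at h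
    exact one_notMem_Jr hyp r hr h
  · intro g hg m hm
    induction m using Submodule.Quotient.induction_on with
    | H x =>
      rw [smul_mk, Submodule.Quotient.eq] at hm
      rw [Submodule.Quotient.mk_eq_zero]
      -- `o(g) x ∈ Jr`
      have hpow := pow_mul_sub_mem r g x hm
      have hN : normEl g * x ∈ Jr G r := by
        unfold Jr
        exact Submodule.mem_sup_left (normEl_mul_mem hg x)
      have hsum : normEl g * x - (orderOf g : ℤ) • x ∈ Jr G r := by
        have e : normEl g * x - (orderOf g : ℤ) • x =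
            ∑ j ∈ range (orderOf g), ((MonoidAlgebra.of ℤ G g) ^ j * x - x) := by
          unfold normEl
          rw [Finset.sum_mul, Finset.sum_sub_distrib, Finset.sum_const, card_range,
            natCast_zsmul]
        rw [e]
        exact Submodule.sum_mem _ (fun j _ => hpow j)
      have ho : (orderOf g : ℤ) • x ∈ Jr G r := by
        have := Submodule.sub_mem _ hN hsum
        simpa using this
      have hrx : (r : ℤ) • x ∈ Jr G r := by
        unfold Jr
        exact Submodule.mem_sup_right (mem_rM.mpr ⟨x, rfl⟩)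
      have hcop : Nat.Coprime (orderOf g) r := by
        rw [Nat.coprime_comm, hr.coprime_iff_not_dvd]
        intro hdvd
        exact hrG (hdvd.trans (orderOf_dvd_natCard g))
      have hbez : (orderOf g : ℤ) * Nat.gcdA (orderOf g) r + (r : ℤ) * Nat.gcdB (orderOf g) r
          = 1 := by
        have := Nat.gcd_eq_gcd_ab (orderOf g) r
        rw [hcop] at this
        simpa using this.symm
      have hx : x = Nat.gcdA (orderOf g) r • ((orderOf g : ℤ) • x) +
          Nat.gcdB (orderOf g) r • ((r : ℤ) • x) := by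
        rw [smul_smul, smul_smul, ← add_smul, mul_comm _ (orderOf g : ℤ), mul_comm _ (r : ℤ),
          hbez, one_smul]
      rw [hx]
      exact Submodule.add_mem _ (Submodule.smul_mem _ _ ho) (Submodule.smul_mem _ _ hrx)

/-- a group isomorphic to a Frobenius complement satisfies the norm hypothesis -/
theorem normHyp_of_frobenius {G : Type*} [Group G] [Finite G]
    (hFC : ∃ (L : Type) (_ : Group L) (_ : Finite L) (H : Subgroup L),
      Cfsg.IsFrobeniusComplement H ∧ Nonempty (G ≃* H)) : NormHyp G := by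
  obtain ⟨L, _, _, H, hH, ⟨e⟩⟩ := hFC
  obtain ⟨q, hq, V, i1, i2, i3, i4, ρ, hsr⟩ := Cfsg.Agent.Helper56.FC.exists_sr_of_frobenius H hH
  have hsr' : ∀ v : V, v ≠ 0 → ∀ g : G, (ρ.comp e.toMonoidHom) g v = v → g = 1 := by
    intro v hv g hg
    have h1 := hsr v hv (e g) hg
    exact e.injective (by rw [h1, map_one])
  exact Cfsg.Agent.Helper56.FL.sr_hyp (ρ.comp e.toMonoidHom) hsr'

/-- **A Frobenius complement has fixed-point-free modules in every characteristic prime to its
order.** -/
theorem exists_fpf_module_of_frobenius {G : Type u} [Group G] [Finite G]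
    (hFC : ∃ (L : Type) (_ : Group L) (_ : Finite L) (H : Subgroup L),
      Cfsg.IsFrobeniusComplement H ∧ Nonempty (G ≃* H)) (r : ℕ) (hr : r.Prime)
    (hrG : ¬ r ∣ Nat.card G) :
    ∃ (M : Type u) (_ : AddCommGroup M) (_ : DistribMulAction G M) (_ : Finite M)
      (_ : Nontrivial M), (∀ m : M, r • m = 0) ∧
        ∀ g : G, g ≠ 1 → ∀ m : M, g • m = m → m = 0 :=
  exists_fpf_module (normHyp_of_frobenius hFC) r hr hrG

end Cfsg.Agent.Helper88.FrobChar
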