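import Mathlib
import Cfsg.Agent.Lib.Helper27.GL23

set_option autoImplicit false
set_option maxRecDepth 1000000
set_option synthInstance.maxSize 4000
set_option synthInstance.maxHeartbeats 400000

/-! # Facts about `GL (Fin 2) (ZMod 3)` obtained from helper27's numerical coding -/

namespace Cfsg.Agent.Helper88.GL23Facts

open Cfsg.Agent.Helper27.GL23

theorem code_negOne : code (-1 : X) = 56 := by
  unfold code codeOf
  simp

theorem count_valid : ((List.range 81).filter valid).length = 48 := by decide +kernel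

/-- every valid code is the code of a matrix -/
theorem exists_of_code {c : ℕ} (hc : c < 81) (hv : valid c = true) : ∃ x : X, code x = c := by
  classical
  have hsub : (Finset.univ : Finset X).image code ⊆ (Finset.range 81).filter (fun c => valid c = true) := by
    intro d hd
    obtain ⟨x, -, rfl⟩ := Finset.mem_image.1 hd
    exact Finset.mem_filter.2 ⟨Finset.mem_range.2 (code_lt x), code_valid x⟩
  have hcard1 : ((Finset.univ : Finset X).image code).card = 48 := by
    rw [Finset.card_image_of_injective _ code_injective, Finset.card_univ, ← Nat.card_eq_fintype_card, card_X]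
  have hcard2 : ((Finset.range 81).filter (fun c => valid c = true)).card = 48 := by decide +kernel
  have heq := Finset.eq_of_subset_of_card_le hsub (by rw [hcard1, hcard2])
  have hmem : c ∈ (Finset.range 81).filter (fun c => valid c = true) :=
    Finset.mem_filter.2 ⟨Finset.mem_range.2 hc, hv⟩
  rw [← heq] at hmem
  obtain ⟨x, -, hx⟩ := Finset.mem_image.1 hmem
  exact ⟨x, hx⟩

theorem eq_iff_code {x y : X} : x = y ↔ code x = code y :=
  ⟨fun h => h ▸ rfl, fun h => code_injective h⟩

theorem negOne_mul_self : (-1 : X) * (-1 : X) = 1 := by simp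

theorem negOne_comm (x : X) : (-1 : X) * x = x * (-1 : X) := by simp

theorem negOne_ne_one : (-1 : X) ≠ 1 := by
  intro h
  have := congrArg code h
  rw [code_negOne, code_one] at this
  omega

/-- the quaternion subgroup -/
def Q : Subgroup X where
  carrier := {x | x = 1 ∨ x = -1 ∨ x * x = -1}
  one_mem' := Or.inl rfl
  mul_mem' := by
    have key : ∀ c < 81, ∀ d < 81, valid c = true → valid d = true →
        (c = 28 ∨ c = 56 ∨ mulc c c = 56) → (d = 28 ∨ d = 56 ∨ mulc d d = 56) →
        (mulc c d = 28 ∨ mulc c d = 56 ∨ mulc (mulc c d) (mulc c d) = 56) := by decide +kernel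
    intro x y hx hy
    have hx' : code x = 28 ∨ code x = 56 ∨ mulc (code x) (code x) = 56 := by
      rcases hx with h | h | h
      · left; rw [h, code_one]
      · right; left; rw [h, code_negOne]
      · right; right; rw [← code_mul, h, code_negOne]
    have hy' : code y = 28 ∨ code y = 56 ∨ mulc (code y) (code y) = 56 := by
      rcases hy with h | h | h
      · left; rw [h, code_one]
      · right; left; rw [h, code_negOne]
      · right; right; rw [← code_mul, h, code_negOne]
    rcases key _ (code_lt x) _ (code_lt y) (code_valid x) (code_valid y) hx' hy' with h | h | h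
    · left; rw [eq_iff_code, code_mul, h, code_one]
    · right; left; rw [eq_iff_code, code_mul, h, code_negOne]
    · right; right; rw [eq_iff_code, code_mul, code_mul, h, code_negOne]
  inv_mem' := by
    intro x hx
    rcases hx with h | h | h
    · left; rw [h, inv_one]
    · right; left; rw [h]; exact inv_eq_of_mul_eq_one_right negOne_mul_self
    · right; right
      rw [← mul_inv_rev, h]
      exact inv_eq_of_mul_eq_one_right negOne_mul_self

theorem mem_Q {x : X} : x ∈ Q ↔ x = 1 ∨ x = -1 ∨ x * x = -1 := Iff.rfl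

theorem mem_Q_code {x : X} : x ∈ Q ↔ (code x = 28 ∨ code x = 56 ∨ mulc (code x) (code x) = 56) := by
  rw [mem_Q, eq_iff_code, eq_iff_code (x := x) (y := -1), eq_iff_code (x := x * x), code_one, code_negOne,
    code_mul]

instance Q_normal : Q.Normal := by
  constructor
  intro x hx k
  rcases hx with h | h | h
  · left; rw [h]; group
  · right; left; rw [h, ← negOne_comm, mul_assoc, mul_inv_cancel, mul_one]
  · right; right
    have : k * x * k⁻¹ * (k * x * k⁻¹) = k * (x * x) * k⁻¹ := by group
    rw [this, h, ← negOne_comm, mul_assoc, mul_inv_cancel, mul_one]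

theorem Q_pow_four {x : X} (hx : x ∈ Q) : x ^ 4 = 1 := by
  have h4 : x ^ 4 = (x * x) * (x * x) := by simp only [pow_succ, pow_zero, one_mul, mul_assoc]
  rcases hx with h | h | h
  · rw [h, one_pow]
  · rw [h4, h, negOne_mul_self, one_mul]
  · rw [h4, h, negOne_mul_self]

theorem Q_isPGroup : IsPGroup 2 Q := by
  rintro ⟨x, hx⟩
  refine ⟨2, ?_⟩
  apply Subtype.ext
  rw [Subgroup.coe_pow, Subgroup.coe_one]
  exact Q_pow_four hx

theorem card_Q : Nat.card Q = 8 := by
  classical
  have h1 : Nat.card Q = (Finset.univ.filter (fun x : X => x ∈ Q)).card := by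
    rw [Nat.card_eq_fintype_card, Fintype.card_subtype]
  have h2 : (Finset.univ.filter (fun x : X => x ∈ Q)).image code =
      (Finset.range 81).filter (fun c => valid c = true ∧ (c = 28 ∨ c = 56 ∨ mulc c c = 56)) := by
    ext c
    constructor
    · intro hc
      obtain ⟨x, hx, rfl⟩ := Finset.mem_image.1 hc
      rw [Finset.mem_filter] at hx
      exact Finset.mem_filter.2 ⟨Finset.mem_range.2 (code_lt x), code_valid x, mem_Q_code.1 hx.2⟩
    · intro hc
      rw [Finset.mem_filter] at hc
      obtain ⟨x, rfl⟩ := exists_of_code (Finset.mem_range.1 hc.1) hc.2.1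
      exact Finset.mem_image.2 ⟨x, Finset.mem_filter.2 ⟨Finset.mem_univ _, mem_Q_code.2 hc.2.2⟩, rfl⟩
  rw [h1, ← Finset.card_image_of_injective _ code_injective, h2]
  decide +kernel

/-- (X1) a central involution is `-1` -/
theorem central_involution {w : X} (hw : w * w = 1) (hw1 : w ≠ 1) (hc : ∀ x : X, w * x = x * w) :
    w = -1 := by
  have key : ∀ c < 81, valid c = true → mulc c c = 28 → c ≠ 28 → mulc c 21 = mulc 21 c →
      mulc c 67 = mulc 67 c → c = 56 := by decide +kernel
  obtain ⟨i0, hi0⟩ := exists_of_code (c := 21) (by norm_num) (by decide)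
  obtain ⟨j0, hj0⟩ := exists_of_code (c := 67) (by norm_num) (by decide)
  rw [eq_iff_code, code_negOne]
  apply key _ (code_lt w) (code_valid w)
  · rw [← code_mul, hw, code_one]
  · intro h; apply hw1; rw [eq_iff_code, h, code_one]
  · rw [← hi0, ← code_mul, ← code_mul, hc]
  · rw [← hj0, ← code_mul, ← code_mul, hc]

/-- (X3) the centralizer of `Q` consists of `±1` -/
theorem centralizer_Q {x : X} (hx : ∀ q ∈ Q, x * q = q * x) : x = 1 ∨ x = -1 := by
  have key : ∀ c < 81, valid c = true → mulc c 21 = mulc 21 c →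
      mulc c 67 = mulc 67 c → c = 28 ∨ c = 56 := by decide +kernel
  obtain ⟨i0, hi0⟩ := exists_of_code (c := 21) (by norm_num) (by decide)
  obtain ⟨j0, hj0⟩ := exists_of_code (c := 67) (by norm_num) (by decide)
  have hiQ : i0 ∈ Q := by rw [mem_Q_code, hi0]; decide
  have hjQ : j0 ∈ Q := by rw [mem_Q_code, hj0]; decide
  rw [eq_iff_code, eq_iff_code (y := -1), code_one, code_negOne]
  apply key _ (code_lt x) (code_valid x)
  · rw [← hi0, ← code_mul, ← code_mul, hx i0 hiQ]
  · rw [← hj0, ← code_mul, ← code_mul, hx j0 hjQ]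

/-- (X4) elements squaring to `-1` are conjugate -/
theorem conj_of_sq_negOne {f f' : X} (hf : f * f = -1) (hf' : f' * f' = -1) : ∃ k : X, k * f * k⁻¹ = f' := by
  have key : ∀ c < 81, valid c = true → mulc c c = 56 →
      ∃ k < 81, valid k = true ∧ mulc k c = mulc 21 k := by decide +kernel
  obtain ⟨i0, hi0⟩ := exists_of_code (c := 21) (by norm_num) (by decide)
  have aux : ∀ g : X, g * g = -1 → ∃ k : X, k * g * k⁻¹ = i0 := by
    intro g hg
    obtain ⟨kc, hk, hkv, hkc⟩ := key _ (code_lt g) (code_valid g) (by rw [← code_mul, hg, code_negOne])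
    obtain ⟨k, rfl⟩ := exists_of_code hk hkv
    refine ⟨k, ?_⟩
    rw [mul_inv_eq_iff_eq_mul, eq_iff_code, code_mul, code_mul, hi0, hkc]
  obtain ⟨k, hk⟩ := aux f hf
  obtain ⟨k', hk'⟩ := aux f' hf'
  refine ⟨k'⁻¹ * k, ?_⟩
  have : k'⁻¹ * k * f * (k'⁻¹ * k)⁻¹ = k'⁻¹ * (k * f * k⁻¹) * k' := by group
  rw [this, hk, ← hk']
  group

/-- (X5) two involutions whose product has order three -/
theorem exists_involutions : ∃ a b : X, a * a = 1 ∧ b * b = 1 ∧ (a * b) * (a * b) * (a * b) = 1 ∧ a * b ≠ 1 := by
  have key : ∃ a < 81, ∃ b < 81, valid a = true ∧ valid b = true ∧ mulc a a = 28 ∧ mulc b b = 28 ∧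
      mulc (mulc (mulc a b) (mulc a b)) (mulc a b) = 28 ∧ mulc a b ≠ 28 := by decide +kernel
  obtain ⟨ac, ha, bc, hb, hav, hbv, h1, h2, h3, h4⟩ := key
  obtain ⟨a, rfl⟩ := exists_of_code ha hav
  obtain ⟨b, rfl⟩ := exists_of_code hb hbv
  refine ⟨a, b, ?_, ?_, ?_, ?_⟩
  · rw [eq_iff_code, code_mul, h1, code_one]
  · rw [eq_iff_code, code_mul, h2, code_one]
  · rw [eq_iff_code, code_mul, code_mul, code_mul, h3, code_one]
  · intro h
    apply h4
    rw [← code_mul, h, code_one]

/-- (X6) a 2-element outside `Q` times a suitable element of `Q` is an involution -/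
theorem exists_mul_involution {g : X} (hg : g ^ 16 = 1) (hgQ : g ∉ Q) : ∃ q ∈ Q, (g * q) * (g * q) = 1 := by
  have key : ∀ c < 81, valid c = true →
      (let c2 := mulc c c; let c4 := mulc c2 c2; let c8 := mulc c4 c4; mulc c8 c8 = 28) →
      ¬ (c = 28 ∨ c = 56 ∨ mulc c c = 56) →
      ∃ q < 81, valid q = true ∧ (q = 28 ∨ q = 56 ∨ mulc q q = 56) ∧ mulc (mulc c q) (mulc c q) = 28 := by
    decide +kernel
  have h16 : g ^ 16 = ((g * g) * (g * g) * ((g * g) * (g * g))) * ((g * g) * (g * g) * ((g * g) * (g * g))) := by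
    simp only [pow_succ, pow_zero, one_mul, mul_assoc]
  obtain ⟨qc, hq, hqv, hqQ, hqc⟩ := key _ (code_lt g) (code_valid g)
    (by
      show mulc (mulc (mulc (mulc (code g) (code g)) (mulc (code g) (code g)))
        (mulc (mulc (code g) (code g)) (mulc (code g) (code g))))
        (mulc (mulc (mulc (code g) (code g)) (mulc (code g) (code g)))
        (mulc (mulc (code g) (code g)) (mulc (code g) (code g)))) = 28
      simp only [← code_mul]
      rw [← h16, hg, code_one])
    (fun h => hgQ (mem_Q_code.2 h))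
  obtain ⟨q, rfl⟩ := exists_of_code hq hqv
  refine ⟨q, mem_Q_code.2 hqQ, ?_⟩
  rw [eq_iff_code, code_mul, code_mul, hqc, code_one]

/-- (X7) an involution outside `Q` times a suitable `Q`-conjugate squares to `-1` -/
theorem exists_conj_mul_sq {t : X} (ht : t * t = 1) (htQ : t ∉ Q) :
    ∃ q ∈ Q, (t * (q * t * q⁻¹)) * (t * (q * t * q⁻¹)) = -1 := by
  have key : ∀ c < 81, valid c = true → mulc c c = 28 → ¬ (c = 28 ∨ c = 56 ∨ mulc c c = 56) →
      ∃ q < 81, valid q = true ∧ (q = 28 ∨ q = 56 ∨ mulc q q = 56) ∧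
        (let q3 := mulc q (mulc q q); let f := mulc c (mulc (mulc q c) q3); mulc f f = 56) := by
    decide +kernel
  obtain ⟨qc, hq, hqv, hqQ, hqc⟩ := key _ (code_lt t) (code_valid t) (by rw [← code_mul, ht, code_one])
    (fun h => htQ (mem_Q_code.2 h))
  obtain ⟨q, rfl⟩ := exists_of_code hq hqv
  have hqm : q ∈ Q := mem_Q_code.2 hqQ
  have hinv : q⁻¹ = q * (q * q) := by
    apply inv_eq_of_mul_eq_one_right
    have := Q_pow_four hqm
    rw [← this]
    simp only [pow_succ, pow_zero, one_mul, mul_assoc]
  refine ⟨q, hqm, ?_⟩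
  rw [hinv, eq_iff_code, code_negOne]
  simp only [code_mul]
  exact hqc

end Cfsg.Agent.Helper88.GL23Facts
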