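import Mathlib
import Cfsg.Agent.Lib.Helper88.GL23Facts
import Cfsg.Agent.S5339
import Cfsg.Agent.Lib.Helper84.GrpFus

set_option autoImplicit false

/-! # Groups with Sylow 2-subgroups of order 16 whose involution centralizers are `GL(2,3)`:
the 2-fusion system is simple -/

namespace Cfsg.Agent.Helper88.GL23Fusion

open Cfsg Cfsg.FusionSystem Cfsg.Agent.Helper27.GL23 Cfsg.Agent.Helper88.GL23Facts

theorem le_of_sup_isPGroup {Y : Type*} [Group Y] [Finite Y] {p : ℕ} (P R : Subgroup Y)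
    (hPR : IsPGroup p (P ⊔ R : Subgroup Y))
    (hmax : ∀ R' : Subgroup Y, IsPGroup p R' → Nat.card R' ≤ Nat.card P) : R ≤ P := by
  have h1 : P = P ⊔ R := Subgroup.eq_of_le_of_card_ge le_sup_left (hmax _ hPR)
  rw [h1]
  exact le_sup_right

theorem card_le_sixteen {Y : Type*} [Group Y] [Finite Y] (hY : Nat.card Y = 48) (R : Subgroup Y)
    (hR : IsPGroup 2 R) : Nat.card R ≤ 16 := by
  haveI : Fact (Nat.Prime 2) := ⟨Nat.prime_two⟩
  obtain ⟨k, hk⟩ := hR.exists_card_eq
  have hd : Nat.card R ∣ 48 := hY ▸ Subgroup.card_subgroup_dvd_card R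
  rw [hk] at hd ⊢
  have hk4 : k ≤ 4 := by
    by_contra hlt
    have h5 : 5 ≤ k := by omega
    have h32 : 2 ^ 5 ∣ 2 ^ k := Nat.pow_dvd_pow 2 h5
    have := dvd_trans h32 hd
    omega
  calc 2 ^ k ≤ 2 ^ 4 := Nat.pow_le_pow_right (by norm_num) hk4
    _ = 16 := by norm_num

theorem mem_normalizer_of_conj_mem {Y : Type*} [Group Y] [Finite Y] (H : Subgroup Y) (g : Y)
    (h : ∀ y ∈ H, g * y * g⁻¹ ∈ H) : ∀ y ∈ H, g⁻¹ * y * g ∈ H := by
  intro y hy
  let f : H → H := fun x => ⟨g * x * g⁻¹, h x x.2⟩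
  have hinj : Function.Injective f := by
    intro a b hab
    have : g * (a : Y) * g⁻¹ = g * (b : Y) * g⁻¹ := congrArg Subtype.val hab
    exact Subtype.ext (mul_left_cancel (mul_right_cancel this))
  obtain ⟨x, hx⟩ := (Finite.injective_iff_surjective.1 hinj) ⟨y, hy⟩
  have hx' : g * (x : Y) * g⁻¹ = y := congrArg Subtype.val hx
  rw [← hx']
  have : g⁻¹ * (g * (x : Y) * g⁻¹) * g = x := by group
  rw [this]
  exact x.2

theorem exists_pow_order_two {Y : Type*} [Group Y] {x : Y} (hx : x ≠ 1) (h2 : ∃ k : ℕ, orderOf x = 2 ^ k) :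
    ∃ m : ℕ, orderOf (x ^ m) = 2 := by
  obtain ⟨k, hk⟩ := h2
  have hk0 : k ≠ 0 := by
    rintro rfl
    rw [pow_zero, orderOf_eq_one_iff] at hk
    exact hx hk
  obtain ⟨j, rfl⟩ := Nat.exists_eq_succ_of_ne_zero hk0
  refine ⟨2 ^ j, ?_⟩
  rw [orderOf_pow_of_dvd (by positivity) (by rw [hk]; exact pow_dvd_pow 2 (Nat.le_succ j)), hk, pow_succ]
  exact Nat.mul_div_cancel_left 2 (by positivity)

theorem orderOf_eq_two_of {Y : Type*} [Group Y] {x : Y} (h1 : x * x = 1) (h2 : x ≠ 1) : orderOf x = 2 := by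
  haveI : Fact (Nat.Prime 2) := ⟨Nat.prime_two⟩
  exact orderOf_eq_prime (by rw [pow_two, h1]) h2

theorem mul_self_of_orderOf {Y : Type*} [Group Y] {x : Y} (h : orderOf x = 2) : x * x = 1 := by
  rw [← pow_two, ← h, pow_orderOf_eq_one]

theorem ne_one_of_orderOf {Y : Type*} [Group Y] {x : Y} (h : orderOf x = 2) : x ≠ 1 := by
  rintro rfl
  rw [orderOf_one] at h
  omega


section main

variable {G : Type*} [Group G] [Finite G] (S : Sylow 2 G) (z : G)
  (ε : ↥(Subgroup.centralizer ({z} : Set G)) ≃* X)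

/-- the image of `S` in `GL(2,3)` -/
def PX : Subgroup X :=
  ((S : Subgroup G).subgroupOf (Subgroup.centralizer ({z} : Set G))).map ε.toMonoidHom

/-- the image of a subgroup `T` in `GL(2,3)` -/
def TX (T : Subgroup G) : Subgroup X :=
  (T.subgroupOf (Subgroup.centralizer ({z} : Set G))).map ε.toMonoidHom

theorem mem_TX (T : Subgroup G) (x : X) :
    x ∈ TX z ε T ↔ ((ε.symm x : ↥(Subgroup.centralizer ({z} : Set G))) : G) ∈ T := by
  unfold TX
  rw [Subgroup.mem_map_equiv, Subgroup.mem_subgroupOf]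

theorem PX_eq : PX S z ε = TX z ε (S : Subgroup G) := rfl

theorem mem_centralizer_z {c : G} : c ∈ Subgroup.centralizer ({z} : Set G) ↔ z * c = c * z := by
  rw [Subgroup.mem_centralizer_iff]
  constructor
  · intro h; exact h z rfl
  · intro h y hy; rw [Set.mem_singleton_iff.1 hy]; exact h

variable (hzc : ∀ s ∈ (S : Subgroup G), s * z = z * s)

include hzc in
theorem le_centralizer : (S : Subgroup G) ≤ Subgroup.centralizer ({z} : Set G) := by
  intro s hs
  rw [mem_centralizer_z]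
  exact (hzc s hs).symm

include hzc in
theorem eps_mem_PX {s : G} (hs : s ∈ (S : Subgroup G)) :
    ε ⟨s, le_centralizer S z hzc hs⟩ ∈ PX S z ε := by
  rw [PX_eq, mem_TX, MulEquiv.symm_apply_apply]
  exact hs

include hzc in
theorem card_PX (h16 : Nat.card (S : Subgroup G) = 16) : Nat.card (PX S z ε) = 16 := by
  unfold PX
  rw [Subgroup.card_map_of_injective ε.injective,
    Nat.card_congr (Subgroup.subgroupOfEquivOfLe (le_centralizer S z hzc)).toEquiv, h16]

theorem z_mem_centralizer : z ∈ Subgroup.centralizer ({z} : Set G) := by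
  rw [mem_centralizer_z]

theorem eps_z (hz2 : orderOf z = 2) : ε ⟨z, z_mem_centralizer z⟩ = -1 := by
  apply central_involution
  · rw [← map_mul]
    have : (⟨z, z_mem_centralizer z⟩ : ↥(Subgroup.centralizer ({z} : Set G))) * ⟨z, z_mem_centralizer z⟩ = 1 := by
      apply Subtype.ext
      exact mul_self_of_orderOf hz2
    rw [this, map_one]
  · intro h
    have h1 : (⟨z, z_mem_centralizer z⟩ : ↥(Subgroup.centralizer ({z} : Set G))) = 1 := by
      apply ε.injective
      rw [h, map_one]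
    exact ne_one_of_orderOf hz2 (congrArg Subtype.val h1)
  · intro x
    obtain ⟨c, rfl⟩ := ε.surjective x
    rw [← map_mul, ← map_mul]
    congr 1
    apply Subtype.ext
    exact (mem_centralizer_z z).1 c.2

include hzc in
theorem Q_le_PX (h16 : Nat.card (S : Subgroup G) = 16) : Q ≤ PX S z ε := by
  apply le_of_sup_isPGroup (p := 2)
  · refine IsPGroup.to_sup_of_normal_right ?_ Q_isPGroup
    unfold PX
    exact IsPGroup.map (S.isPGroup'.comap_subtype) _
  · intro R hR
    rw [card_PX S z ε hzc h16]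
    exact card_le_sixteen card_X R hR

include ε hzc in
/-- the centre of `S` is `{1, z}` -/
theorem center_S (h16 : Nat.card (S : Subgroup G) = 16) (hz2 : orderOf z = 2) {s : G}
    (hs : s ∈ (S : Subgroup G)) (hcomm : ∀ s' ∈ (S : Subgroup G), s * s' = s' * s) : s = 1 ∨ s = z := by
  have hSC := le_centralizer S z hzc
  have key : ε ⟨s, hSC hs⟩ = 1 ∨ ε ⟨s, hSC hs⟩ = -1 := by
    apply centralizer_Q
    intro q hq
    have hqP := Q_le_PX S z ε hzc h16 hq
    rw [PX_eq, mem_TX] at hqP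
    have hq' : q = ε (ε.symm q) := (MulEquiv.apply_symm_apply ε q).symm
    rw [hq', ← map_mul, ← map_mul]
    congr 1
    apply Subtype.ext
    exact hcomm _ hqP
  rcases key with h | h
  · left
    have h1 : (⟨s, hSC hs⟩ : ↥(Subgroup.centralizer ({z} : Set G))) = 1 := by
      apply ε.injective; rw [h, map_one]
    exact congrArg Subtype.val h1
  · right
    have h1 : (⟨s, hSC hs⟩ : ↥(Subgroup.centralizer ({z} : Set G))) = ⟨z, z_mem_centralizer z⟩ := by
      apply ε.injective; rw [h, eps_z z ε hz2]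
    exact congrArg Subtype.val h1


theorem isPGroup_two_zpowers' {Y : Type*} [Group Y] {y : Y} (hy : y * y = 1) : IsPGroup 2 (Subgroup.zpowers y) := by
  rintro ⟨w, hw⟩
  refine ⟨1, ?_⟩
  apply Subtype.ext
  obtain ⟨n, rfl⟩ := hw
  show (y ^ n) ^ (2 ^ 1) = 1
  rw [pow_one, ← zpow_natCast, ← zpow_mul, mul_comm, zpow_mul, zpow_natCast, pow_two, hy, one_zpow]

include ε hzc in
/-- `S` is self-normalizing -/
theorem normalizer_S (h16 : Nat.card (S : Subgroup G) = 16) (hz2 : orderOf z = 2)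
    (hzS : z ∈ (S : Subgroup G)) {n : G}
    (hn : ∀ s ∈ (S : Subgroup G), n * s * n⁻¹ ∈ (S : Subgroup G)) : n ∈ (S : Subgroup G) := by
  have hn' := mem_normalizer_of_conj_mem (S : Subgroup G) n hn
  have h1 : n * z * n⁻¹ = 1 ∨ n * z * n⁻¹ = z := by
    apply center_S S z ε hzc h16 hz2 (hn z hzS)
    intro s' hs'
    have h2 := hzc _ (hn' s' hs')
    calc n * z * n⁻¹ * s' = n * (z * (n⁻¹ * s' * n)) * n⁻¹ := by group
      _ = n * ((n⁻¹ * s' * n) * z) * n⁻¹ := by rw [h2]
      _ = s' * (n * z * n⁻¹) := by group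
  have hnz : n * z * n⁻¹ = z := by
    rcases h1 with h | h
    · exfalso
      apply ne_one_of_orderOf hz2
      have e : z = n⁻¹ * (n * z * n⁻¹) * n := by group
      rw [e, h]; group
    · exact h
  have hnC : n ∈ Subgroup.centralizer ({z} : Set G) := by
    rw [mem_centralizer_z]
    calc z * n = (n * z * n⁻¹) * n := by rw [hnz]
      _ = n * z := by group
  by_contra hnS
  set ν : X := ε ⟨n, hnC⟩ with hν
  have hνP : ν ∉ PX S z ε := by
    rw [PX_eq, mem_TX, hν, MulEquiv.symm_apply_apply]; exact hnS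
  have hfor : ∀ x ∈ PX S z ε, ν * x * ν⁻¹ ∈ PX S z ε := by
    intro x hx
    rw [PX_eq, mem_TX] at hx ⊢
    rw [hν, map_mul, map_mul, map_inv, MulEquiv.symm_apply_apply]
    exact hn _ hx
  have hνN : ν ∈ Subgroup.normalizer (PX S z ε : Set X) := by
    rw [Subgroup.mem_normalizer_iff]
    have hback := mem_normalizer_of_conj_mem (PX S z ε) ν hfor
    intro x
    constructor
    · exact hfor x
    · intro hx
      have := hback _ hx
      have e : ν⁻¹ * (ν * x * ν⁻¹) * ν = x := by group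
      rwa [e] at this
  have hcardP := card_PX S z ε hzc h16
  have hlt : PX S z ε < Subgroup.normalizer (PX S z ε : Set X) :=
    lt_of_le_of_ne Subgroup.le_normalizer (fun h => hνP (h ▸ hνN))
  have hdvd1 : Nat.card (PX S z ε) ∣ Nat.card (Subgroup.normalizer (PX S z ε : Set X)) :=
    Subgroup.card_dvd_of_le hlt.le
  have hdvd2 : Nat.card (Subgroup.normalizer (PX S z ε : Set X)) ∣ 48 :=
    card_X ▸ Subgroup.card_subgroup_dvd_card _
  have hne : Nat.card (Subgroup.normalizer (PX S z ε : Set X)) ≠ 16 := by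
    intro h
    have := Subgroup.eq_of_le_of_card_ge hlt.le (by rw [h, hcardP])
    exact hlt.ne this
  have h48 : Nat.card (Subgroup.normalizer (PX S z ε : Set X)) = 48 := by
    rw [hcardP] at hdvd1
    obtain ⟨m, hm⟩ := hdvd1
    rw [hm] at hdvd2 hne ⊢
    have hm3 : m ∣ 3 := Nat.dvd_of_mul_dvd_mul_left (by norm_num : 0 < 16) (by simpa using hdvd2)
    have hle := Nat.le_of_dvd (by norm_num) hm3
    interval_cases m
    · simp at hm3
    · simp at hne
    · omega
    · rfl
  have htop : Subgroup.normalizer (PX S z ε : Set X) = ⊤ := by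
    apply Subgroup.eq_top_of_card_eq
    rw [h48, card_X]
  haveI hnormal : (PX S z ε).Normal := Subgroup.normalizer_eq_top_iff.1 htop
  obtain ⟨a, b, ha, hb, hab3, hab1⟩ := exists_involutions
  have hPp : IsPGroup 2 (PX S z ε) := by
    unfold PX; exact IsPGroup.map (S.isPGroup'.comap_subtype) _
  have hmem : ∀ a : X, a * a = 1 → a ∈ PX S z ε := by
    intro a ha
    have hle : Subgroup.zpowers a ≤ PX S z ε := by
      apply le_of_sup_isPGroup (p := 2)
      · exact IsPGroup.to_sup_of_normal_left hPp (isPGroup_two_zpowers' ha)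
      · intro R hR; rw [hcardP]; exact card_le_sixteen card_X R hR
    exact hle (Subgroup.mem_zpowers a)
  have habP : a * b ∈ PX S z ε := (PX S z ε).mul_mem (hmem a ha) (hmem b hb)
  have h16' : (a * b) ^ 16 = 1 := by
    have := pow_card_eq_one' (G := PX S z ε) (x := ⟨a * b, habP⟩)
    rw [hcardP] at this
    have h2 := congrArg Subtype.val this
    simpa using h2
  apply hab1
  have h15 : (a * b) ^ 15 = 1 := by
    have e : (a * b) ^ 15 = ((a * b) * (a * b) * (a * b)) ^ 5 := by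
      simp only [pow_succ, pow_zero, one_mul, mul_assoc]
    rw [e, hab3, one_pow]
  calc a * b = (a * b) ^ 15 * (a * b) := by rw [h15, one_mul]
    _ = (a * b) ^ 16 := (pow_succ (a * b) 15).symm
    _ = 1 := h16'

include ε hzc in
/-- all involutions are conjugate to `z` -/
theorem conj_involution (h16 : Nat.card (S : Subgroup G) = 16) (hz2 : orderOf z = 2)
    (hC : ∀ x : G, orderOf x = 2 → Nonempty (↥(Subgroup.centralizer ({x} : Set G)) ≃* X))
    {t : G} (ht : orderOf t = 2) : ∃ g : G, g * z * g⁻¹ = t := by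
  haveI : Fact (Nat.Prime 2) := ⟨Nat.prime_two⟩
  obtain ⟨εt⟩ := hC t ht
  have hcardC : Nat.card ↥(Subgroup.centralizer ({t} : Set G)) = 48 := by
    rw [Nat.card_congr εt.toEquiv, card_X]
  let tC : ↥(Subgroup.centralizer ({t} : Set G)) := ⟨t, z_mem_centralizer t⟩
  have htC : orderOf tC = 2 := by
    rw [← ht]; exact Subgroup.orderOf_mk t _
  obtain ⟨K, hK16, hKt⟩ := Sylow.exists_subgroup_card_pow_prime_le 2 (n := 1) (m := 4)
    (by rw [hcardC]; norm_num) (Subgroup.zpowers tC) (by rw [Nat.card_zpowers, htC, pow_one]) (by norm_num)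
  set R : Subgroup G := K.map (Subgroup.centralizer ({t} : Set G)).subtype with hR
  have hcardR : Nat.card R = 16 := by
    rw [hR, Subgroup.card_map_of_injective (Subgroup.subtype_injective _), hK16]; norm_num
  have hRp : IsPGroup 2 R := IsPGroup.of_card (n := 4) (by rw [hcardR]; norm_num)
  obtain ⟨P', hRP'⟩ := hRp.exists_le_sylow
  have hcardP' : Nat.card (P' : Subgroup G) = 16 := by
    rw [Sylow.card_eq_multiplicity, ← Sylow.card_eq_multiplicity S, h16]
  have hRP : R = (P' : Subgroup G) := Subgroup.eq_of_le_of_card_ge hRP' (by rw [hcardP', hcardR])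
  obtain ⟨g, hg⟩ := MulAction.exists_smul_eq G S P'
  have htR : t ∈ R := ⟨tC, hKt (Subgroup.mem_zpowers tC), rfl⟩
  have hRcomm : ∀ r ∈ R, t * r = r * t := by
    rintro _ ⟨c, -, rfl⟩
    exact (mem_centralizer_z t).1 c.2
  have hmemR : ∀ x : G, x ∈ R ↔ g⁻¹ * x * g ∈ (S : Subgroup G) := by
    intro x
    rw [hRP, ← hg]
    show x ∈ ((g • S : Sylow 2 G) : Subgroup G) ↔ _
    rw [Sylow.coe_subgroup_smul, Subgroup.mem_pointwise_smul_iff_inv_smul_mem]
    simp [MulAut.smul_def]
  refine ⟨g, ?_⟩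
  have h1 : g⁻¹ * t * g = 1 ∨ g⁻¹ * t * g = z := by
    apply center_S S z ε hzc h16 hz2 ((hmemR t).1 htR)
    intro s' hs'
    have hs'R : g * s' * g⁻¹ ∈ R := by
      rw [hmemR]
      have e : g⁻¹ * (g * s' * g⁻¹) * g = s' := by group
      rw [e]; exact hs'
    have h2 := hRcomm _ hs'R
    calc g⁻¹ * t * g * s' = g⁻¹ * (t * (g * s' * g⁻¹)) * g := by group
      _ = g⁻¹ * ((g * s' * g⁻¹) * t) * g := by rw [h2]
      _ = s' * (g⁻¹ * t * g) := by group
  rcases h1 with h | h
  · exfalso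
    apply ne_one_of_orderOf ht
    have e : t = g * (g⁻¹ * t * g) * g⁻¹ := by group
    rw [e, h]; group
  · rw [← h]; group


omit [Finite G] in
theorem conj_mem_of_stronglyClosed {T : Subgroup G}
    (hT : (groupFusionSystem (S : Subgroup G)).StronglyClosed T)
    {x : G} (hx : x ∈ T) (g : G) (hg : g * x * g⁻¹ ∈ (S : Subgroup G)) : g * x * g⁻¹ ∈ T := by
  have hR : Subgroup.zpowers x ≤ T := by rw [Subgroup.zpowers_le]; exact hx
  have hφ : conjHom (Subgroup.zpowers x) g ∈
      (groupFusionSystem (S : Subgroup G)).Hom (Subgroup.zpowers x) := by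
    refine ⟨hR.trans hT.1, ?_, g, fun y => rfl⟩
    rintro ⟨y, hy⟩
    obtain ⟨k, rfl⟩ := Subgroup.mem_zpowers_iff.1 hy
    show g * x ^ k * g⁻¹ ∈ (S : Subgroup G)
    have e : g * x ^ k * g⁻¹ = (g * x * g⁻¹) ^ k := by rw [conj_zpow]
    rw [e]; exact Subgroup.zpow_mem _ hg k
  exact hT.2 _ hR _ hφ ⟨x, Subgroup.mem_zpowers x⟩

include ε hzc in
/-- a nontrivial strongly closed subgroup is `S` -/
theorem stronglyClosed_eq (h16 : Nat.card (S : Subgroup G) = 16) (hz2 : orderOf z = 2)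
    (hzS : z ∈ (S : Subgroup G))
    (hC : ∀ x : G, orderOf x = 2 → Nonempty (↥(Subgroup.centralizer ({x} : Set G)) ≃* X))
    {T : Subgroup G} (hT : (groupFusionSystem (S : Subgroup G)).StronglyClosed T) (hTbot : T ≠ ⊥) :
    T = (S : Subgroup G) := by
  have hclosed : ∀ {x : G}, x ∈ T → ∀ g : G, g * x * g⁻¹ ∈ (S : Subgroup G) → g * x * g⁻¹ ∈ T :=
    fun {x} hx g hg => conj_mem_of_stronglyClosed S hT (x := x) hx g hg
  have hTS : T ≤ (S : Subgroup G) := hT.1
  obtain ⟨x, hxT, hx1⟩ : ∃ x ∈ T, x ≠ 1 := by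
    by_contra h
    push Not at h
    exact hTbot ((Subgroup.eq_bot_iff_forall T).2 h)
  have hx2 : ∃ k : ℕ, orderOf x = 2 ^ k := by
    obtain ⟨k, hk⟩ := (IsPGroup.iff_orderOf.1 S.isPGroup') ⟨x, hTS hxT⟩
    exact ⟨k, by rw [← hk]; exact (Subgroup.orderOf_mk x _).symm⟩
  obtain ⟨m, hm⟩ := exists_pow_order_two hx1 hx2
  have ht0T : x ^ m ∈ T := T.pow_mem hxT m
  obtain ⟨g0, hg0⟩ := conj_involution S z ε hzc h16 hz2 hC hm
  have hzT : z ∈ T := by
    have e : z = g0⁻¹ * (x ^ m) * g0⁻¹⁻¹ := by rw [← hg0]; group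
    rw [e]; apply hclosed ht0T; rw [← e]; exact hzS
  have hinvT : ∀ t ∈ (S : Subgroup G), orderOf t = 2 → t ∈ T := by
    intro t htS ht
    obtain ⟨g, hg⟩ := conj_involution S z ε hzc h16 hz2 hC ht
    rw [← hg]; apply hclosed hzT; rw [hg]; exact htS
  have hcardP := card_PX S z ε hzc h16
  have hQP := Q_le_PX S z ε hzc h16
  have hTP : TX z ε T ≤ PX S z ε := by
    intro y hy
    rw [PX_eq, mem_TX]
    rw [mem_TX] at hy
    exact hTS hy
  obtain ⟨y, hyP, hyQ⟩ : ∃ y ∈ PX S z ε, y ∉ Q := by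
    by_contra h
    push Not at h
    have hle : PX S z ε ≤ Q := h
    have := Subgroup.card_le_of_le hle
    rw [hcardP, card_Q] at this
    omega
  have hy16 : y ^ 16 = 1 := by
    have := pow_card_eq_one' (G := PX S z ε) (x := ⟨y, hyP⟩)
    rw [hcardP] at this
    simpa using congrArg Subtype.val this
  obtain ⟨q1, hq1, hyq⟩ := exists_mul_involution hy16 hyQ
  set t1 := y * q1 with ht1
  have ht1P : t1 ∈ PX S z ε := (PX S z ε).mul_mem hyP (hQP hq1)
  have ht1Q : t1 ∉ Q := by
    intro h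
    apply hyQ
    have e : y = t1 * q1⁻¹ := by rw [ht1]; group
    rw [e]; exact Q.mul_mem h (Q.inv_mem hq1)
  have hτS : ((ε.symm t1 : ↥(Subgroup.centralizer ({z} : Set G))) : G) ∈ (S : Subgroup G) := by
    rw [PX_eq, mem_TX] at ht1P; exact ht1P
  set τ : G := ((ε.symm t1 : ↥(Subgroup.centralizer ({z} : Set G))) : G) with hτ
  have hτ2 : orderOf τ = 2 := by
    apply orderOf_eq_two_of
    · have h1 : ε.symm t1 * ε.symm t1 = 1 := by rw [← map_mul, hyq, map_one]
      exact congrArg Subtype.val h1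
    · intro h
      apply ht1Q
      have h1 : ε.symm t1 = 1 := Subtype.ext h
      have h2 : t1 = 1 := by rw [← ε.apply_symm_apply t1, h1, map_one]
      rw [h2]; exact Q.one_mem
  have hτT : τ ∈ T := hinvT τ hτS hτ2
  have ht1T : t1 ∈ TX z ε T := by rw [mem_TX]; exact hτT
  obtain ⟨q2, hq2, hf0⟩ := exists_conj_mul_sq hyq ht1Q
  set f0 := t1 * (q2 * t1 * q2⁻¹) with hf0def
  have hq2P := hQP hq2
  have hκS : ((ε.symm q2 : ↥(Subgroup.centralizer ({z} : Set G))) : G) ∈ (S : Subgroup G) := by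
    rw [PX_eq, mem_TX] at hq2P; exact hq2P
  set κ : G := ((ε.symm q2 : ↥(Subgroup.centralizer ({z} : Set G))) : G) with hκ
  have hconjS : κ * τ * κ⁻¹ ∈ (S : Subgroup G) :=
    (S : Subgroup G).mul_mem ((S : Subgroup G).mul_mem hκS hτS) ((S : Subgroup G).inv_mem hκS)
  have hconj2 : orderOf (κ * τ * κ⁻¹) = 2 := by
    apply orderOf_eq_two_of
    · have h1 := mul_self_of_orderOf hτ2
      calc κ * τ * κ⁻¹ * (κ * τ * κ⁻¹) = κ * (τ * τ) * κ⁻¹ := by group
        _ = 1 := by rw [h1]; group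
    · intro h
      apply ne_one_of_orderOf hτ2
      have e : τ = κ⁻¹ * (κ * τ * κ⁻¹) * κ := by group
      rw [e, h]; group
  have hφ0T : τ * (κ * τ * κ⁻¹) ∈ T := T.mul_mem hτT (hinvT _ hconjS hconj2)
  have hf0T : f0 ∈ TX z ε T := by
    rw [mem_TX, hf0def]
    simp only [map_mul, map_inv, Subgroup.coe_mul, Subgroup.coe_inv]
    exact hφ0T
  have hQT : Q ≤ TX z ε T := by
    intro q hq
    have hqP := hQP hq
    rcases hq with h | h | h
    · rw [h]; exact (TX z ε T).one_mem
    · rw [h, mem_TX, ← eps_z z ε hz2, MulEquiv.symm_apply_apply]; exact hzT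
    · obtain ⟨k, hk⟩ := conj_of_sq_negOne hf0 h
      rw [PX_eq, mem_TX, ← hk] at hqP
      rw [mem_TX, ← hk]
      simp only [map_mul, map_inv, Subgroup.coe_mul, Subgroup.coe_inv] at hqP ⊢
      exact hclosed ((mem_TX z ε T f0).1 hf0T) _ hqP
  have hne : Q ≠ TX z ε T := by
    intro h; apply ht1Q; rw [h]; exact ht1T
  have hTXeq : TX z ε T = PX S z ε := by
    have hd1 : Nat.card Q ∣ Nat.card (TX z ε T) := Subgroup.card_dvd_of_le hQT
    have hd2 : Nat.card (TX z ε T) ∣ Nat.card (PX S z ε) := Subgroup.card_dvd_of_le hTP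
    rw [card_Q] at hd1
    rw [hcardP] at hd2
    obtain ⟨m, hm⟩ := hd1
    have hm2 : m ∣ 2 := by
      rw [hm] at hd2
      exact Nat.dvd_of_mul_dvd_mul_left (by norm_num : 0 < 8) (by simpa using hd2)
    have hle := Nat.le_of_dvd (by norm_num) hm2
    have hm_ne1 : m ≠ 1 := by
      rintro rfl
      apply hne
      exact Subgroup.eq_of_le_of_card_ge hQT (by rw [hm, card_Q])
    have hm_ne0 : m ≠ 0 := by
      rintro rfl
      simp at hm2
    have hm_eq : m = 2 := by omega
    apply Subgroup.eq_of_le_of_card_ge hTP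
    rw [hcardP, hm, hm_eq]
  apply le_antisymm hTS
  intro s hs
  have := eps_mem_PX S z ε hzc hs
  rw [← hTXeq, mem_TX, MulEquiv.symm_apply_apply] at this
  exact this

end main

/-- main theorem -/
theorem simple_of_centralizers {G : Type*} [Group G] [Finite G] (S : Sylow 2 G)
    (h16 : Nat.card (S : Subgroup G) = 16)
    (hC : ∀ x : G, orderOf x = 2 → Nonempty (↥(Subgroup.centralizer ({x} : Set G)) ≃* X)) :
    (groupFusionSystem (S : Subgroup G)).IsSimple 2 := by
  haveI : Fact (Nat.Prime 2) := ⟨Nat.prime_two⟩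
  haveI : Nontrivial (S : Subgroup G) := by
    apply (Finite.one_lt_card_iff_nontrivial).1
    rw [h16]; norm_num
  haveI hcen : Nontrivial (Subgroup.center (S : Subgroup G)) := S.isPGroup'.center_nontrivial
  obtain ⟨c, hc1⟩ := exists_ne (1 : Subgroup.center (S : Subgroup G))
  have hc2 : ∃ k, orderOf (c : (S : Subgroup G)) = 2 ^ k := (IsPGroup.iff_orderOf.1 S.isPGroup') c
  have hc1' : (c : (S : Subgroup G)) ≠ 1 := fun h => hc1 (Subtype.ext h)
  obtain ⟨m, hm⟩ := exists_pow_order_two hc1' hc2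
  have hzcen : (c : (S : Subgroup G)) ^ m ∈ Subgroup.center (S : Subgroup G) :=
    (Subgroup.center _).pow_mem c.2 m
  set zS : (S : Subgroup G) := (c : (S : Subgroup G)) ^ m with hzS
  set z : G := (zS : G) with hz
  have hz2 : orderOf z = 2 := by rw [hz, Subgroup.orderOf_coe, hm]
  have hzmem : z ∈ (S : Subgroup G) := zS.2
  have hzc : ∀ s ∈ (S : Subgroup G), s * z = z * s := by
    intro s hs
    have := Subgroup.mem_center_iff.1 hzcen ⟨s, hs⟩
    exact congrArg Subtype.val this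
  obtain ⟨ε⟩ := hC z hz2
  have hNS : ∀ g : G, (∀ x ∈ (S : Subgroup G), g * x * g⁻¹ ∈ (S : Subgroup G)) → g ∈ (S : Subgroup G) :=
    fun g hg => normalizer_S S z ε hzc h16 hz2 hzmem hg
  apply Cfsg.Agent.S5339.result 2 S.isPGroup' _ (Cfsg.Agent.Helper84.gfs_saturated S)
  · intro h
    rw [h] at h16
    simp at h16
  · apply le_antisymm
    · unfold FusionSystem.autGroup
      rw [Subgroup.closure_le]
      rintro α ⟨-, -, g, hg⟩
      have hgS : g ∈ (S : Subgroup G) := by
        apply hNS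
        intro x hx
        have := hg ⟨x, hx⟩
        rw [← this]
        exact (α ⟨x, hx⟩).2
      refine ⟨⟨g, hgS⟩, ?_⟩
      ext x
      exact (hg x).symm
    · rintro _ ⟨s, rfl⟩
      apply Subgroup.subset_closure
      exact ⟨le_rfl, fun x => (MulAut.conj s x).2, (s : G), fun x => rfl⟩
  · intro T hT
    by_cases hb : T = ⊥
    · left; exact hb
    · right; exact stronglyClosed_eq S z ε hzc h16 hz2 hzmem hC hT hb

end Cfsg.Agent.Helper88.GL23Fusion
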