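import Cfsg.Agent.Lib.Helper88.GLClassDefs

/-!
Cyclic decomposition of an invertible endomorphism of a finite-dimensional space (S2478):
existence of a chain type (`exists_type`, given a maximal vector and an invariant complement)
and uniqueness up to conjugacy (`conj_of_type`).
-/

set_option autoImplicit false
open Polynomial Module
namespace Cfsg.Agent.Helper88.GLClass
universe u
variable {F : Type*} [Field F]

theorem cycMap_X_mul {V : Type*} [AddCommGroup V] [Module F V] (T : Module.End F V) (v : V) (g : F[X]) :
    cycMap T v (X * g) = T (cycMap T v g) := by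
  simp [cycMap_apply, map_mul]

theorem aeval_mul_X {V : Type*} [AddCommGroup V] [Module F V] (S : Module.End F V) (p : F[X]) :
    aeval S (p * X) = aeval S p * S := by rw [map_mul, aeval_X]

theorem aeval_restrict_apply {V : Type*} [AddCommGroup V] [Module F V] (T : Module.End F V)
    (W : Submodule F V) (hW : ∀ w ∈ W, T w ∈ W) (g : F[X]) (w : W) :
    ((aeval (T.restrict hW) g w : W) : V) = aeval T g (w : V) := by
  induction g using Polynomial.induction_on generalizing w with
  | C a => simp [Module.algebraMap_end_apply]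
  | add p q hp hq => simp [hp, hq]
  | monomial n a ih =>
    have h1 : (C a * X ^ (n + 1) : F[X]) = (C a * X ^ n) * X := by rw [pow_succ, mul_assoc]
    rw [h1, aeval_mul_X, aeval_mul_X, Module.End.mul_apply, Module.End.mul_apply, ih]
    rfl

/-- the equivalence between two cyclic subspaces with the same annihilator -/
theorem exists_cyc_equiv {V V' : Type*} [AddCommGroup V] [Module F V] [AddCommGroup V'] [Module F V']
    (T : Module.End F V) (T' : Module.End F V') (v : V) (v' : V') (E : F[X])
    (h : ∀ g : F[X], aeval T g v = 0 ↔ E ∣ g) (h' : ∀ g : F[X], aeval T' g v' = 0 ↔ E ∣ g) :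
    ∃ e : LinearMap.range (cycMap T v) ≃ₗ[F] LinearMap.range (cycMap T' v'),
      ∀ g : F[X], ((e ⟨cycMap T v g, LinearMap.mem_range_self _ g⟩ : LinearMap.range (cycMap T' v')) : V')
        = cycMap T' v' g := by
  have hker : LinearMap.ker (cycMap T v) = LinearMap.ker (cycMap T' v') := by
    ext g
    simp only [LinearMap.mem_ker, cycMap_apply, h, h']
  refine ⟨(LinearMap.quotKerEquivRange (cycMap T v)).symm ≪≫ₗ Submodule.quotEquivOfEq _ _ hker ≪≫ₗ
    LinearMap.quotKerEquivRange (cycMap T' v'), ?_⟩
  intro g
  simp only [LinearEquiv.trans_apply]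
  have h1 : (LinearMap.quotKerEquivRange (cycMap T v)).symm ⟨cycMap T v g, LinearMap.mem_range_self _ g⟩
      = Submodule.Quotient.mk g := by
    rw [LinearEquiv.symm_apply_eq]
    ext
    simp [LinearMap.quotKerEquivRange_apply_mk]
  rw [h1, Submodule.quotEquivOfEq_mk, LinearMap.quotKerEquivRange_apply_mk]

theorem conj_of_type : ∀ (L : List F[X]) {V V' : Type u} [AddCommGroup V] [Module F V]
    [AddCommGroup V'] [Module F V'] (T : Module.End F V) (T' : Module.End F V'),
    HasType L V T → HasType L V' T' → ∃ e : V ≃ₗ[F] V', ∀ x, e (T x) = T' (e x) := by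
  intro L
  induction L with
  | nil =>
    intro V V' _ _ _ _ T T' h h'
    have : Subsingleton V := h
    have : Subsingleton V' := h'
    exact ⟨LinearEquiv.ofSubsingleton V V', fun x => Subsingleton.elim _ _⟩
  | cons E L ih =>
    intro V V' _ _ _ _ T T' h h'
    obtain ⟨v, W, hW, hann, hc, hL⟩ := h
    obtain ⟨v', W', hW', hann', hc', hL'⟩ := h'
    obtain ⟨e₂, he₂⟩ := ih _ _ hL hL'
    obtain ⟨e₁, he₁⟩ := exists_cyc_equiv T T' v v' E hann hann'
    refine ⟨(Submodule.prodEquivOfIsCompl _ _ hc).symm ≪≫ₗ (e₁.prodCongr e₂) ≪≫ₗ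
      Submodule.prodEquivOfIsCompl _ _ hc', ?_⟩
    intro x
    obtain ⟨z, hz, w, hw, rfl⟩ : ∃ z ∈ LinearMap.range (cycMap T v), ∃ w ∈ W, z + w = x := by
      have : x ∈ LinearMap.range (cycMap T v) ⊔ W := by rw [hc.sup_eq_top]; trivial
      obtain ⟨z, hz, w, hw, h⟩ := Submodule.mem_sup.1 this
      exact ⟨z, hz, w, hw, h⟩
    obtain ⟨g, rfl⟩ := hz
    have hTz : T (cycMap T v g) = cycMap T v (X * g) := (cycMap_X_mul T v g).symm
    have key : ∀ (g : F[X]) (w : V) (hw : w ∈ W),
        ((Submodule.prodEquivOfIsCompl _ _ hc).symm ≪≫ₗ (e₁.prodCongr e₂) ≪≫ₗ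
          Submodule.prodEquivOfIsCompl _ _ hc') (cycMap T v g + w) = cycMap T' v' g + (e₂ ⟨w, hw⟩ : V') := by
      intro g w hw
      have : (Submodule.prodEquivOfIsCompl _ _ hc).symm (cycMap T v g + w) =
          (⟨cycMap T v g, LinearMap.mem_range_self _ g⟩, ⟨w, hw⟩) := by
        rw [LinearEquiv.symm_apply_eq]
        simp [Submodule.coe_prodEquivOfIsCompl']
      simp only [LinearEquiv.trans_apply, this, LinearEquiv.prodCongr_apply,
        Submodule.coe_prodEquivOfIsCompl', he₁]
    rw [map_add, hTz, key (X * g) (T w) (hW w hw), key g w hw, map_add, cycMap_X_mul]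
    congr 1
    have := he₂ ⟨w, hw⟩
    have h2 : (T.restrict hW) ⟨w, hw⟩ = ⟨T w, hW w hw⟩ := rfl
    rw [h2] at this
    rw [this]
    rfl

theorem finrank_range_cycMap {V : Type*} [AddCommGroup V] [Module F V]
    (T : Module.End F V) (v : V) (E : F[X]) (hE : E.Monic)
    (h : ∀ g : F[X], aeval T g v = 0 ↔ E ∣ g) :
    finrank F (LinearMap.range (cycMap T v)) = E.natDegree := by
  have hker : LinearMap.ker (cycMap T v) = (Ideal.span {E}).restrictScalars F := by
    ext g
    simp only [LinearMap.mem_ker, cycMap_apply, h, Submodule.restrictScalars_mem,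
      Ideal.mem_span_singleton]
  have e : LinearMap.range (cycMap T v) ≃ₗ[F] AdjoinRoot E :=
    (LinearMap.quotKerEquivRange (cycMap T v)).symm ≪≫ₗ Submodule.quotEquivOfEq _ _ hker ≪≫ₗ
      Submodule.Quotient.restrictScalarsEquiv F (Ideal.span {E})
  rw [e.finrank_eq, (AdjoinRoot.powerBasis' hE).finrank, AdjoinRoot.powerBasis'_dim]

/-- the head of a type annihilates -/
theorem head_dvd_of_hasType {V : Type u} [AddCommGroup V] [Module F V] (T : Module.End F V)
    (E : F[X]) (L : List F[X]) (h : HasType (E :: L) V T) (g : F[X]) (hg : aeval T g = 0) : E ∣ g := by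
  obtain ⟨v, W, hW, hann, -, -⟩ := h
  rw [← hann, hg]; rfl

theorem exists_type
    (hU1 : ∀ {V : Type u} [AddCommGroup V] [Module F V] [FiniteDimensional F V] (T : Module.End F V),
      ∃ v : V, ∀ g : F[X], aeval T g v = 0 → aeval T g = 0)
    (hU2 : ∀ {V : Type u} [AddCommGroup V] [Module F V] [FiniteDimensional F V] (T : Module.End F V)
      (v : V), (∀ g : F[X], aeval T g v = 0 → aeval T g = 0) →
      ∃ W : Submodule F V, (∀ w ∈ W, T w ∈ W) ∧ IsCompl (LinearMap.range (cycMap T v)) W)
    (n : ℕ) : ∀ {V : Type u} [AddCommGroup V] [Module F V] [FiniteDimensional F V]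
    (T : Module.End F V), Function.Injective T → finrank F V = n →
    ∃ L : List F[X], HasType L V T ∧ L.IsChain (fun a b => b ∣ a) ∧
      (∀ E ∈ L, E.Monic ∧ E.coeff 0 ≠ 0 ∧ E ≠ 1) ∧ (L.map natDegree).sum = n := by
  induction n using Nat.strong_induction_on with
  | _ n ih =>
    intro V _ _ _ T hT hn
    by_cases hV : Subsingleton V
    · refine ⟨[], hV, List.isChain_nil, by simp, ?_⟩
      rw [← hn]
      simp [finrank_zero_of_subsingleton]
    · rw [not_subsingleton_iff_nontrivial] at hV
      obtain ⟨v, hv⟩ := hU1 T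
      obtain ⟨W, hW, hc⟩ := hU2 T v hv
      set μ := minpoly F T with hμ
      have hint : IsIntegral F T := Algebra.IsIntegral.isIntegral T
      have hmon : μ.Monic := minpoly.monic hint
      have hann : ∀ g : F[X], aeval T g v = 0 ↔ μ ∣ g := by
        intro g
        constructor
        · intro h; exact minpoly.dvd F T (hv g h)
        · rintro ⟨q, rfl⟩
          rw [map_mul, minpoly.aeval]; simp
      have hne1 : μ ≠ 1 := minpoly.ne_one F T
      have hdeg : 1 ≤ μ.natDegree := by
        by_contra hcon
        have : μ.natDegree = 0 := by omega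
        exact hne1 (hmon.natDegree_eq_zero.1 this)
      have hZ := finrank_range_cycMap T v μ hmon hann
      have hsum := Submodule.finrank_add_eq_of_isCompl hc
      have hTW : Function.Injective (T.restrict hW) := by
        intro a b hab
        apply Subtype.ext
        apply hT
        have := congrArg Subtype.val hab
        exact this
      obtain ⟨L, hL, hch, hprop, hdegs⟩ := ih (finrank F W) (by omega) (T.restrict hW) hTW rfl
      refine ⟨μ :: L, ⟨v, W, hW, hann, hc, hL⟩, ?_, ?_, ?_⟩
      · cases L with
        | nil => exact List.isChain_singleton _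
        | cons E L' =>
          refine List.IsChain.cons_cons ?_ hch
          apply head_dvd_of_hasType _ E L' hL
          apply LinearMap.ext
          intro w
          apply Subtype.ext
          rw [aeval_restrict_apply, minpoly.aeval]
          rfl
      · intro E hE
        rcases List.mem_cons.1 hE with rfl | hE
        · exact ⟨hmon, LinearMap.minpoly_coeff_zero_of_injective hT, hne1⟩
        · exact hprop E hE
      · simp only [List.map_cons, List.sum_cons, hdegs]
        omega

end Cfsg.Agent.Helper88.GLClass
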