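import Cfsg.Agent.Lib.Helper88.GLClassCyclic

/-!
Conversion of chain types to the counting data `DataG`, and the upper bound `k(GL_n(q)) ≤ q^n`
(S2478), parametrised by the maximal-vector lemma, the invariant-complement lemma and the
injection `DataG F n → (Fin n → F)`.
-/

set_option autoImplicit false
open Polynomial Module
namespace Cfsg.Agent.Helper88.GLClass
universe u
variable {F : Type*} [Field F]

/-- successive ratios of a divisibility chain (largest first), listed smallest invariant factor first -/
noncomputable def toG : List F[X] → List F[X]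
  | [] => []
  | [D] => [D]
  | D₁ :: D₂ :: rest => toG (D₂ :: rest) ++ [D₁ / D₂]

theorem length_toG : ∀ L : List F[X], (toG L).length = L.length
  | [] => rfl
  | [_] => rfl
  | D₁ :: D₂ :: rest => by
    rw [toG, List.length_append, length_toG (D₂ :: rest)]
    simp

theorem wt_append_singleton (l : List F[X]) (g : F[X]) :
    wt (l ++ [g]) = wt l + (l.map natDegree).sum + g.natDegree := by
  induction l with
  | nil => simp [wt]
  | cons a l ih =>
    simp only [List.cons_append, wt, ih, List.length_append, List.length_singleton, List.map_cons,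
      List.sum_cons]
    ring

/-- Goodness of a chain: monic, nonzero constant coefficient, not one. -/
def Good (L : List F[X]) : Prop := ∀ E ∈ L, E.Monic ∧ E.coeff 0 ≠ 0 ∧ E ≠ 1

theorem div_mul_of_dvd {a b : F[X]} (hb : b ≠ 0) (h : b ∣ a) : a / b * b = a := by
  obtain ⟨c, rfl⟩ := h
  rw [mul_comm b c, mul_div_cancel_right₀ _ hb]

theorem sum_natDegree_toG : ∀ (D : F[X]) (L : List F[X]), (D :: L).IsChain (fun a b => b ∣ a) →
    Good (D :: L) → ((toG (D :: L)).map natDegree).sum = D.natDegree
  | D, [], _, _ => by simp [toG]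
  | D₁, D₂ :: rest, hch, hg => by
    have hch' : (D₂ :: rest).IsChain (fun a b => b ∣ a) := hch.tail
    have hd : D₂ ∣ D₁ := by
      rw [List.isChain_cons_cons] at hch; exact hch.1
    have hg' : Good (D₂ :: rest) := fun E hE => hg E (List.mem_cons_of_mem _ hE)
    have h2 : D₂ ≠ 0 := (hg D₂ (by simp)).1.ne_zero
    have h1 : D₁ ≠ 0 := (hg D₁ (by simp)).1.ne_zero
    rw [toG, List.map_append, List.sum_append, sum_natDegree_toG D₂ rest hch' hg']
    have := div_mul_of_dvd h2 hd
    have hq : D₁ / D₂ ≠ 0 := by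
      intro h0; rw [h0, zero_mul] at this; exact h1 this.symm
    conv_rhs => rw [← this, natDegree_mul hq h2]
    simp [add_comm]

theorem wt_toG : ∀ (L : List F[X]), L.IsChain (fun a b => b ∣ a) → Good L →
    wt (toG L) = (L.map natDegree).sum
  | [], _, _ => rfl
  | [D], _, _ => by simp [toG, wt]
  | D₁ :: D₂ :: rest, hch, hg => by
    have hch' : (D₂ :: rest).IsChain (fun a b => b ∣ a) := hch.tail
    have hd : D₂ ∣ D₁ := by
      rw [List.isChain_cons_cons] at hch; exact hch.1
    have hg' : Good (D₂ :: rest) := fun E hE => hg E (List.mem_cons_of_mem _ hE)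
    have h2 : D₂ ≠ 0 := (hg D₂ (by simp)).1.ne_zero
    have h1 : D₁ ≠ 0 := (hg D₁ (by simp)).1.ne_zero
    have := div_mul_of_dvd h2 hd
    have hq : D₁ / D₂ ≠ 0 := by
      intro h0; rw [h0, zero_mul] at this; exact h1 this.symm
    rw [toG, wt_append_singleton, wt_toG (D₂ :: rest) hch' hg', sum_natDegree_toG D₂ rest hch' hg']
    have hdeg : D₁.natDegree = (D₁ / D₂).natDegree + D₂.natDegree := by
      conv_lhs => rw [← this, natDegree_mul hq h2]
    simp only [List.map_cons, List.sum_cons] at *
    omega

theorem mem_toG : ∀ (L : List F[X]), L.IsChain (fun a b => b ∣ a) → Good L →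
    ∀ g ∈ toG L, g.Monic ∧ g.coeff 0 ≠ 0
  | [], _, _ => by simp [toG]
  | [D], _, hg => by
    intro g hgm
    simp only [toG, List.mem_singleton] at hgm
    subst hgm
    exact ⟨(hg g (by simp)).1, (hg g (by simp)).2.1⟩
  | D₁ :: D₂ :: rest, hch, hg => by
    have hch' : (D₂ :: rest).IsChain (fun a b => b ∣ a) := hch.tail
    have hd : D₂ ∣ D₁ := by
      rw [List.isChain_cons_cons] at hch; exact hch.1
    have hg' : Good (D₂ :: rest) := fun E hE => hg E (List.mem_cons_of_mem _ hE)
    have h2 : D₂ ≠ 0 := (hg D₂ (by simp)).1.ne_zero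
    have := div_mul_of_dvd h2 hd
    intro g hgm
    rw [toG, List.mem_append, List.mem_singleton] at hgm
    rcases hgm with hgm | rfl
    · exact mem_toG (D₂ :: rest) hch' hg' g hgm
    · have hm1 : D₁.Monic := (hg D₁ (by simp)).1
      have hm2 : D₂.Monic := (hg D₂ (by simp)).1
      refine ⟨?_, ?_⟩
      · apply Polynomial.Monic.of_mul_monic_right hm2
        rw [this]; exact hm1
      · intro h0
        have hc : D₁.coeff 0 = (D₁ / D₂).coeff 0 * D₂.coeff 0 := by
          conv_lhs => rw [← this, mul_coeff_zero]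
        rw [h0, zero_mul] at hc
        exact (hg D₁ (by simp)).2.1 hc

theorem head?_toG : ∀ (L : List F[X]), (toG L).head? = L.getLast?
  | [] => rfl
  | [D] => rfl
  | D₁ :: D₂ :: rest => by
    have hne : toG (D₂ :: rest) ≠ [] := by
      intro h
      have := length_toG (D₂ :: rest)
      rw [h] at this
      simp at this
    rw [toG, List.head?_append_of_ne_nil _ hne, head?_toG (D₂ :: rest)]
    simp [List.getLast?_cons_cons]

theorem toG_injective : ∀ (L M : List F[X]), L.IsChain (fun a b => b ∣ a) → Good L →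
    M.IsChain (fun a b => b ∣ a) → Good M → toG L = toG M → L = M
  | [], M, _, _, _, _, h => by
    have := congrArg List.length h
    rw [length_toG, length_toG] at this
    exact (List.length_eq_zero_iff.1 this.symm).symm
  | [D], M, _, _, _, _, h => by
    have hl := congrArg List.length h
    rw [length_toG, length_toG] at hl
    match M, h, hl with
    | [D'], h, _ => simpa [toG] using h
  | D₁ :: D₂ :: rest, M, hch, hg, hchM, hgM, h => by
    have hl := congrArg List.length h
    rw [length_toG, length_toG] at hl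
    match M, h, hl, hchM, hgM with
    | M₁ :: M₂ :: rest', h, _, hchM, hgM =>
      rw [toG, toG] at h
      have hlen : (toG (D₂ :: rest)).length = (toG (M₂ :: rest')).length := by
        have := congrArg List.length h
        simpa using this
      obtain ⟨h1, h2⟩ := List.append_inj h hlen
      have hd : D₂ ∣ D₁ := by
        rw [List.isChain_cons_cons] at hch; exact hch.1
      have hdM : M₂ ∣ M₁ := by
        rw [List.isChain_cons_cons] at hchM; exact hchM.1
      have hg' : Good (D₂ :: rest) := fun E hE => hg E (List.mem_cons_of_mem _ hE)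
      have hgM' : Good (M₂ :: rest') := fun E hE => hgM E (List.mem_cons_of_mem _ hE)
      have ih := toG_injective (D₂ :: rest) (M₂ :: rest') hch.tail hg' hchM.tail hgM' h1
      have e2 : D₂ = M₂ := by injection ih
      have hD2 : D₂ ≠ 0 := (hg D₂ (by simp)).1.ne_zero
      have hM2 : M₂ ≠ 0 := (hgM M₂ (by simp)).1.ne_zero
      have e1 : D₁ = M₁ := by
        rw [← div_mul_of_dvd hD2 hd, ← div_mul_of_dvd hM2 hdM]
        have : D₁ / D₂ = M₁ / M₂ := by simpa using h2
        rw [this, e2]
      rw [e1, ih]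

theorem toG_mem_dataG (n : ℕ) (L : List F[X]) (hch : L.IsChain (fun a b => b ∣ a)) (hg : Good L)
    (hs : (L.map natDegree).sum = n) : toG L ∈ DataG F n := by
  refine ⟨mem_toG L hch hg, ?_, ?_⟩
  · rw [head?_toG]
    intro h
    have := List.mem_of_getLast? h
    exact (hg 1 this).2.2 rfl
  · rw [wt_toG L hch hg, hs]

theorem toLin'_injective_of_GL {n : ℕ} (A : Matrix.GeneralLinearGroup (Fin n) F) :
    Function.Injective (Matrix.toLin' (A : Matrix (Fin n) (Fin n) F)) := by
  intro x y h
  have h2 := congrArg (Matrix.toLin' ((A⁻¹ : Matrix.GeneralLinearGroup (Fin n) F) : Matrix (Fin n) (Fin n) F)) h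
  simp only [Matrix.toLin'_apply, Matrix.mulVec_mulVec] at h2
  have h3 : ((A⁻¹ : Matrix.GeneralLinearGroup (Fin n) F) : Matrix (Fin n) (Fin n) F) * (A : Matrix (Fin n) (Fin n) F) = 1 := by
    rw [← Units.val_mul]; simp
  rwa [h3, Matrix.one_mulVec, Matrix.one_mulVec] at h2

theorem isConj_of_intertwine {n : ℕ} (A B : Matrix.GeneralLinearGroup (Fin n) F)
    (e : (Fin n → F) ≃ₗ[F] (Fin n → F))
    (he : ∀ x, e (Matrix.toLin' (A : Matrix (Fin n) (Fin n) F) x) = Matrix.toLin' (B : Matrix (Fin n) (Fin n) F) (e x)) :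
    IsConj A B := by
  rw [isConj_iff]
  have h1 : LinearMap.toMatrix' e.toLinearMap * LinearMap.toMatrix' e.symm.toLinearMap = 1 := by
    rw [← LinearMap.toMatrix'_comp]
    have : e.toLinearMap ∘ₗ e.symm.toLinearMap = LinearMap.id := by
      ext x; simp
    rw [this, LinearMap.toMatrix'_id]
  have h2 : LinearMap.toMatrix' e.symm.toLinearMap * LinearMap.toMatrix' e.toLinearMap = 1 := by
    rw [← LinearMap.toMatrix'_comp]
    have : e.symm.toLinearMap ∘ₗ e.toLinearMap = LinearMap.id := by
      ext x; simp
    rw [this, LinearMap.toMatrix'_id]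
  let P : Matrix.GeneralLinearGroup (Fin n) F := ⟨_, _, h1, h2⟩
  refine ⟨P, ?_⟩
  have h3 : LinearMap.toMatrix' e.toLinearMap * (A : Matrix (Fin n) (Fin n) F) =
      (B : Matrix (Fin n) (Fin n) F) * LinearMap.toMatrix' e.toLinearMap := by
    have : e.toLinearMap ∘ₗ Matrix.toLin' (A : Matrix (Fin n) (Fin n) F) =
        Matrix.toLin' (B : Matrix (Fin n) (Fin n) F) ∘ₗ e.toLinearMap := by
      apply LinearMap.ext
      intro x
      exact he x
    have := congrArg LinearMap.toMatrix' this
    rwa [LinearMap.toMatrix'_comp, LinearMap.toMatrix'_comp, LinearMap.toMatrix'_toLin',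
      LinearMap.toMatrix'_toLin'] at this
  rw [mul_inv_eq_iff_eq_mul]
  apply Units.ext
  exact h3

theorem upper_bound [Fintype F]
    (hU1 : ∀ {V : Type u_1} [AddCommGroup V] [Module F V] [FiniteDimensional F V] (T : Module.End F V),
      ∃ v : V, ∀ g : F[X], aeval T g v = 0 → aeval T g = 0)
    (hU2 : ∀ {V : Type u_1} [AddCommGroup V] [Module F V] [FiniteDimensional F V] (T : Module.End F V)
      (v : V), (∀ g : F[X], aeval T g v = 0 → aeval T g = 0) →
      ∃ W : Submodule F V, (∀ w ∈ W, T w ∈ W) ∧ IsCompl (LinearMap.range (cycMap T v)) W)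
    (n : ℕ) (hC : ∃ f : ↥(DataG F n) → (Fin n → F), Function.Injective f) :
    Nat.card (ConjClasses (Matrix.GeneralLinearGroup (Fin n) F)) ≤ Fintype.card F ^ n := by
  classical
  have hex : ∀ A : Matrix.GeneralLinearGroup (Fin n) F, ∃ L : List F[X],
      HasType L (Fin n → F) (Matrix.toLin' (A : Matrix (Fin n) (Fin n) F)) ∧
      L.IsChain (fun a b => b ∣ a) ∧ Good L ∧ (L.map natDegree).sum = n := by
    intro A
    exact exists_type hU1 hU2 n _ (toLin'_injective_of_GL A) (by simp)
  choose Lf hLt hLc hLg hLs using hex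
  obtain ⟨f, hf⟩ := hC
  let Φ : ConjClasses (Matrix.GeneralLinearGroup (Fin n) F) → (Fin n → F) := fun c =>
    f ⟨toG (Lf (Quotient.out c)), toG_mem_dataG n _ (hLc _) (hLg _) (hLs _)⟩
  have hΦ : Function.Injective Φ := by
    intro c c' h
    have h1 := hf h
    have h2 : toG (Lf (Quotient.out c)) = toG (Lf (Quotient.out c')) := congrArg Subtype.val h1
    have h3 := toG_injective _ _ (hLc _) (hLg _) (hLc _) (hLg _) h2
    have h4 := hLt (Quotient.out c)
    have h5 := hLt (Quotient.out c')
    rw [h3] at h4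
    obtain ⟨e, he⟩ := conj_of_type _ _ _ h4 h5
    have h6 := isConj_of_intertwine _ _ e he
    have h7 : ConjClasses.mk (Quotient.out c) = ConjClasses.mk (Quotient.out c') :=
      ConjClasses.mk_eq_mk_iff_isConj.2 h6
    have h8 : ∀ d : ConjClasses (Matrix.GeneralLinearGroup (Fin n) F), ConjClasses.mk (Quotient.out d) = d :=
      fun d => Quotient.out_eq d
    rw [h8, h8] at h7
    exact h7
  calc Nat.card (ConjClasses (Matrix.GeneralLinearGroup (Fin n) F))
      ≤ Nat.card (Fin n → F) := Nat.card_le_card_of_injective Φ hΦ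
    _ = Fintype.card F ^ n := by
      rw [Nat.card_eq_fintype_card, Fintype.card_fun, Fintype.card_fin]

end Cfsg.Agent.Helper88.GLClass
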