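import Mathlib

/-!
Definitions for S2478 (number of conjugacy classes of `GL_n(q)`): cyclic decompositions of an
endomorphism, and the combinatorial data used to count them.
-/

set_option autoImplicit false

namespace Cfsg.Agent.Helper88.GLClass

open Polynomial

universe u

variable {F : Type*} [Field F]

/-- `g ↦ g(T) v`, as an `F`-linear map `F[X] → V`. Its range is the `T`-cyclic subspace of `v`. -/
noncomputable def cycMap {V : Type*} [AddCommGroup V] [Module F V] (T : Module.End F V) (v : V) :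
    F[X] →ₗ[F] V :=
  (LinearMap.applyₗ v).comp (aeval T).toLinearMap

@[simp] theorem cycMap_apply {V : Type*} [AddCommGroup V] [Module F V] (T : Module.End F V) (v : V)
    (g : F[X]) : cycMap T v g = aeval T g v := rfl

/-- `(V, T)` has cyclic type `[E₁, E₂, …]`: `V = Z(v₁) ⊕ W₁`, `ann(v₁) = (E₁)`, `W₁` is `T`-invariant and
`(W₁, T|W₁)` has type `[E₂, …]`. -/
def HasType : List F[X] → ∀ (V : Type u) [AddCommGroup V] [Module F V], Module.End F V → Prop
  | [], V, _, _, _ => Subsingleton V
  | (E :: L), V, _, _, T =>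
      ∃ (v : V) (W : Submodule F V) (hW : ∀ w ∈ W, T w ∈ W),
        (∀ g : F[X], aeval T g v = 0 ↔ E ∣ g) ∧ IsCompl (LinearMap.range (cycMap T v)) W ∧
          HasType L W (T.restrict hW)

/-- Weight of a list `[g₁, …, g_r]`: `∑ (r - k + 1) deg g_k`. -/
def wt : List F[X] → ℕ
  | [] => 0
  | g :: rest => (rest.length + 1) * g.natDegree + wt rest

/-- The counting data in degree `n`: lists `[g₁, …, g_r]` of monic polynomials with nonzero constant
term, `g₁ ≠ 1`, of weight `n`. (The invariant factors are `g₁ ∣ g₁g₂ ∣ … ∣ g₁⋯g_r`.) -/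
def DataG (F : Type*) [Field F] (n : ℕ) : Set (List F[X]) :=
  {gs | (∀ g ∈ gs, g.Monic ∧ g.coeff 0 ≠ 0) ∧ gs.head? ≠ some 1 ∧ wt gs = n}

end Cfsg.Agent.Helper88.GLClass
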