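import Mathlib
import Cfsg.Agent.Lib.Helper91.NormTabs

set_option autoImplicit false

namespace Cfsg.Agent.Helper88.TabNorm
open Cfsg Cfsg.Agent.Helper7 Cfsg.Agent.Helper91
open scoped Pointwise

/-! ### Normalisers of groups given by lists of tables, inside a subgroup `H` of the symmetric
group on the 24 points (generalising the `M24` version of `Helper91.NormTabs`) -/

section
variable {H : Subgroup (Equiv.Perm GolayPt)} {L : List (List ℕ)} (hgood : GoodTabs H L)
  (hone : idTab ∈ L) (hmul : ∀ l1 ∈ L, ∀ l2 ∈ L, mulTab l1 l2 ∈ L)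

/-- Every element of the normaliser (in `H`) of the group of the list that fixes the listed
points lies in the group. -/
def NClaimH (F : List ℕ) : Prop :=
  ∀ g : ↥H, g ∈ Subgroup.normalizer ((tabSubgroup H L hgood hone hmul : Subgroup ↥H) : Set ↥H) →
    (∀ a ∈ F, (g : Equiv.Perm GolayPt) (pt a) = pt a) → g ∈ tabSubgroup H L hgood hone hmul

/-- The orbit of `q` under the stabiliser of `A` is the only one of its size, on the same side
of the invariant mask `m`, away from the points of `F`, as far as the stabiliser of `F` can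
tell. -/
def stepOKm (L : List (List ℕ)) (m : ℕ) (A F : List ℕ) (q : ℕ) : Bool :=
  (List.range 24).all fun c => F.contains c || !(tb m c == tb m q) ||
    !(Nat.beq (popcF (orbMask (L.filter (fixesTab A)) c)) (popcF (orbMask (L.filter (fixesTab A)) q))) ||
    tb (orbMask (L.filter (fixesTab F)) q) c

theorem norm_filterH {A : List ℕ} (hA : ∀ a ∈ A, a < 24) {g : ↥H}
    (hg : g ∈ Subgroup.normalizer ((tabSubgroup H L hgood hone hmul : Subgroup ↥H) : Set ↥H))
    (hfix : ∀ a ∈ A, (g : Equiv.Perm GolayPt) (pt a) = pt a) (σ : Equiv.Perm GolayPt)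
    (hσ : ∃ l ∈ L.filter (fixesTab A), Tab σ l) :
    ∃ l ∈ L.filter (fixesTab A), Tab ((g : Equiv.Perm GolayPt) * σ * (g : Equiv.Perm GolayPt)⁻¹) l := by
  obtain ⟨l, hl, ht⟩ := hσ
  rw [List.mem_filter, fixesTab_iff] at hl
  obtain ⟨σ', hσ', ht', _⟩ := hgood l hl.1
  have e : σ = σ' := tab_unique ht ht'
  have hσM : σ ∈ H := e ▸ hσ'
  have hx : (⟨σ, hσM⟩ : ↥H) ∈ tabSubgroup H L hgood hone hmul := ⟨l, hl.1, ht⟩
  have hc := (Subgroup.mem_set_normalizer_iff.mp hg ⟨σ, hσM⟩).mp hx
  obtain ⟨l', hl', ht''⟩ := hc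
  refine ⟨l', ?_, ht''⟩
  rw [List.mem_filter, fixesTab_iff]
  refine ⟨hl', fun a ha => ?_⟩
  apply getD_of_fix ht'' (hA a ha)
  have h1 : (g : Equiv.Perm GolayPt)⁻¹ (pt a) = pt a := by
    rw [Equiv.Perm.inv_eq_iff_eq, hfix a ha]
  show (g : Equiv.Perm GolayPt) (σ ((g : Equiv.Perm GolayPt)⁻¹ (pt a))) = pt a
  rw [h1, fix_of_tab ht (hA a ha) (hl.2 a ha), hfix a ha]

theorem nclaim_stepH {m : ℕ}
    (hm : ∀ g : ↥H, ∀ q < 24, tb m (idx ((g : Equiv.Perm GolayPt) (pt q))) = tb m q)
    {A F : List ℕ} {q : ℕ} (hA : ∀ a ∈ A, a ∈ F) (hF : ∀ a ∈ F, a < 24)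
    (hq : q < 24) (hok : stepOKm L m A F q = true) (next : NClaimH hgood hone hmul (q :: F)) :
    NClaimH hgood hone hmul F := by
  intro g hg hfix
  have hA' : ∀ a ∈ A, a < 24 := fun a ha => hF a (hA a ha)
  have hfixA : ∀ a ∈ A, (g : Equiv.Perm GolayPt) (pt a) = pt a := fun a ha => hfix a (hA a ha)
  have hgoodA : GoodTabs H (L.filter (fixesTab A)) :=
    fun l hl => hgood l (List.mem_filter.mp hl).1
  set c := idx ((g : Equiv.Perm GolayPt) (pt q)) with hc
  have hc24 : c < 24 := idx_lt _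
  have hgq : (g : Equiv.Perm GolayPt) (pt q) = pt c := (pt_idx _).symm
  by_cases hcF : c ∈ F
  · have : (g : Equiv.Perm GolayPt) (pt q) = (g : Equiv.Perm GolayPt) (pt c) := by
      rw [hgq, hfix c hcF]
    have e := (g : Equiv.Perm GolayPt).injective this
    apply next g hg
    intro a ha
    rcases List.mem_cons.mp ha with rfl | ha
    · rw [hgq, e]
    · exact hfix a ha
  · have hginv : g⁻¹ ∈ Subgroup.normalizer
        ((tabSubgroup H L hgood hone hmul : Subgroup ↥H) : Set ↥H) := Subgroup.inv_mem _ hg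
    have hfixinv : ∀ a ∈ A, ((g⁻¹ : ↥H) : Equiv.Perm GolayPt) (pt a) = pt a := by
      intro a ha
      show (g : Equiv.Perm GolayPt)⁻¹ (pt a) = pt a
      rw [Equiv.Perm.inv_eq_iff_eq, hfixA a ha]
    have le1 := orbit_card_le hgoodA (norm_filterH hgood hone hmul hA' hg hfixA) hq
    have le2 := orbit_card_le hgoodA (norm_filterH hgood hone hmul hA' hginv hfixinv) hc24
    have hback : idx (((g⁻¹ : ↥H) : Equiv.Perm GolayPt) (pt c)) = q := by
      show idx ((g : Equiv.Perm GolayPt)⁻¹ (pt c)) = q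
      rw [← hgq, show (g : Equiv.Perm GolayPt)⁻¹ ((g : Equiv.Perm GolayPt) (pt q)) = pt q from by simp,
        idx_pt q hq]
    rw [hback] at le2
    rw [← hc] at le1
    have hsz : popcF (orbMask (L.filter (fixesTab A)) c) =
        popcF (orbMask (L.filter (fixesTab A)) q) := le_antisymm le2 le1
    have hmc : tb m c = tb m q := hm g q hq
    have hokc := List.all_eq_true.mp hok c (List.mem_range.mpr hc24)
    simp only [Bool.or_eq_true, Bool.not_eq_true', List.contains_iff_mem] at hokc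
    have htb : tb (orbMask (L.filter (fixesTab F)) q) c = true := by
      rcases hokc with ((h1 | h2) | h3) | h4
      · exact absurd h1 hcF
      · rw [hmc] at h2
        simp at h2
      · rw [hsz] at h3
        have : Nat.beq (popcF (orbMask (L.filter (fixesTab A)) q))
            (popcF (orbMask (L.filter (fixesTab A)) q)) = true := Nat.beq_eq ▸ rfl
        rw [this] at h3
        exact absurd h3 (by decide)
      · exact h4
    rw [tb_eq, testBit_orbMask] at htb
    obtain ⟨l, hl, e⟩ := htb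
    rw [List.mem_filter, fixesTab_iff] at hl
    obtain ⟨σ, hσ, ht, _⟩ := hgood l hl.1
    have hs : (⟨σ, hσ⟩ : ↥H) ∈ tabSubgroup H L hgood hone hmul := ⟨l, hl.1, ht⟩
    have hsN := Subgroup.le_normalizer hs
    have hg' : (⟨σ, hσ⟩ : ↥H)⁻¹ * g ∈ Subgroup.normalizer
        ((tabSubgroup H L hgood hone hmul : Subgroup ↥H) : Set ↥H) :=
      Subgroup.mul_mem _ (Subgroup.inv_mem _ hsN) hg
    have hmem := next _ hg' (by
      intro a ha
      show σ⁻¹ ((g : Equiv.Perm GolayPt) (pt a)) = pt a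
      rw [Equiv.Perm.inv_eq_iff_eq]
      rcases List.mem_cons.mp ha with rfl | ha
      · rw [hgq, ht.apply a hq, e]
      · rw [hfix a ha, fix_of_tab ht (hF a ha) (hl.2 a ha)])
    have := Subgroup.mul_mem _ hs hmem
    rwa [mul_inv_cancel_left] at this

/-- A chain of steps: each entry is `(A, q)`; the fixed set grows by `q`. -/
def chainOK (L : List (List ℕ)) (m : ℕ) : List ℕ → List (List ℕ × ℕ) → Bool
  | _, [] => true
  | F, (A, q) :: rest => A.all (fun a => F.contains a) && F.all (fun a => Nat.blt a 24) &&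
      Nat.blt q 24 && stepOKm L m A F q && chainOK L m (q :: F) rest

/-- The fixed set at the end of a chain. -/
def chainEnd : List ℕ → List (List ℕ × ℕ) → List ℕ
  | F, [] => F
  | F, (_, q) :: rest => chainEnd (q :: F) rest

theorem nclaim_chain {m : ℕ}
    (hm : ∀ g : ↥H, ∀ q < 24, tb m (idx ((g : Equiv.Perm GolayPt) (pt q))) = tb m q)
    (steps : List (List ℕ × ℕ)) (F : List ℕ) (hok : chainOK L m F steps = true)
    (hend : NClaimH hgood hone hmul (chainEnd F steps)) : NClaimH hgood hone hmul F := by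
  induction steps generalizing F with
  | nil => exact hend
  | cons s rest ih =>
    obtain ⟨A, q⟩ := s
    rw [chainOK] at hok
    simp only [Bool.and_eq_true, List.all_eq_true, List.contains_iff_mem, Nat.blt_eq] at hok
    obtain ⟨⟨⟨⟨h1, h2⟩, h3⟩, h4⟩, h5⟩ := hok
    exact nclaim_stepH hgood hone hmul hm h1 h2 h3 h4 (ih (q :: F) h5 hend)

end

end Cfsg.Agent.Helper88.TabNorm
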