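import Mathlib
import Cfsg.Agent.S5339
import Cfsg.Agent.Lib.Helper84.GrpFus
import Cfsg.Agent.Lib.Helper88.GL23Fusion
import Cfsg.Agent.Lib.Helper88.TabNorm

set_option autoImplicit false

namespace Cfsg.Agent.Helper88.TabFusion
open Cfsg Cfsg.Agent.Helper7 Cfsg.Agent.Helper91 Cfsg.Agent.Helper88.GL23Fusion
  Cfsg.Agent.Helper88.TabNorm
open scoped Pointwise

/-! ### Simplicity of the 2-fusion system of a permutation group on the 24 points from a
certificate in terms of tables -/

/-- the product of a list of tables -/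
def prodTab : List (List ℕ) → List ℕ
  | [] => idTab
  | w :: ws => mulTab w (prodTab ws)

theorem prodTab_good {H : Subgroup (Equiv.Perm GolayPt)} (ws : List (List ℕ))
    (h : ∀ w ∈ ws, ∃ σ ∈ H, Tab σ w ∧ w.length = 24) :
    ∃ σ ∈ H, Tab σ (prodTab ws) ∧ (prodTab ws).length = 24 := by
  induction ws with
  | nil => exact ⟨1, H.one_mem, tab_one, rfl⟩
  | cons w ws ih =>
    obtain ⟨σ, hσ, t, len⟩ := h w (List.mem_cons_self ..)
    obtain ⟨τ, hτ, t', len'⟩ := ih (fun w' hw' => h w' (List.mem_cons_of_mem _ hw'))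
    exact ⟨σ * τ, H.mul_mem hσ hτ, t.mul t' len', by rw [prodTab, mulTab_length, len']⟩

/-- `w` lies in the list `L` and is conjugate to `r` through a table of `Dl` -/
def initOK (L Dl : List (List ℕ)) (r w : List ℕ) : Bool :=
  elemTab w L && Dl.any (fun d => tabBeq (mulTab d w) (mulTab r d))

/-- a derivation step `(ws, d, y)`: the table `y` of `L` is the conjugate by `d` of the product
of the known tables `ws` -/
abbrev Step := List (List ℕ) × List ℕ × List ℕ

/-- the known tables after the derivation steps (latest first) -/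
def knownOK (L Dl : List (List ℕ)) (r : List ℕ) (steps : List Step) (w : List ℕ) : Bool :=
  initOK L Dl r w || elemTab w (steps.map fun s => s.2.2)

/-- the derivation steps (latest first) are valid -/
def derivOK (L Dl : List (List ℕ)) (r : List ℕ) : List Step → Bool
  | [] => true
  | s :: rest => derivOK L Dl r rest && s.1.all (knownOK L Dl r rest) &&
      elemTab s.2.2 L && elemTab s.2.1 Dl && tabBeq (mulTab s.2.1 (prodTab s.1)) (mulTab s.2.2 s.2.1)

/-- each generator is the product of the given known tables -/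
def wordsOK (known : List ℕ → Bool) : List (List ℕ) → List (List (List ℕ)) → Bool
  | [], [] => true
  | g :: gs, ws :: wss => ws.all known && tabBeq (prodTab ws) g && wordsOK known gs wss
  | _, _ => false

/-- the certificate of a class of involutions: a representative, derivation steps, and words
for the generators -/
abbrev ClassCert := List ℕ × List Step × List (List (List ℕ))

/-- the certificate of a class is valid -/
def classOK (L Dl gens : List (List ℕ)) (c : ClassCert) : Bool :=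
  elemTab c.1 L && derivOK L Dl c.1 c.2.1 && wordsOK (knownOK L Dl c.1 c.2.1) gens c.2.2

/-- every involution is conjugate to one of the representatives -/
def involOK (Dl : List (List ℕ)) (cert : List ClassCert) (v : List ℕ) : Bool :=
  !(tabBeq (mulTab v v) idTab) || tabBeq v idTab ||
    cert.any (fun c => Dl.any (fun d => tabBeq (mulTab d v) (mulTab c.1 d)))

/-- the whole certificate is valid -/
def fullOK (gens Dl : List (List ℕ)) (cert : List ClassCert) : Bool :=
  cert.all (classOK (spanTabs gens) Dl gens) && (spanTabs gens).all (involOK Dl cert)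

theorem wordsOK_good {Hsub : Subgroup (Equiv.Perm GolayPt)} (known : List ℕ → Bool)
    (hk : ∀ w, known w = true → ∃ σ ∈ Hsub, Tab σ w ∧ w.length = 24) :
    ∀ (gs : List (List ℕ)) (wss : List (List (List ℕ))), wordsOK known gs wss = true →
      GoodTabs Hsub gs := by
  intro gs
  induction gs with
  | nil =>
    intro _ _ l hl
    exact absurd hl List.not_mem_nil
  | cons g gs ih =>
    intro wss hc
    cases wss with
    | nil => simp [wordsOK] at hc
    | cons ws wss =>
      rw [wordsOK, Bool.and_eq_true, Bool.and_eq_true, List.all_eq_true, tabBeq_iff] at hc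
      obtain ⟨⟨h1, h2⟩, h3⟩ := hc
      intro l hl
      rw [List.mem_cons] at hl
      rcases hl with rfl | hl
      · rw [← h2]
        exact prodTab_good ws (fun w hw => hk w (h1 w hw))
      · exact ih wss h3 l hl

theorem known_good {H Hsub : Subgroup (Equiv.Perm GolayPt)} {L Dl : List (List ℕ)}
    (hL : GoodTabs H L) (hDl : GoodTabs H Dl)
    (hclos : ∀ σ ∈ Hsub, ∀ δ ∈ H, ∀ y ∈ L, ∀ τ : Equiv.Perm GolayPt, Tab τ y →
      δ * σ = τ * δ → τ ∈ Hsub)
    (r : List ℕ)
    (hinit : ∀ w, initOK L Dl r w = true → ∃ σ ∈ Hsub, Tab σ w ∧ w.length = 24) :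
    ∀ steps : List Step, derivOK L Dl r steps = true →
      ∀ w, knownOK L Dl r steps w = true → ∃ σ ∈ Hsub, Tab σ w ∧ w.length = 24 := by
  intro steps
  induction steps with
  | nil =>
    intro _ w hw
    rw [knownOK, List.map_nil, Bool.or_eq_true] at hw
    rcases hw with hw | hw
    · exact hinit w hw
    · simp [elemTab] at hw
  | cons s rest ih =>
    intro hd w hw
    rw [derivOK] at hd
    simp only [Bool.and_eq_true, List.all_eq_true, elemTab_iff, tabBeq_iff] at hd
    obtain ⟨⟨⟨⟨hd1, hd2⟩, hd3⟩, hd4⟩, hd5⟩ := hd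
    have ihr := ih hd1
    rw [knownOK, Bool.or_eq_true, elemTab_iff, List.map_cons, List.mem_cons] at hw
    rcases hw with hw | hw | hw
    · exact hinit w hw
    · subst hw
      obtain ⟨σx, hσx, tx, lenx⟩ := prodTab_good s.1 (fun w' hw' => ihr w' (hd2 w' hw'))
      obtain ⟨τ, _, tτ, lenτ⟩ := hL _ hd3
      obtain ⟨δ, hδ, tδ, lenδ⟩ := hDl _ hd4
      have a1 := tδ.mul tx lenx
      have a2 := tτ.mul tδ lenδ
      rw [hd5] at a1
      exact ⟨τ, hclos σx hσx δ hδ _ hd3 τ tτ (tab_unique a1 a2), tτ, lenτ⟩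
    · apply ihr
      rw [knownOK, Bool.or_eq_true, elemTab_iff]
      exact Or.inr hw

theorem goodTabs_of_classOK {H Hsub : Subgroup (Equiv.Perm GolayPt)} {L Dl gens : List (List ℕ)}
    (hL : GoodTabs H L) (hDl : GoodTabs H Dl)
    (hclos : ∀ σ ∈ Hsub, ∀ δ ∈ H, ∀ y ∈ L, ∀ τ : Equiv.Perm GolayPt, Tab τ y →
      δ * σ = τ * δ → τ ∈ Hsub)
    {v d : List ℕ} {σ0 : Equiv.Perm GolayPt} (hσ0 : σ0 ∈ Hsub) (ht0 : Tab σ0 v)
    (hlenv : v.length = 24) (hd : d ∈ Dl) (c : ClassCert) (he : mulTab d v = mulTab c.1 d)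
    (hc : classOK L Dl gens c = true) : GoodTabs Hsub gens := by
  rw [classOK] at hc
  simp only [Bool.and_eq_true, elemTab_iff] at hc
  obtain ⟨⟨hr, hder⟩, hw⟩ := hc
  obtain ⟨ρ, _, tρ, _⟩ := hL _ hr
  obtain ⟨δ, hδ, tδ, lenδ⟩ := hDl _ hd
  have e0 : δ * σ0 = ρ * δ := by
    have a1 := tδ.mul ht0 hlenv
    have a2 := tρ.mul tδ lenδ
    rw [he] at a1
    exact tab_unique a1 a2
  have hinit : ∀ w, initOK L Dl c.1 w = true → ∃ σ ∈ Hsub, Tab σ w ∧ w.length = 24 := by
    intro w hw
    rw [initOK, Bool.and_eq_true, elemTab_iff, List.any_eq_true] at hw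
    obtain ⟨hwL, d', hd', he'⟩ := hw
    rw [tabBeq_iff] at he'
    obtain ⟨σw, _, tw, lenw⟩ := hL _ hwL
    obtain ⟨δ', hδ', tδ', lenδ'⟩ := hDl _ hd'
    have e1 : δ' * σw = ρ * δ' := by
      have a1 := tδ'.mul tw lenw
      have a2 := tρ.mul tδ' lenδ'
      rw [he'] at a1
      exact tab_unique a1 a2
    refine ⟨σw, hclos σ0 hσ0 (δ'⁻¹ * δ) (H.mul_mem (H.inv_mem hδ') hδ) w hwL σw tw ?_, tw, lenw⟩
    calc δ'⁻¹ * δ * σ0 = δ'⁻¹ * (δ * σ0) := by group
      _ = δ'⁻¹ * (ρ * δ) := by rw [e0]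
      _ = δ'⁻¹ * (ρ * δ') * (δ'⁻¹ * δ) := by group
      _ = δ'⁻¹ * (δ' * σw) * (δ'⁻¹ * δ) := by rw [e1]
      _ = σw * (δ'⁻¹ * δ) := by group
  exact wordsOK_good _ (known_good hL hDl hclos c.1 hinit c.2.1 hder) gens c.2.2 hw

/-- The main criterion. -/
theorem simple_of_cert {H : Subgroup (Equiv.Perm GolayPt)} (gens Dl : List (List ℕ))
    (cert : List ClassCert) (hgens : GoodTabs H gens) (hpc : pcOK gens = true)
    (hcard : ¬ 2 ^ (gens.length + 1) ∣ Nat.card ↥H) (h2 : 2 ∣ Nat.card ↥H)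
    (hDl : GoodTabs H Dl) (hcert : fullOK gens Dl cert = true)
    (hgoodL : GoodTabs H (spanTabs gens)) (honeL : idTab ∈ spanTabs gens)
    (hmulL : ∀ l1 ∈ spanTabs gens, ∀ l2 ∈ spanTabs gens, mulTab l1 l2 ∈ spanTabs gens)
    (hN : NClaimH hgoodL honeL hmulL [])
    (S : Sylow 2 ↥H) : (groupFusionSystem (S : Subgroup ↥H)).IsSimple 2 := by
  have : Fact (Nat.Prime 2) := ⟨Nat.prime_two⟩
  obtain ⟨-, hnd⟩ := spanTabs_of_pcOK hgens hpc
  set P : Subgroup ↥H := tabSubgroup H (spanTabs gens) hgoodL honeL hmulL with hPdef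
  have card_P : Nat.card ↥P = 2 ^ gens.length := by
    rw [card_tabSubgroup hgoodL honeL hmulL hnd, length_spanTabs]
  have hP : IsPGroup 2 ↥P := IsPGroup.of_card card_P
  obtain ⟨Q, hPQ⟩ := hP.exists_le_sylow
  have hfac : (Nat.card ↥H).factorization 2 ≤ gens.length := by
    by_contra hlt
    push Not at hlt
    exact hcard ((pow_dvd_pow 2 hlt).trans (Nat.ordProj_dvd _ 2))
  have hQ : P = (Q : Subgroup ↥H) :=
    Subgroup.eq_of_le_of_card_ge hPQ (by
      rw [Q.card_eq_multiplicity, card_P]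
      exact Nat.pow_le_pow_right (by norm_num) hfac)
  obtain ⟨c, hc⟩ := MulAction.exists_smul_eq ↥H Q S
  have hSmem : ∀ x : ↥H, x ∈ (S : Subgroup ↥H) ↔ c⁻¹ * x * c ∈ P := by
    intro x
    rw [← hc, Sylow.coe_subgroup_smul, Subgroup.mem_pointwise_smul_iff_inv_smul_mem, hQ]
    simp [MulAut.smul_def]
  have hNP : ∀ g : ↥H, (∀ x ∈ P, g * x * g⁻¹ ∈ P) → g ∈ P := by
    intro g hg
    apply hN g _ (by simp)
    rw [Subgroup.mem_normalizer_iff]
    intro h
    constructor
    · exact hg h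
    · intro hh
      have := mem_normalizer_of_conj_mem P g hg _ hh
      have e : g⁻¹ * (g * h * g⁻¹) * g = h := by group
      rwa [e] at this
  have hNS : ∀ g : ↥H, (∀ x ∈ (S : Subgroup ↥H), g * x * g⁻¹ ∈ (S : Subgroup ↥H)) →
      g ∈ (S : Subgroup ↥H) := by
    intro g hg
    rw [hSmem]
    apply hNP
    intro x hx
    have h1 : c * x * c⁻¹ ∈ (S : Subgroup ↥H) := by
      rw [hSmem]
      have e : c⁻¹ * (c * x * c⁻¹) * c = x := by group
      rw [e]; exact hx
    have h2 := (hSmem _).1 (hg _ h1)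
    have e : c⁻¹ * (g * (c * x * c⁻¹) * g⁻¹) * c = c⁻¹ * g * c * x * (c⁻¹ * g * c)⁻¹ := by group
    rwa [e] at h2
  apply Cfsg.Agent.S5339.result 2 S.isPGroup' _ (Cfsg.Agent.Helper84.gfs_saturated S)
  · exact Sylow.ne_bot_of_dvd_card S h2
  · apply le_antisymm
    · unfold FusionSystem.autGroup
      rw [Subgroup.closure_le]
      rintro α ⟨-, -, g, hg⟩
      have hgS : g ∈ (S : Subgroup ↥H) := by
        apply hNS
        intro x hx
        have := hg ⟨x, hx⟩
        rw [← this]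
        exact (α ⟨x, hx⟩).2
      refine ⟨⟨g, hgS⟩, ?_⟩
      refine MulEquiv.ext fun x => Subtype.ext ?_
      exact (hg x).symm
    · rintro _ ⟨s, rfl⟩
      apply Subgroup.subset_closure
      exact ⟨le_rfl, fun x => (MulAut.conj s x).2, (s : ↥H), fun x => rfl⟩
  · intro T hT
    by_cases hb : T = ⊥
    · left; exact hb
    · right
      have hclosed : ∀ {x : ↥H}, x ∈ T → ∀ g : ↥H, g * x * g⁻¹ ∈ (S : Subgroup ↥H) →
          g * x * g⁻¹ ∈ T :=
        fun {x} hx g hg => conj_mem_of_stronglyClosed S hT (x := x) hx g hg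
      have hTS : T ≤ (S : Subgroup ↥H) := hT.1
      obtain ⟨x, hxT, hx1⟩ : ∃ x ∈ T, x ≠ 1 := by
        by_contra h
        push Not at h
        exact hb ((Subgroup.eq_bot_iff_forall T).2 h)
      have hx2 : ∃ k : ℕ, orderOf x = 2 ^ k := by
        obtain ⟨k, hk⟩ := (IsPGroup.iff_orderOf.1 S.isPGroup') ⟨x, hTS hxT⟩
        exact ⟨k, by rw [← hk]; exact (Subgroup.orderOf_mk x _).symm⟩
      obtain ⟨m, hm⟩ := exists_pow_order_two hx1 hx2
      have ht0T : x ^ m ∈ T := T.pow_mem hxT m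
      set t0 : ↥H := x ^ m with ht0
      have ht0sq : t0 * t0 = 1 := mul_self_of_orderOf hm
      have ht0ne : t0 ≠ 1 := ne_one_of_orderOf hm
      have hv0P : c⁻¹ * t0 * c ∈ P := (hSmem t0).1 (hTS ht0T)
      have hv0sq : (c⁻¹ * t0 * c) * (c⁻¹ * t0 * c) = 1 := by
        calc (c⁻¹ * t0 * c) * (c⁻¹ * t0 * c) = c⁻¹ * (t0 * t0) * c := by group
          _ = 1 := by rw [ht0sq]; group
      have hv0ne : c⁻¹ * t0 * c ≠ 1 := by
        intro h
        apply ht0ne
        calc t0 = c * (c⁻¹ * t0 * c) * c⁻¹ := by group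
          _ = 1 := by rw [h]; group
      obtain ⟨v, hvL, tv⟩ := (mem_tabSubgroup hgoodL honeL hmulL _).1 hv0P
      obtain ⟨_, _, _, lenv⟩ := hgoodL v hvL
      have hvv : mulTab v v = idTab := by
        have t2 := tv.mul tv lenv
        have e : ((c⁻¹ * t0 * c : ↥H) : Equiv.Perm GolayPt) *
            ((c⁻¹ * t0 * c : ↥H) : Equiv.Perm GolayPt) = 1 := by
          have := congrArg Subtype.val hv0sq
          simpa using this
        rw [e] at t2
        exact tab_list_unique t2 tab_one (by rw [mulTab_length, lenv]) rfl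
      have hvne : v ≠ idTab := by
        intro e
        rw [e] at tv
        have : ((c⁻¹ * t0 * c : ↥H) : Equiv.Perm GolayPt) = 1 := tab_unique tv tab_one
        exact hv0ne (Subtype.ext this)
      rw [fullOK, Bool.and_eq_true, List.all_eq_true, List.all_eq_true] at hcert
      obtain ⟨hcl, hinv⟩ := hcert
      have h1 := hinv v hvL
      rw [involOK] at h1
      simp only [Bool.or_eq_true, Bool.not_eq_true', List.any_eq_true, tabBeq_iff] at h1
      rcases h1 with (h1 | h1) | ⟨cc, hcc, d, hd, he⟩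
      · rw [(tabBeq_iff _ _).2 hvv] at h1
        exact absurd h1 (by decide)
      · exact absurd h1 hvne
      · let T' : Subgroup ↥H := T.comap (MulAut.conj c).toMonoidHom
        have hT' : ∀ y : ↥H, y ∈ T' ↔ c * y * c⁻¹ ∈ T := fun y => Iff.rfl
        let Hsub : Subgroup (Equiv.Perm GolayPt) := T'.map H.subtype
        have hclos : ∀ σ ∈ Hsub, ∀ δ ∈ H, ∀ y ∈ spanTabs gens, ∀ τ : Equiv.Perm GolayPt,
            Tab τ y → δ * σ = τ * δ → τ ∈ Hsub := by
          rintro _ ⟨x, hx, rfl⟩ δ hδ y hy τ tτ e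
          obtain ⟨τ', hτ', tτ', _⟩ := hgoodL y hy
          have eτ : τ' = τ := tab_unique tτ' tτ
          subst eτ
          have hτP : (⟨τ', hτ'⟩ : ↥H) ∈ P := ⟨y, hy, tτ⟩
          have e' : (⟨τ', hτ'⟩ : ↥H) = ⟨δ, hδ⟩ * x * (⟨δ, hδ⟩ : ↥H)⁻¹ := by
            apply Subtype.ext
            show τ' = δ * (x : Equiv.Perm GolayPt) * δ⁻¹
            have e'' : δ * (x : Equiv.Perm GolayPt) = τ' * δ := e
            rw [e'']; group
          refine ⟨⟨τ', hτ'⟩, ?_, rfl⟩
          rw [SetLike.mem_coe, hT']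
          have e2 : c * (⟨τ', hτ'⟩ : ↥H) * c⁻¹ =
              (c * ⟨δ, hδ⟩ * c⁻¹) * (c * x * c⁻¹) * (c * ⟨δ, hδ⟩ * c⁻¹)⁻¹ := by
            rw [e']; group
          have hx' : c * x * c⁻¹ ∈ T := (hT' x).1 hx
          rw [e2]
          apply hclosed hx'
          rw [← e2, hSmem]
          have e3 : c⁻¹ * (c * (⟨τ', hτ'⟩ : ↥H) * c⁻¹) * c = ⟨τ', hτ'⟩ := by group
          rw [e3]; exact hτP
        have hσ0 : ((c⁻¹ * t0 * c : ↥H) : Equiv.Perm GolayPt) ∈ Hsub := by
          refine ⟨c⁻¹ * t0 * c, ?_, rfl⟩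
          rw [SetLike.mem_coe, hT']
          have e : c * (c⁻¹ * t0 * c) * c⁻¹ = t0 := by group
          rw [e]; exact ht0T
        have hgoodH : GoodTabs Hsub gens :=
          goodTabs_of_classOK hgoodL hDl hclos hσ0 tv lenv hd cc he (hcl cc hcc)
        have hgoodH' := goodTabs_spanTabs hgoodH
        have hPT : ∀ y ∈ P, c * y * c⁻¹ ∈ T := by
          intro y hy
          obtain ⟨l, hl, tl⟩ := (mem_tabSubgroup hgoodL honeL hmulL _).1 hy
          obtain ⟨σ, hσH, tσ, -⟩ := hgoodH' l hl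
          have e : σ = (y : Equiv.Perm GolayPt) := tab_unique tσ tl
          obtain ⟨z, hz, hzσ⟩ := hσH
          have hzy : z = y := Subtype.ext (hzσ.trans e)
          rw [← hzy]; exact hz
        apply le_antisymm hTS
        intro s hs
        have h1 := hPT _ ((hSmem s).1 hs)
        have e : c * (c⁻¹ * s * c) * c⁻¹ = s := by group
        rwa [e] at h1

end Cfsg.Agent.Helper88.TabFusion
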