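import Mathlib
import Cfsg.Agent.Lib.Helper88.TabFusion
import Cfsg.Agent.Lib.Helper91.M11Sylow
import Cfsg.Agent.Lib.Helper27.M12Faithful
import Cfsg.Prelude.Def_Spor_Mathieu

set_option autoImplicit false

namespace Cfsg.Agent.Helper88.M12Data
open Cfsg Cfsg.Agent.Helper7 Cfsg.Agent.Helper91 Cfsg.Agent.Helper88.TabNorm
  Cfsg.Agent.Helper88.TabFusion
open scoped Pointwise

/-! ### Certificates for the Sylow 2-subgroup of `M12` -/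

/-- polycyclic generators of a Sylow 2-subgroup of `M12` -/
def gens12 : List (List ℕ) :=
  [[3, 2, 1, 0, 9, 17, 12, 11, 13, 4, 22, 7, 6, 8, 23, 21, 18, 5, 16, 20, 19, 15, 10, 14],
    [0, 1, 3, 2, 9, 14, 12, 22, 8, 4, 11, 10, 6, 18, 5, 19, 16, 17, 13, 15, 20, 21, 7, 23],
    [1, 0, 3, 2, 6, 5, 12, 22, 18, 4, 11, 7, 9, 8, 14, 20, 13, 17, 16, 21, 19, 15, 10, 23],
    [0, 1, 2, 3, 8, 17, 18, 15, 12, 13, 19, 21, 16, 6, 23, 10, 4, 5, 9, 7, 11, 22, 20, 14],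
    [0, 1, 2, 3, 9, 14, 4, 11, 18, 12, 22, 10, 6, 8, 5, 20, 13, 23, 16, 21, 19, 15, 7, 17],
    [0, 1, 2, 3, 12, 5, 9, 10, 16, 6, 7, 22, 4, 18, 14, 19, 8, 17, 13, 15, 21, 20, 11, 23]]

/-- conjugating elements of `M12` -/
def conj12 : List (List ℕ) :=
  [[0, 1, 2, 3, 4, 5, 6, 7, 8, 9, 10, 11, 12, 13, 14, 15, 16, 17, 18, 19, 20, 21, 22, 23],
    [1, 0, 18, 13, 6, 15, 12, 7, 3, 9, 11, 22, 4, 16, 19, 20, 2, 23, 8, 21, 14, 5, 10, 17],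
    [2, 3, 18, 13, 6, 15, 9, 11, 16, 4, 10, 22, 12, 0, 19, 17, 8, 14, 1, 23, 21, 20, 7, 5],
    [0, 1, 13, 18, 8, 23, 2, 14, 9, 3, 5, 20, 16, 4, 17, 22, 12, 15, 6, 10, 7, 11, 21, 19],
    [0, 2, 4, 12, 3, 14, 8, 7, 9, 16, 10, 5, 1, 6, 23, 20, 13, 15, 18, 11, 21, 22, 17, 19],
    [13, 18, 16, 8, 0, 19, 3, 5, 6, 2, 14, 23, 1, 4, 15, 10, 9, 20, 12, 7, 22, 11, 17, 21],
    [9, 6, 4, 12, 8, 11, 13, 20, 0, 18, 21, 15, 16, 3, 22, 23, 1, 10, 2, 17, 5, 14, 19, 7],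
    [12, 4, 3, 0, 13, 20, 2, 23, 16, 1, 5, 7, 18, 8, 21, 19, 9, 14, 6, 22, 15, 11, 10, 17],
    [9, 6, 0, 2, 3, 20, 13, 11, 12, 18, 22, 23, 1, 16, 21, 19, 8, 5, 4, 10, 7, 15, 14, 17],
    [4, 12, 2, 3, 13, 23, 18, 15, 1, 8, 21, 19, 16, 9, 17, 10, 0, 22, 6, 7, 14, 5, 20, 11],
    [6, 9, 2, 3, 13, 23, 16, 20, 12, 18, 15, 19, 8, 1, 17, 5, 4, 7, 0, 14, 22, 11, 21, 10],
    [8, 6, 9, 16, 12, 22, 0, 20, 2, 3, 21, 17, 4, 13, 19, 5, 1, 15, 18, 23, 10, 7, 14, 11],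
    [4, 9, 6, 12, 2, 10, 18, 5, 8, 13, 14, 19, 3, 0, 11, 20, 16, 22, 1, 21, 17, 23, 15, 7],
    [12, 13, 4, 18, 0, 10, 9, 23, 2, 6, 5, 15, 3, 8, 20, 17, 1, 7, 16, 14, 11, 22, 19, 21],
    [8, 12, 16, 4, 13, 10, 3, 22, 6, 1, 11, 14, 18, 0, 19, 21, 9, 7, 2, 20, 5, 17, 23, 15],
    [3, 2, 1, 0, 9, 17, 12, 11, 13, 4, 22, 7, 6, 8, 23, 21, 18, 5, 16, 20, 19, 15, 10, 14],
    [0, 1, 12, 13, 3, 20, 18, 17, 6, 9, 11, 22, 16, 4, 14, 15, 2, 23, 8, 5, 19, 21, 10, 7],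
    [1, 0, 18, 4, 3, 14, 13, 17, 2, 6, 22, 11, 8, 16, 21, 5, 9, 10, 12, 19, 20, 15, 7, 23],
    [0, 3, 2, 1, 6, 23, 8, 11, 18, 16, 22, 15, 9, 4, 5, 21, 13, 14, 12, 20, 7, 10, 19, 17],
    [8, 3, 2, 9, 4, 5, 18, 21, 12, 1, 23, 14, 0, 6, 19, 7, 16, 17, 13, 11, 20, 15, 10, 22],
    [0, 6, 16, 1, 8, 23, 3, 7, 9, 4, 22, 5, 12, 2, 14, 20, 13, 15, 18, 19, 17, 10, 21, 11],
    [6, 4, 18, 16, 8, 21, 12, 23, 1, 3, 19, 7, 0, 2, 10, 22, 9, 15, 13, 14, 5, 20, 17, 11],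
    [18, 2, 4, 3, 1, 5, 16, 15, 8, 0, 23, 11, 6, 13, 21, 20, 12, 10, 9, 19, 7, 22, 14, 17],
    [6, 13, 16, 12, 8, 11, 9, 5, 18, 2, 19, 22, 3, 4, 7, 23, 1, 20, 0, 21, 10, 14, 17, 15],
    [18, 12, 4, 13, 0, 20, 8, 23, 9, 16, 5, 11, 3, 2, 7, 19, 6, 10, 1, 15, 14, 17, 22, 21],
    [6, 0, 16, 1, 18, 15, 9, 10, 12, 13, 17, 20, 2, 4, 11, 7, 8, 14, 3, 22, 5, 21, 19, 23],
    [1, 3, 0, 2, 13, 14, 6, 20, 8, 9, 21, 22, 18, 12, 23, 19, 16, 5, 4, 15, 10, 7, 11, 17],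
    [1, 0, 16, 8, 12, 21, 4, 7, 18, 9, 22, 10, 6, 3, 20, 5, 13, 23, 2, 14, 15, 19, 11, 17]]

/-- the certificates for the two classes of involutions -/
def cert12 : List ClassCert :=
  [([0, 1, 2, 3, 12, 5, 9, 10, 16, 6, 7, 22, 4, 18, 14, 19, 8, 17, 13, 15, 21, 20, 11, 23],
     [([[0, 1, 3, 2, 9, 14, 12, 22, 8, 4, 11, 10, 6, 18, 5, 19, 16, 17, 13, 15, 20, 21, 7, 23], [0, 1, 3, 2, 12, 5, 6, 7, 18, 9, 10, 22, 4, 16, 14, 21, 13, 23, 8, 20, 19, 15, 11, 17]], [1, 3, 0, 2, 13, 14, 6, 20, 8, 9, 21, 22, 18, 12, 23, 19, 16, 5, 4, 15, 10, 7, 11, 17], [0, 1, 2, 3, 8, 17, 18, 15, 12, 13, 19, 21, 16, 6, 23, 10, 4, 5, 9, 7, 11, 22, 20, 14])],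
     [[[0, 1, 3, 2, 9, 14, 12, 22, 8, 4, 11, 10, 6, 18, 5, 19, 16, 17, 13, 15, 20, 21, 7, 23], [0, 1, 3, 2, 12, 5, 6, 7, 18, 9, 10, 22, 4, 16, 14, 21, 13, 23, 8, 20, 19, 15, 11, 17], [3, 2, 1, 0, 12, 23, 6, 10, 8, 9, 7, 11, 4, 18, 17, 15, 16, 14, 13, 19, 21, 20, 22, 5]],
      [[0, 1, 3, 2, 9, 14, 12, 22, 8, 4, 11, 10, 6, 18, 5, 19, 16, 17, 13, 15, 20, 21, 7, 23]],
      [[0, 1, 3, 2, 9, 14, 12, 22, 8, 4, 11, 10, 6, 18, 5, 19, 16, 17, 13, 15, 20, 21, 7, 23], [1, 0, 2, 3, 12, 14, 6, 7, 13, 9, 10, 22, 4, 8, 5, 20, 18, 17, 16, 21, 15, 19, 11, 23]],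
      [[0, 1, 2, 3, 8, 17, 18, 15, 12, 13, 19, 21, 16, 6, 23, 10, 4, 5, 9, 7, 11, 22, 20, 14]],
      [[0, 1, 3, 2, 9, 14, 12, 22, 8, 4, 11, 10, 6, 18, 5, 19, 16, 17, 13, 15, 20, 21, 7, 23], [0, 1, 3, 2, 4, 5, 9, 10, 13, 6, 7, 11, 12, 8, 14, 20, 18, 23, 16, 21, 15, 19, 22, 17]],
      [[0, 1, 2, 3, 12, 5, 9, 10, 16, 6, 7, 22, 4, 18, 14, 19, 8, 17, 13, 15, 21, 20, 11, 23]]]),
    ([1, 0, 3, 2, 18, 17, 16, 20, 9, 8, 21, 15, 13, 12, 23, 11, 6, 5, 4, 22, 7, 10, 19, 14],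
     [([[1, 0, 3, 2, 18, 17, 16, 20, 9, 8, 21, 15, 13, 12, 23, 11, 6, 5, 4, 22, 7, 10, 19, 14], [1, 0, 3, 2, 13, 17, 8, 21, 6, 16, 20, 19, 18, 4, 23, 22, 9, 5, 12, 11, 10, 7, 15, 14]], [1, 0, 16, 8, 12, 21, 4, 7, 18, 9, 22, 10, 6, 3, 20, 5, 13, 23, 2, 14, 15, 19, 11, 17], [0, 1, 3, 2, 9, 14, 12, 22, 8, 4, 11, 10, 6, 18, 5, 19, 16, 17, 13, 15, 20, 21, 7, 23])],
     [[[3, 2, 1, 0, 9, 17, 12, 11, 13, 4, 22, 7, 6, 8, 23, 21, 18, 5, 16, 20, 19, 15, 10, 14]],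
      [[0, 1, 3, 2, 9, 14, 12, 22, 8, 4, 11, 10, 6, 18, 5, 19, 16, 17, 13, 15, 20, 21, 7, 23]],
      [[3, 2, 1, 0, 8, 14, 13, 15, 4, 18, 19, 20, 16, 6, 5, 7, 12, 23, 9, 10, 11, 22, 21, 17], [2, 3, 0, 1, 13, 14, 16, 21, 9, 8, 20, 15, 18, 4, 5, 11, 6, 23, 12, 22, 10, 7, 19, 17]],
      [[2, 3, 0, 1, 9, 23, 12, 11, 18, 4, 22, 7, 6, 16, 17, 20, 13, 14, 8, 21, 15, 19, 10, 5], [2, 3, 0, 1, 18, 14, 8, 20, 6, 16, 21, 19, 13, 12, 5, 22, 9, 23, 4, 11, 7, 10, 15, 17]],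
      [[1, 0, 3, 2, 18, 17, 16, 20, 9, 8, 21, 15, 13, 12, 23, 11, 6, 5, 4, 22, 7, 10, 19, 14], [1, 0, 3, 2, 8, 23, 18, 15, 4, 13, 19, 21, 16, 9, 17, 7, 12, 14, 6, 10, 22, 11, 20, 5]],
      [[1, 0, 3, 2, 18, 17, 16, 20, 9, 8, 21, 15, 13, 12, 23, 11, 6, 5, 4, 22, 7, 10, 19, 14], [1, 0, 3, 2, 13, 17, 8, 21, 6, 16, 20, 19, 18, 4, 23, 22, 9, 5, 12, 11, 10, 7, 15, 14]]])]

/-- the chain of the normaliser computation in `M12` -/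
def chain12 : List (List ℕ × ℕ) := [([], 4), ([], 0), ([0], 2), ([2], 1), ([], 3)]

theorem gens12_ok : gens12.all m24TabOK = true := by decide +kernel

theorem conj12_ok : conj12.all m24TabOK = true := by decide +kernel

theorem gens12_fix : gens12.all (fun l => Nat.beq (pm l sqMask) sqMask) = true := by decide +kernel

theorem conj12_fix : conj12.all (fun l => Nat.beq (pm l sqMask) sqMask) = true := by decide +kernel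

theorem gens12_pc : pcOK gens12 = true := by decide +kernel

theorem cert12_ok : fullOK gens12 conj12 cert12 = true := by decide +kernel

theorem chain12_ok : chainOK (spanTabs gens12) sqMask [] chain12 = true := by decide +kernel

theorem M12_eq : Spor.M12 = setStab (ofMask sqMask) := by
  rw [← squareDodecad_eq]
  rfl

theorem goodTabs_M12 {tabs : List (List ℕ)} (h1 : tabs.all m24TabOK = true)
    (h2 : tabs.all (fun l => Nat.beq (pm l sqMask) sqMask) = true) : GoodTabs Spor.M12 tabs := by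
  rw [M12_eq]
  apply GoodTabs.setStab (goodTabs_M24_of_ok h1) sqMask
  intro l hl
  have := List.all_eq_true.mp h2 l hl
  rwa [Nat.beq_eq] at this

theorem card_M12 : Nat.card ↥Spor.M12 = 95040 := by
  rw [M12_eq, ← squareDodecad_eq]
  exact card_setStab_dodecad squareDodecad_mem

theorem tb_M12 : ∀ g : ↥Spor.M12, ∀ q < 24,
    tb sqMask (idx ((g : Equiv.Perm GolayPt) (pt q))) = tb sqMask q := by
  intro g q _
  have hg : (g : Equiv.Perm GolayPt) ∈ setStab (ofMask sqMask) := by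
    rw [← M12_eq]; exact g.2
  have h := setStab_mem_iff hg (pt q)
  rw [mem_ofMask, mem_ofMask] at h
  rw [tb_eq, tb_eq]
  by_cases h1 : sqMask.testBit (idx (pt q)) = true
  · rw [h.2 h1]
    rw [idx_pt q (by assumption)] at h1
    rw [h1]
  · have h2 : ¬ sqMask.testBit (idx ((g : Equiv.Perm GolayPt) (pt q))) = true := fun h3 => h1 (h.1 h3)
    rw [idx_pt q (by assumption)] at h1
    rw [Bool.not_eq_true] at h1 h2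
    rw [h1, h2]

theorem claim5_M12 {L : List (List ℕ)}
    (hgood : GoodTabs Spor.M12 L) (hone : idTab ∈ L) (hmul : ∀ l1 ∈ L, ∀ l2 ∈ L, mulTab l1 l2 ∈ L)
    (F : List ℕ) (hF : ∀ a ∈ [0, 1, 2, 3, 4], a ∈ F) : NClaimH hgood hone hmul F := by
  intro g _ hfix
  have hg : (g : Equiv.Perm GolayPt) ∈ setStab (ofMask sqMask) := by
    rw [← M12_eq]; exact g.2
  have hd : ofMask sqMask ∈ dodecads := by
    rw [← squareDodecad_eq]; exact squareDodecad_mem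
  have h1 : (g : Equiv.Perm GolayPt) = 1 := by
    apply Cfsg.Agent.Helper27.eq_one_of_fix_five hd (mem_setStab.mp hg).1 (mem_setStab.mp hg).2
      ([0, 1, 2, 3, 4].map pt).toFinset (by decide)
    · intro x hx
      rw [List.mem_toFinset, List.mem_map] at hx
      obtain ⟨a, ha, rfl⟩ := hx
      rw [mem_ofMask]
      revert a
      decide
    · intro x hx
      rw [List.mem_toFinset, List.mem_map] at hx
      obtain ⟨a, ha, rfl⟩ := hx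
      exact hfix a (hF a ha)
  have : g = 1 := Subtype.ext h1
  rw [this]
  exact Subgroup.one_mem _

end Cfsg.Agent.Helper88.M12Data
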