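import Mathlib
import Cfsg.Agent.Lib.Helper88.TabFusion
import Cfsg.Agent.Lib.Helper7.M24Stab
import Cfsg.Agent.Lib.Helper7.M24Order
import Cfsg.Prelude.Def_Spor_Mathieu

set_option autoImplicit false

namespace Cfsg.Agent.Helper88.M22Data
open Cfsg Cfsg.Agent.Helper7 Cfsg.Agent.Helper91 Cfsg.Agent.Helper88.TabNorm
  Cfsg.Agent.Helper88.TabFusion
open scoped Pointwise

/-! ### Certificates for the Sylow 2-subgroup of `M22` and `M23` -/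

/-- polycyclic generators of a Sylow 2-subgroup of `M22` (and of `M23`) -/
def gens22 : List (List ℕ) :=
  [[0, 1, 5, 3, 22, 2, 9, 13, 16, 8, 7, 12, 19, 18, 17, 4, 6, 14, 10, 21, 15, 11, 20, 23],
    [0, 1, 5, 3, 19, 2, 8, 7, 6, 9, 13, 20, 22, 10, 17, 21, 16, 14, 18, 4, 11, 15, 12, 23],
    [0, 3, 2, 1, 20, 5, 8, 21, 10, 15, 13, 19, 18, 6, 17, 7, 12, 14, 22, 4, 11, 9, 16, 23],
    [0, 17, 2, 14, 10, 5, 11, 9, 8, 7, 4, 6, 22, 13, 3, 18, 21, 1, 15, 19, 20, 16, 12, 23],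
    [0, 3, 2, 1, 10, 5, 11, 7, 20, 9, 4, 6, 12, 19, 17, 21, 18, 14, 16, 13, 8, 15, 22, 23],
    [0, 1, 2, 3, 10, 5, 11, 12, 19, 22, 4, 6, 7, 20, 14, 16, 15, 17, 21, 8, 13, 18, 9, 23],
    [0, 1, 2, 3, 11, 5, 10, 9, 13, 7, 6, 4, 22, 8, 14, 21, 18, 17, 16, 20, 19, 15, 12, 23]]

/-- conjugating elements of `M22` -/
def conj22 : List (List ℕ) :=
  [[0, 1, 2, 3, 4, 5, 6, 7, 8, 9, 10, 11, 12, 13, 14, 15, 16, 17, 18, 19, 20, 21, 22, 23],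
    [0, 14, 13, 21, 2, 19, 8, 4, 12, 10, 5, 20, 7, 6, 3, 15, 18, 16, 1, 11, 22, 17, 9, 23],
    [0, 18, 20, 15, 7, 8, 11, 13, 22, 19, 9, 6, 5, 4, 3, 21, 17, 14, 1, 10, 12, 16, 2, 23],
    [0, 2, 11, 5, 18, 6, 3, 13, 14, 19, 17, 21, 22, 1, 4, 9, 8, 10, 20, 15, 16, 7, 12, 23],
    [0, 11, 9, 6, 3, 7, 16, 2, 15, 5, 1, 18, 22, 14, 20, 13, 10, 8, 4, 17, 21, 19, 12, 23],
    [0, 16, 13, 21, 4, 19, 10, 18, 6, 15, 9, 7, 17, 22, 14, 8, 2, 3, 5, 11, 12, 20, 1, 23],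
    [0, 4, 8, 12, 16, 20, 1, 5, 9, 13, 17, 21, 2, 6, 10, 14, 18, 22, 3, 7, 11, 15, 19, 23],
    [0, 12, 2, 9, 10, 5, 4, 19, 1, 20, 6, 11, 8, 17, 7, 16, 21, 22, 18, 14, 3, 15, 13, 23],
    [0, 13, 8, 19, 6, 20, 9, 15, 4, 18, 7, 11, 14, 10, 5, 21, 1, 2, 17, 12, 22, 16, 3, 23],
    [0, 13, 15, 19, 11, 18, 9, 16, 10, 21, 4, 22, 5, 7, 17, 20, 3, 1, 14, 12, 6, 8, 2, 23],
    [0, 10, 7, 4, 16, 9, 1, 22, 21, 12, 18, 3, 5, 14, 13, 6, 8, 19, 20, 17, 15, 11, 2, 23],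
    [0, 3, 5, 17, 20, 2, 8, 16, 12, 15, 19, 13, 18, 7, 1, 6, 10, 14, 4, 22, 9, 11, 21, 23],
    [0, 13, 2, 8, 12, 5, 7, 3, 18, 1, 22, 9, 14, 21, 19, 4, 10, 20, 6, 15, 16, 11, 17, 23],
    [0, 21, 19, 16, 5, 13, 20, 9, 1, 10, 8, 2, 7, 17, 14, 11, 22, 3, 6, 18, 15, 12, 4, 23],
    [0, 3, 5, 1, 18, 2, 21, 10, 22, 6, 15, 16, 11, 12, 14, 19, 13, 17, 8, 7, 9, 20, 4, 23],
    [0, 11, 8, 7, 1, 20, 16, 3, 4, 15, 21, 17, 14, 12, 9, 19, 2, 6, 13, 22, 10, 5, 18, 23],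
    [0, 19, 5, 20, 11, 2, 6, 9, 17, 12, 10, 4, 22, 14, 8, 16, 18, 13, 21, 3, 1, 15, 7, 23],
    [0, 12, 20, 22, 11, 8, 9, 18, 2, 14, 7, 6, 3, 5, 4, 1, 17, 10, 16, 19, 13, 21, 15, 23],
    [0, 21, 13, 14, 11, 19, 6, 15, 8, 17, 12, 22, 18, 5, 16, 10, 9, 3, 7, 20, 2, 4, 1, 23],
    [0, 20, 19, 13, 1, 8, 22, 16, 17, 18, 9, 14, 6, 3, 2, 21, 11, 5, 10, 7, 12, 15, 4, 23],
    [0, 4, 12, 10, 11, 22, 13, 18, 9, 14, 19, 6, 17, 7, 20, 15, 21, 8, 1, 5, 2, 3, 16, 23],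
    [0, 20, 8, 19, 10, 13, 3, 18, 11, 21, 1, 6, 7, 4, 2, 16, 12, 5, 9, 14, 17, 15, 22, 23],
    [0, 4, 22, 10, 13, 12, 6, 3, 5, 15, 11, 19, 21, 2, 8, 18, 16, 20, 17, 7, 9, 14, 1, 23],
    [0, 20, 5, 8, 14, 19, 11, 17, 6, 21, 7, 18, 22, 9, 13, 10, 16, 2, 1, 15, 3, 12, 4, 23],
    [0, 5, 7, 2, 11, 9, 8, 1, 13, 3, 20, 6, 16, 19, 12, 21, 14, 22, 17, 4, 10, 15, 18, 23],
    [0, 8, 5, 20, 10, 19, 1, 15, 21, 3, 16, 12, 6, 17, 2, 11, 18, 13, 14, 4, 22, 7, 9, 23],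
    [0, 13, 7, 19, 5, 9, 12, 1, 11, 18, 22, 2, 3, 6, 10, 21, 17, 4, 15, 20, 8, 14, 16, 23],
    [0, 19, 20, 2, 9, 5, 4, 3, 15, 10, 14, 16, 7, 12, 8, 6, 18, 13, 22, 11, 17, 1, 21, 23],
    [0, 19, 13, 5, 10, 20, 11, 6, 14, 15, 18, 16, 21, 7, 2, 17, 9, 8, 3, 12, 1, 22, 4, 23],
    [0, 5, 8, 20, 18, 19, 16, 11, 14, 15, 4, 6, 21, 9, 13, 7, 17, 2, 12, 22, 1, 3, 10, 23],
    [0, 13, 2, 8, 18, 19, 3, 15, 1, 12, 10, 22, 4, 6, 20, 17, 9, 5, 16, 7, 21, 11, 14, 23],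
    [0, 13, 20, 2, 6, 5, 1, 7, 16, 3, 22, 18, 10, 4, 19, 17, 15, 8, 11, 14, 9, 12, 21, 23],
    [0, 2, 5, 19, 17, 20, 12, 7, 4, 21, 15, 11, 10, 14, 8, 18, 1, 13, 6, 9, 16, 22, 3, 23],
    [0, 5, 19, 13, 16, 20, 22, 4, 14, 3, 15, 7, 11, 10, 2, 9, 12, 8, 18, 17, 6, 21, 1, 23],
    [0, 2, 20, 13, 17, 5, 11, 14, 3, 9, 15, 12, 16, 7, 8, 1, 18, 19, 6, 21, 10, 22, 4, 23]]

/-- the certificate for the single class of involutions -/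
def cert22 : List ClassCert :=
  [([0, 17, 2, 14, 10, 5, 11, 9, 8, 7, 4, 6, 22, 13, 3, 18, 21, 1, 15, 19, 20, 16, 12, 23],
     [],
     [[[0, 1, 5, 3, 19, 2, 8, 7, 6, 9, 13, 20, 22, 10, 17, 21, 16, 14, 18, 4, 11, 15, 12, 23], [0, 1, 2, 3, 12, 5, 9, 10, 16, 6, 7, 22, 4, 18, 14, 19, 8, 17, 13, 15, 21, 20, 11, 23]],
      [[0, 1, 5, 3, 19, 2, 8, 7, 6, 9, 13, 20, 22, 10, 17, 21, 16, 14, 18, 4, 11, 15, 12, 23]],
      [[0, 3, 2, 1, 10, 5, 11, 7, 20, 9, 4, 6, 12, 19, 17, 21, 18, 14, 16, 13, 8, 15, 22, 23], [0, 1, 2, 3, 8, 5, 20, 15, 4, 21, 19, 13, 16, 11, 14, 7, 12, 17, 22, 10, 6, 9, 18, 23]],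
      [[0, 17, 2, 14, 10, 5, 11, 9, 8, 7, 4, 6, 22, 13, 3, 18, 21, 1, 15, 19, 20, 16, 12, 23]],
      [[0, 3, 2, 1, 10, 5, 11, 7, 20, 9, 4, 6, 12, 19, 17, 21, 18, 14, 16, 13, 8, 15, 22, 23]],
      [[0, 1, 2, 3, 10, 5, 11, 12, 19, 22, 4, 6, 7, 20, 14, 16, 15, 17, 21, 8, 13, 18, 9, 23]],
      [[0, 1, 2, 3, 11, 5, 10, 9, 13, 7, 6, 4, 22, 8, 14, 21, 18, 17, 16, 20, 19, 15, 12, 23]]])]

/-- the chain of the normaliser computation in `M22` -/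
def chain22 : List (List ℕ × ℕ) := [([], 4), ([], 1), ([], 2), ([1], 3), ([], 5)]

/-- the chain of the normaliser computation in `M23` -/
def chain23 : List (List ℕ × ℕ) := [([], 4), ([], 1), ([], 2), ([], 0), ([1], 3), ([], 5)]

theorem gens22_ok : gens22.all m24TabOK = true := by decide +kernel

theorem conj22_ok : conj22.all m24TabOK = true := by decide +kernel

theorem gens22_fix : gens22.all (fixesTab [23, 0]) = true := by decide +kernel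

theorem conj22_fix : conj22.all (fixesTab [23, 0]) = true := by decide +kernel

theorem gens22_pc : pcOK gens22 = true := by decide +kernel

theorem cert22_ok : fullOK gens22 conj22 cert22 = true := by decide +kernel

theorem chain22_ok : chainOK (spanTabs gens22) 0 [23, 0] chain22 = true := by decide +kernel

theorem chain23_ok : chainOK (spanTabs gens22) 0 [23] chain23 = true := by decide +kernel

theorem goodTabs_stabIn {H : Subgroup (Equiv.Perm GolayPt)} {tabs : List (List ℕ)}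
    (h : GoodTabs H tabs) (a : ℕ) (ha : a < 24) (hfix : ∀ l ∈ tabs, l.getD a 0 = a) :
    GoodTabs (stabIn H (pt a)) tabs := by
  intro l hl
  obtain ⟨σ, hσ, ht, hlen⟩ := h l hl
  exact ⟨σ, mem_stabIn.mpr ⟨hσ, fix_of_tab ht ha (hfix l hl)⟩, ht, hlen⟩

theorem M23_eq : Spor.M23 = stabIn M24 (pt 23) := rfl

theorem M22_eq : Spor.M22 = stabIn (stabIn M24 (pt 23)) (pt 0) := rfl

theorem goodTabs_M23 {tabs : List (List ℕ)} (h1 : tabs.all m24TabOK = true)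
    (h2 : tabs.all (fixesTab [23, 0]) = true) : GoodTabs Spor.M23 tabs := by
  rw [M23_eq]
  apply goodTabs_stabIn (goodTabs_M24_of_ok h1) 23 (by norm_num)
  intro l hl
  have := (fixesTab_iff _ _).1 (List.all_eq_true.mp h2 l hl)
  exact this 23 (by simp)

theorem goodTabs_M22 {tabs : List (List ℕ)} (h1 : tabs.all m24TabOK = true)
    (h2 : tabs.all (fixesTab [23, 0]) = true) : GoodTabs Spor.M22 tabs := by
  rw [M22_eq]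
  apply goodTabs_stabIn _ 0 (by norm_num)
  · intro l hl
    have := (fixesTab_iff _ _).1 (List.all_eq_true.mp h2 l hl)
    exact this 0 (by simp)
  · rw [← M23_eq]
    exact goodTabs_M23 h1 h2

theorem card_M23 : Nat.card ↥Spor.M23 = 10200960 := card_stab1 none

theorem card_M22 : Nat.card ↥Spor.M22 = 443520 := card_stab2 none (some 0) (by decide)

theorem tb_zero (H : Subgroup (Equiv.Perm GolayPt)) :
    ∀ g : ↥H, ∀ q < 24, tb 0 (idx ((g : Equiv.Perm GolayPt) (pt q))) = tb 0 q := by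
  intro g q _
  rw [tb_eq, tb_eq, Nat.zero_testBit, Nat.zero_testBit]

theorem claim7_of_le {H : Subgroup (Equiv.Perm GolayPt)} (hH : H ≤ M24) {L : List (List ℕ)}
    (hgood : GoodTabs H L) (hone : idTab ∈ L) (hmul : ∀ l1 ∈ L, ∀ l2 ∈ L, mulTab l1 l2 ∈ L)
    (F : List ℕ) (hF : ∀ a ∈ [23, 0, 1, 2, 3, 5, 4], a ∈ F) : NClaimH hgood hone hmul F := by
  intro g _ hfix
  have hmem : (g : Equiv.Perm GolayPt) ∈ stabL M24 ([23, 0, 1, 2, 3, 5, 4].map pt) := by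
    rw [mem_stabL]
    refine ⟨hH g.2, ?_⟩
    intro b hb
    rw [List.mem_map] at hb
    obtain ⟨a, ha, rfl⟩ := hb
    exact hfix a (hF a ha)
  rw [m24_stab7, Subgroup.mem_bot] at hmem
  have : g = 1 := Subtype.ext hmem
  rw [this]
  exact Subgroup.one_mem _

theorem M23_le : Spor.M23 ≤ M24 := inf_le_left

theorem M22_le : Spor.M22 ≤ M24 := inf_le_left.trans inf_le_left

end Cfsg.Agent.Helper88.M22Data
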