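import Mathlib
import Cfsg.Agent.Lib.Helper17.Simple
import Cfsg.Agent.Lib.Helper17.Sieve
import Cfsg.Agent.Lib.Helper17.SylowLink
import Cfsg.Agent.Lib.Helper17.SelfCent
import Cfsg.Agent.Lib.Helper17.PrimeTIApp
import Cfsg.Agent.Lib.Helper75.FixKill
import Cfsg.Agent.Lib.Helper87.SVKit
import Cfsg.Agent.Lib.Helper88.DihedralExc

/-!
# O175560 (N58520): no simple group of order 58520 = 2^3 * 5 * 7 * 11 * 19
(helper24's lemma server for S4274; name + statement verbatim from
`tools/o175560_sigs_helper24.lean.txt`).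

`n_19 = 77` dies by a fixed point count; otherwise `n_19 = 1540`, `n_7 = 4180` and both Sylow
normalizers are dihedral.  The nine exceptional characters for `p = 19` have degree `55`, prime to
`7`, but for `p = 7` at most five irreducible characters have degree prime to `7`.
-/

set_option autoImplicit false

namespace Cfsg.Agent.Helper88.O175560

open Cfsg Cfsg.Agent.Helper17 Cfsg.Agent.Helper17.Sieve

universe u

theorem h88_c19 : ∀ d ∈ List.range 3081, d ∣ 3080 → d % 19 = 1 →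
    ¬ Bad (19 ^ 1 * 3080) 19 1 3080 d → d = 77 ∨ d = 1540 := by decide +kernel

theorem h88_c11 : ∀ d1 ∈ List.range 41, d1 ∣ 40 → ∀ d2 ∈ List.range 134, d2 ∣ 133 →
    (d1 * d2) % 11 = 1 → ¬ Bad (11 ^ 1 * 5320) 11 1 5320 (d1 * d2) →
    d1 * d2 = 56 ∨ d1 * d2 = 133 := by decide +kernel

theorem h88_c7 : ∀ d1 ∈ List.range 41, d1 ∣ 40 → ∀ d2 ∈ List.range 210, d2 ∣ 209 →
    (d1 * d2) % 7 = 1 → ¬ Bad (7 ^ 1 * 8360) 7 1 8360 (d1 * d2) →
    d1 * d2 = 22 ∨ d1 * d2 = 190 ∨ d1 * d2 = 4180 := by decide +kernel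

theorem h88_arith58520 : ∀ x1 ∈ List.range 41, x1 ∣ 40 → ∀ x2 ∈ List.range 78, x2 ∣ 77 →
    ∀ x3 ∈ List.range 20, x3 ∣ 19 → 1 < x1 * (x2 * x3) →
    (19 ∣ x1 * (x2 * x3) - 1 → x1 * (x2 * x3) + 1 ∣ 58520 → ¬ 7 ∣ x1 * (x2 * x3) + 1) ∧
    (19 ∣ x1 * (x2 * x3) + 1 → x1 * (x2 * x3) - 1 ∣ 58520 → ¬ 7 ∣ x1 * (x2 * x3) - 1) := by
  decide +kernel

/-- (N58520) `58520 = 2^3 * 5 * 7 * 11 * 19`. -/
theorem no_58520 {G : Type u} [Group G] [Finite G] [IsSimpleGroup G] : Nat.card G ≠ 58520 := by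
  intro hn0
  have : Fact (Nat.Prime 19) := ⟨by norm_num⟩
  have : Fact (Nat.Prime 11) := ⟨by norm_num⟩
  have : Fact (Nat.Prime 7) := ⟨by norm_num⟩
  have : Fact (Nat.Prime 5) := ⟨by norm_num⟩
  have hna : ¬ IsMulCommutative G := not_comm_of_not_prime (by rw [hn0]; norm_num)
  have h19 : Nat.card G = 19 ^ 1 * 3080 := by rw [hn0]; norm_num
  have h11 : Nat.card G = 11 ^ 1 * 5320 := by rw [hn0]; norm_num
  have h7 : Nat.card G = 7 ^ 1 * 8360 := by rw [hn0]; norm_num
  obtain ⟨hP19, hr19, hd19, hm19, hb19, -, he19⟩ :=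
    Cfsg.Agent.Helper87.SV.h87_data hna 19 3080 (by norm_num) h19 (by norm_num)
  obtain ⟨hP11, hr11, hd11, hm11, hb11, -, he11⟩ :=
    Cfsg.Agent.Helper87.SV.h87_data hna 11 5320 (by norm_num) h11 (by norm_num)
  obtain ⟨hP7, hr7, hd7, hm7, hb7, -, he7⟩ :=
    Cfsg.Agent.Helper87.SV.h87_data hna 7 8360 (by norm_num) h7 (by norm_num)
  -- n_19 = 1540
  have hn19 : Nat.card (Sylow 19 G) = 1540 := by
    rcases h88_c19 _ hr19 hd19 hm19 hb19 with h | h
    · exfalso
      obtain ⟨P⟩ : Nonempty (Sylow 19 G) := inferInstance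
      obtain ⟨e, he, he1, hmul⟩ := he19 P
      rw [h] at hmul
      have hele : e ≤ 18 := Nat.le_of_dvd (by norm_num) he
      have hC : Nat.card (Subgroup.centralizer ((P : Subgroup G) : Set G)) = 380 := by
        interval_cases e <;> omega
      obtain ⟨f, m', hfix⟩ := Cfsg.Agent.Helper75.FixKill.exists_fix (G := G)
        (by rw [hn0]; norm_num) (p := 19) (r := 5) (by norm_num) P (hP19 P)
        (by rw [h]; norm_num) (by rw [hC]; norm_num)
      unfold Cfsg.Agent.Helper75.FixKill.FixOK at hfix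
      rw [h] at hfix
      obtain ⟨-, hf1, hf2, -, hf3, -⟩ := hfix
      omega
    · exact h
  -- n_11 = 133
  have hn11 : Nat.card (Sylow 11 G) = 133 := by
    have hsplit : Nat.card (Sylow 11 G) = 56 ∨ Nat.card (Sylow 11 G) = 133 := by
      have hd' : Nat.card (Sylow 11 G) ∣ 40 * 133 := by
        have : (40 * 133 : ℕ) = 5320 := by norm_num
        rw [this]; exact hd11
      obtain ⟨d1, d2, hd1, hd2, hdd⟩ := (Nat.dvd_mul).1 hd'
      rw [← hdd] at hm11 hb11 ⊢
      exact h88_c11 d1 (List.mem_range.2 (Nat.lt_succ_of_le (Nat.le_of_dvd (by norm_num) hd1))) hd1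
        d2 (List.mem_range.2 (Nat.lt_succ_of_le (Nat.le_of_dvd (by norm_num) hd2))) hd2 hm11 hb11
    rcases hsplit with h | h
    · exfalso
      obtain ⟨P⟩ : Nonempty (Sylow 11 G) := inferInstance
      obtain ⟨e, he, he1, hmul⟩ := he11 P
      rw [h] at hmul
      have hele : e ≤ 10 := Nat.le_of_dvd (by norm_num) he
      have hC : Nat.card (Subgroup.centralizer ((P : Subgroup G) : Set G)) = 209 := by
        interval_cases e <;> omega
      have hl := Cfsg.Agent.Helper87.SV.h87_link hP11 hP19 P (by rw [hC]; norm_num)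
      rw [hn0, hn19] at hl
      revert hl; norm_num
    · exact h
  -- n_7 = 4180
  have hn7 : Nat.card (Sylow 7 G) = 4180 := by
    have hsplit : Nat.card (Sylow 7 G) = 22 ∨ Nat.card (Sylow 7 G) = 190 ∨
        Nat.card (Sylow 7 G) = 4180 := by
      have hd' : Nat.card (Sylow 7 G) ∣ 40 * 209 := by
        have : (40 * 209 : ℕ) = 8360 := by norm_num
        rw [this]; exact hd7
      obtain ⟨d1, d2, hd1, hd2, hdd⟩ := (Nat.dvd_mul).1 hd'
      rw [← hdd] at hm7 hb7 ⊢
      exact h88_c7 d1 (List.mem_range.2 (Nat.lt_succ_of_le (Nat.le_of_dvd (by norm_num) hd1))) hd1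
        d2 (List.mem_range.2 (Nat.lt_succ_of_le (Nat.le_of_dvd (by norm_num) hd2))) hd2 hm7 hb7
    rcases hsplit with h | h | h
    · exfalso
      obtain ⟨P⟩ : Nonempty (Sylow 7 G) := inferInstance
      obtain ⟨e, he, he1, hmul⟩ := he7 P
      rw [h] at hmul
      have hele : e ≤ 6 := Nat.le_of_dvd (by norm_num) he
      have hC : Nat.card (Subgroup.centralizer ((P : Subgroup G) : Set G)) = 1330 := by
        interval_cases e <;> omega
      have hl := Cfsg.Agent.Helper87.SV.h87_link hP7 hP19 P (by rw [hC]; norm_num)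
      rw [hn0, hn19] at hl
      revert hl; norm_num
    · exfalso
      obtain ⟨P⟩ : Nonempty (Sylow 7 G) := inferInstance
      obtain ⟨e, he, he1, hmul⟩ := he7 P
      rw [h] at hmul
      have hele : e ≤ 6 := Nat.le_of_dvd (by norm_num) he
      have hC : Nat.card (Subgroup.centralizer ((P : Subgroup G) : Set G)) = 154 := by
        interval_cases e <;> omega
      have hl := Cfsg.Agent.Helper87.SV.h87_link hP7 hP11 P (by rw [hC]; norm_num)
      rw [hn0, hn11] at hl
      revert hl; norm_num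
    · exact h
  -- the two dihedral normalizers
  have := Fintype.ofFinite G
  have hperf : commutator G = ⊤ :=
    Cfsg.Agent.Helper17.PrimeTI.perfect_of_simple (by rw [hn0]; norm_num)
  obtain ⟨P19⟩ : Nonempty (Sylow 19 G) := inferInstance
  obtain ⟨P7⟩ : Nonempty (Sylow 7 G) := inferInstance
  have hN19 : Nat.card (Subgroup.normalizer ((P19 : Subgroup G) : Set G)) = 19 * 2 := by
    rw [Cfsg.Agent.Helper87.SV.h87_card_normalizer, hn0, hn19]
  have hN7 : Nat.card (Subgroup.normalizer ((P7 : Subgroup G) : Set G)) = 7 * 2 := by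
    rw [Cfsg.Agent.Helper87.SV.h87_card_normalizer, hn0, hn7]
  have hC19 : Subgroup.centralizer ((P19 : Subgroup G) : Set G) = (P19 : Subgroup G) :=
    centralizer_eq_of_card_normalizer P19 (hP19 P19) (by rw [hn0]; norm_num) Nat.prime_two hN19
  have hC7 : Subgroup.centralizer ((P7 : Subgroup G) : Set G) = (P7 : Subgroup G) :=
    centralizer_eq_of_card_normalizer P7 (hP7 P7) (by rw [hn0]; norm_num) Nat.prime_two hN7
  obtain ⟨x, d, E, X, hEcard, hEdeg, hx1, hxd, hdd, hxd', -⟩ :=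
    Cfsg.Agent.Helper88.DihedralExc.h88_dihedral_exceptional hperf (P19 : Subgroup G) 19 9
      (hP19 P19) hC19 hN19 (by norm_num) (by norm_num)
  have h7d : ¬ 7 ∣ d := by
    rw [hn0] at hxd hdd
    have hxd2 : x ∣ 40 * (77 * 19) := by
      have : (40 * (77 * 19) : ℕ) = 58520 := by norm_num
      rw [this]; exact hxd
    obtain ⟨x1, y, hx1d, hyd, hxy⟩ := (Nat.dvd_mul).1 hxd2
    obtain ⟨x2, x3, hx2d, hx3d, hy⟩ := (Nat.dvd_mul).1 hyd
    subst hy
    subst hxy
    have hA := h88_arith58520 x1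
      (List.mem_range.2 (Nat.lt_succ_of_le (Nat.le_of_dvd (by norm_num) hx1d))) hx1d x2
      (List.mem_range.2 (Nat.lt_succ_of_le (Nat.le_of_dvd (by norm_num) hx2d))) hx2d x3
      (List.mem_range.2 (Nat.lt_succ_of_le (Nat.le_of_dvd (by norm_num) hx3d))) hx3d hx1
    rcases hxd' with ⟨h19x, hdx⟩ | ⟨h19x, hdx⟩
    · rw [hdx]; rw [hdx] at hdd
      exact hA.1 h19x hdd
    · rw [hdx]; rw [hdx] at hdd
      exact hA.2 h19x hdd
  have hcount := Cfsg.Agent.Helper88.DihedralExc.h88_card_prime_to_le hperf (P7 : Subgroup G) 7 3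
    (hP7 P7) hC7 hN7 (by norm_num) (by norm_num) E
    (fun ψ hψ => by rw [hEdeg ψ hψ]; exact h7d)
  rw [hEcard] at hcount
  omega

end Cfsg.Agent.Helper88.O175560
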