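import Mathlib
import Cfsg.Agent.S1017

/-!
# O5760 server (helper7, S0980): pieces (C16a) `sixteen_fix`, (C16b) `false_of_sixteen`
-/

set_option autoImplicit false

namespace Cfsg.Agent.Helper88.O5760

open Cfsg MulAction

universe u v

section GT

variable {G : Type u} [Group G] [Finite G] [IsSimpleGroup G]

/-- (C16a) -/
theorem sixteen_fix (hG : Nat.card G = 5760) (h16 : Nat.card (Sylow 5 G) = 16) (R : Sylow 5 G)
    (hR : Nat.card (R : Subgroup G) = 5)
    (x : G) (hx : orderOf x = 3) (hxR : x ∈ Subgroup.centralizer ((R : Subgroup G) : Set G)) :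
    Nat.card (fixedBy (Sylow 5 G) x) = 1 := by
  haveI : Fact (Nat.Prime 5) := ⟨by norm_num⟩
  haveI : Fact (Nat.Prime 3) := ⟨by norm_num⟩
  have h5 := Cfsg.Agent.S1017.card_fixedBy_sylow_modEq R hR x hxR
  have h3 := Cfsg.Agent.S1017.card_modEq_card_fixedBy (α := Sylow 5 G) x hx
  have hle := Cfsg.Agent.S1017.card_fixedBy_le (α := Sylow 5 G) x
  have hx1 : x ≠ 1 := Cfsg.Agent.S1017.ne_one_of_orderOf_prime x (by norm_num) hx
  have hne := Cfsg.Agent.S1017.card_fixedBy_ne (α := Sylow 5 G)
    (Cfsg.Agent.S1017.sylow_action_nontrivial (p := 5) (by rw [h16]; norm_num)) x hx1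
  rw [h16] at h3 hle hne
  unfold Nat.ModEq at h5 h3
  omega

/-- (C16b) `n_5 = 16` is impossible: a subgroup of order 9 of `C(R)` acts semiregularly on the
other 15 Sylow 5-subgroups. -/
theorem false_of_sixteen (hG : Nat.card G = 5760) (h16 : Nat.card (Sylow 5 G) = 16) (R : Sylow 5 G)
    (hC : 9 ∣ Nat.card (Subgroup.centralizer ((R : Subgroup G) : Set G)))
    (hfix : ∀ x : G, orderOf x = 3 → x ∈ Subgroup.centralizer ((R : Subgroup G) : Set G) →
      Nat.card (fixedBy (Sylow 5 G) x) = 1) : False := by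
  have : Fact (Nat.Prime 5) := ⟨by norm_num⟩
  have : Fact (Nat.Prime 3) := ⟨by norm_num⟩
  set C : Subgroup G := Subgroup.centralizer ((R : Subgroup G) : Set G) with hCdef
  -- a subgroup of order 9 in `C`
  obtain ⟨A', hA'⟩ := Sylow.exists_subgroup_card_pow_prime (G := ↥C) 3 (n := 2)
    (by rw [show (3 : ℕ) ^ 2 = 9 by norm_num]; exact hC)
  set A : Subgroup G := A'.map C.subtype with hA
  have hAcard : Nat.card ↥A = 9 := by
    rw [hA, Subgroup.card_map_of_injective (Subgroup.subtype_injective C), hA']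
    norm_num
  have hAC : A ≤ C := Subgroup.map_subtype_le A'
  -- elements of `A` fix `R`
  have hAR : ∀ a : ↥A, (a : G) • R = R := by
    intro a
    rw [Sylow.smul_eq_iff_mem_normalizer]
    exact Subgroup.centralizer_le_normalizer _ (hAC a.2)
  -- a nontrivial element of `A` fixes no `R' ≠ R`
  have hfree : ∀ R' : Sylow 5 G, R' ≠ R → ∀ c : G, c ∈ A → c ≠ 1 → c • R' ≠ R' := by
    intro R' hR' c hcA hc1 hcR'
    have hcfix : c ∈ stabilizer G R' := mem_stabilizer_iff.mpr hcR'
    have hord : orderOf c ∣ 3 ^ 2 := by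
      have h0 := Subgroup.orderOf_dvd_natCard A hcA
      rw [hAcard] at h0
      exact h0
    obtain ⟨k, -, hk⟩ := (Nat.dvd_prime_pow Nat.prime_three).mp hord
    rcases Nat.eq_zero_or_pos k with hk0 | hkpos
    · rw [hk0, pow_zero, orderOf_eq_one_iff] at hk
      exact hc1 hk
    obtain ⟨j, rfl⟩ : ∃ j, k = j + 1 := ⟨k - 1, by omega⟩
    set z : G := c ^ (3 ^ j) with hz
    have hzord : orderOf z = 3 := by
      rw [hz, orderOf_pow_of_dvd (pow_ne_zero _ (by norm_num)) (by rw [hk]; exact pow_dvd_pow 3 (by omega)),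
        hk, pow_succ, Nat.mul_div_cancel_left _ (pow_pos (by norm_num) j)]
    have hzC : z ∈ C := C.pow_mem (hAC hcA) _
    have hzR' : z • R' = R' := by
      have h0 : z ∈ stabilizer G R' := (stabilizer G R').pow_mem hcfix _
      exact mem_stabilizer_iff.mp h0
    have hzR : z • R = R := by
      rw [Sylow.smul_eq_iff_mem_normalizer]
      exact Subgroup.centralizer_le_normalizer _ hzC
    have h1 := hfix z hzord hzC
    have hss : Subsingleton (fixedBy (Sylow 5 G) z) := (Nat.card_eq_one_iff_unique.mp h1).1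
    have h2 : (⟨R, hzR⟩ : fixedBy (Sylow 5 G) z) = ⟨R', hzR'⟩ := Subsingleton.elim _ _
    exact hR' (congrArg Subtype.val h2).symm
  -- the orbit maps are injective
  have hinj : ∀ R' : Sylow 5 G, R' ≠ R → ∀ a₁ a₂ : ↥A, (a₁ : G) • R' = (a₂ : G) • R' → a₁ = a₂ := by
    intro R' hR' a₁ a₂ h12
    by_contra hne
    set c : G := (a₂ : G)⁻¹ * (a₁ : G) with hc
    have hcA : c ∈ A := A.mul_mem (A.inv_mem a₂.2) a₁.2
    have hc1 : c ≠ 1 := by
      intro h1
      apply hne
      apply Subtype.ext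
      have h2 : (a₂ : G) * c = (a₂ : G) := by rw [h1, mul_one]
      rw [hc, mul_inv_cancel_left] at h2
      exact h2
    have hcfix : c • R' = R' := by
      rw [hc, mul_smul, h12, inv_smul_smul]
    exact hfree R' hR' c hcA hc1 hcfix
  -- another Sylow 5-subgroup
  have hnt : Nontrivial (Sylow 5 G) := by
    rw [← Finite.one_lt_card_iff_nontrivial, h16]
    norm_num
  obtain ⟨R', hR'⟩ := exists_ne R
  -- a third one outside `{R} ∪ A • R'`
  let g1 : Unit ⊕ ↥A → Sylow 5 G := fun s => Sum.elim (fun _ => R) (fun a : ↥A => (a : G) • R') s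
  have hcard1 : Nat.card (Unit ⊕ ↥A) = 10 := by
    rw [Nat.card_sum, hAcard, Nat.card_unique]
  have hns : ¬ Function.Surjective g1 := by
    intro hs
    have := Nat.card_le_card_of_surjective g1 hs
    rw [h16, hcard1] at this
    omega
  obtain ⟨R'', hR''⟩ : ∃ R'' : Sylow 5 G, ∀ s, g1 s ≠ R'' := by
    by_contra hcon
    push Not at hcon
    exact hns hcon
  have hR''R : R'' ≠ R := fun h => hR'' (Sum.inl ()) h.symm
  -- the big injective map
  let g2 : Unit ⊕ (↥A ⊕ ↥A) → Sylow 5 G := fun s =>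
    Sum.elim (fun _ => R) (fun t => Sum.elim (fun a : ↥A => (a : G) • R') (fun a : ↥A => (a : G) • R'') t) s
  have hg2 : Function.Injective g2 := by
    have key1 : ∀ (Q : Sylow 5 G), Q ≠ R → ∀ a : ↥A, (a : G) • Q ≠ R := by
      intro Q hQ a h
      apply hQ
      have h2 : (a : G)⁻¹ • ((a : G) • Q) = (a : G)⁻¹ • R := by rw [h]
      rw [inv_smul_smul] at h2
      rw [h2]
      have h3 := hAR a
      calc (a : G)⁻¹ • R = (a : G)⁻¹ • ((a : G) • R) := by rw [h3]
        _ = R := inv_smul_smul _ _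
    have key2 : ∀ a b : ↥A, (a : G) • R' ≠ (b : G) • R'' := by
      intro a b h
      apply hR'' (Sum.inr (b⁻¹ * a))
      change ((b⁻¹ * a : ↥A) : G) • R' = R''
      rw [Subgroup.coe_mul, Subgroup.coe_inv, mul_smul, h, inv_smul_smul]
    rintro (⟨⟩ | a | a) (⟨⟩ | b | b) h
    · rfl
    · exact absurd h.symm (key1 R' hR' b)
    · exact absurd h.symm (key1 R'' hR''R b)
    · exact absurd h (key1 R' hR' a)
    · exact congrArg _ (congrArg _ (hinj R' hR' a b h))
    · exact absurd h (key2 a b)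
    · exact absurd h (key1 R'' hR''R a)
    · exact absurd h.symm (key2 b a)
    · exact congrArg _ (congrArg _ (hinj R'' hR''R a b h))
  have hle := Nat.card_le_card_of_injective g2 hg2
  rw [h16, Nat.card_sum, Nat.card_sum, hAcard, Nat.card_unique] at hle
  omega

end GT

end Cfsg.Agent.Helper88.O5760
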