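import Mathlib
import Cfsg.Agent.S1017

/-!
# O5760 server (helper7, S0980): piece (NS) `card_normalizer_centralizer`
-/

set_option autoImplicit false

namespace Cfsg.Agent.Helper88.O5760

open Cfsg MulAction

universe u v

/-- arithmetic: `n * (k * (5 * c)) = 5760`, `k ∣ 4`, `k ≠ 1` gives `k ∈ {2,4}` and `k * (n * c) = 1152`. -/
theorem h88_ns_numerics (n k c : ℕ) (h : n * (k * (5 * c)) = 5760) (hk : k ∣ 5 - 1) (hk1 : k ≠ 1) :
    (k = 2 ∨ k = 4) ∧ k * (n * c) = 1152 := by
  have h' : k * (n * c) = 1152 := by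
    have h0 : 5 * (k * (n * c)) = 5 * 1152 := by
      rw [show (5 : ℕ) * 1152 = 5760 by norm_num, ← h]; ring
    exact Nat.eq_of_mul_eq_mul_left (by norm_num) h0
  have hkle : k ≤ 4 := Nat.le_of_dvd (by norm_num) hk
  have hk0 : 0 < k := Nat.pos_of_dvd_of_pos hk (by norm_num)
  refine ⟨?_, h'⟩
  interval_cases k
  · exact absurd rfl hk1
  · exact Or.inl rfl
  · exfalso; revert hk; decide
  · exact Or.inr rfl

section GT

variable {G : Type u} [Group G] [Finite G] [IsSimpleGroup G]

/-- (NS) orders of `N(R)` and `C(R)` in the four cases. -/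
theorem card_normalizer_centralizer (hG : Nat.card G = 5760) (R : Sylow 5 G) :
    Nat.card (R : Subgroup G) = 5 ∧
    (Nat.card (Sylow 5 G) = 16 →
      Nat.card (Subgroup.normalizer ((R : Subgroup G) : Set G)) = 360 ∧
      (Nat.card (Subgroup.centralizer ((R : Subgroup G) : Set G)) = 90 ∨
       Nat.card (Subgroup.centralizer ((R : Subgroup G) : Set G)) = 180)) ∧
    (Nat.card (Sylow 5 G) = 36 →
      Nat.card (Subgroup.normalizer ((R : Subgroup G) : Set G)) = 160 ∧
      (Nat.card (Subgroup.centralizer ((R : Subgroup G) : Set G)) = 40 ∨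
       Nat.card (Subgroup.centralizer ((R : Subgroup G) : Set G)) = 80)) ∧
    (Nat.card (Sylow 5 G) = 96 →
      Nat.card (Subgroup.normalizer ((R : Subgroup G) : Set G)) = 60 ∧
      (Nat.card (Subgroup.centralizer ((R : Subgroup G) : Set G)) = 15 ∨
       Nat.card (Subgroup.centralizer ((R : Subgroup G) : Set G)) = 30)) ∧
    (Nat.card (Sylow 5 G) = 576 →
      Nat.card (Subgroup.normalizer ((R : Subgroup G) : Set G)) = 10 ∧
      Nat.card (Subgroup.centralizer ((R : Subgroup G) : Set G)) = 5) := by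
  have : Fact (Nat.Prime 5) := ⟨by norm_num⟩
  have hR : Nat.card (R : Subgroup G) = 5 := by
    have h0 := Cfsg.Agent.S1017.sylow_card_eq R 1 1152 (by rw [hG]; norm_num) (by norm_num)
    simpa using h0
  obtain ⟨k, c, hk, hk1, hC, hN⟩ :=
    Cfsg.Agent.S1017.normalizer_structure R hR (by rw [hG]; norm_num)
  have hmul := Cfsg.Agent.S1017.card_sylow_mul_card_normalizer R
  rw [hN, hG] at hmul
  obtain ⟨hk24, h1152⟩ := h88_ns_numerics _ k c hmul hk hk1
  rw [hC, hN]
  refine ⟨hR, ?_, ?_, ?_, ?_⟩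
  · intro h16
    rw [h16] at h1152
    rcases hk24 with rfl | rfl <;> omega
  · intro h36
    rw [h36] at h1152
    rcases hk24 with rfl | rfl <;> omega
  · intro h96
    rw [h96] at h1152
    rcases hk24 with rfl | rfl <;> omega
  · intro h576
    rw [h576] at h1152
    rcases hk24 with rfl | rfl <;> omega

end GT

end Cfsg.Agent.Helper88.O5760
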