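import Mathlib

set_option autoImplicit false

namespace Cfsg.Agent.Helper88

/-! ### odd-order automorphisms of `∏ ZMod (2 ^ a i)` with distinct `a i ≥ 1` are trivial -/

theorem zmod_pow_nsmul_eq_zero {b k : ℕ} (h : b ≤ k) (t : ZMod (2 ^ b)) : (2 ^ k) • t = 0 := by
  rw [nsmul_eq_mul]
  have : ((2 ^ k : ℕ) : ZMod (2 ^ b)) = 0 := by
    rw [ZMod.natCast_eq_zero_iff]
    exact pow_dvd_pow 2 h
  rw [this, zero_mul]

theorem zmod_half_ne_zero {b : ℕ} (hb : 1 ≤ b) : ((2 ^ (b - 1) : ℕ) : ZMod (2 ^ b)) ≠ 0 := by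
  rw [Ne, ZMod.natCast_eq_zero_iff]
  intro h
  have h1 : 2 ^ b ≤ 2 ^ (b - 1) := Nat.le_of_dvd (by positivity) h
  have h2 : 2 ^ (b - 1) < 2 ^ b := Nat.pow_lt_pow_right (by norm_num) (by omega)
  omega

theorem zmod_half_add_self {b : ℕ} (hb : 1 ≤ b) :
    ((2 ^ (b - 1) : ℕ) : ZMod (2 ^ b)) + ((2 ^ (b - 1) : ℕ) : ZMod (2 ^ b)) = 0 := by
  rw [← Nat.cast_add, ZMod.natCast_eq_zero_iff]
  have : 2 ^ (b - 1) + 2 ^ (b - 1) = 2 ^ b := by
    have hb' : b = (b - 1) + 1 := by omega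
    conv_rhs => rw [hb', pow_succ]
    ring
  rw [this]

theorem zmod_two_nsmul_eq_zero {b : ℕ} (hb : 1 ≤ b) (t : ZMod (2 ^ b)) (ht : 2 • t = 0) :
    t = 0 ∨ t = ((2 ^ (b - 1) : ℕ) : ZMod (2 ^ b)) := by
  have : NeZero (2 ^ b) := ⟨by positivity⟩
  have h1 : ((2 * t.val : ℕ) : ZMod (2 ^ b)) = 0 := by
    rw [Nat.cast_mul, ZMod.natCast_zmod_val, ← ht, nsmul_eq_mul]
  rw [ZMod.natCast_eq_zero_iff] at h1
  have hb' : b = (b - 1) + 1 := by omega
  have h2 : 2 ^ b = 2 * 2 ^ (b - 1) := by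
    conv_lhs => rw [hb', pow_succ]
    ring
  have h1' : 2 * 2 ^ (b - 1) ∣ 2 * t.val := h2 ▸ h1
  have h3 : 2 ^ (b - 1) ∣ t.val := (Nat.mul_dvd_mul_iff_left (by norm_num)).1 h1'
  obtain ⟨c, hc⟩ := h3
  have h4 : t.val < 2 ^ b := ZMod.val_lt t
  have h4' : 2 ^ (b - 1) * c < 2 * 2 ^ (b - 1) := by rw [← hc, ← h2]; exact h4
  have hpos : 0 < 2 ^ (b - 1) := by positivity
  have hc2 : c < 2 := by
    by_contra hcon
    push Not at hcon
    have : 2 * 2 ^ (b - 1) ≤ 2 ^ (b - 1) * c := by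
      calc 2 * 2 ^ (b - 1) = 2 ^ (b - 1) * 2 := by ring
        _ ≤ 2 ^ (b - 1) * c := Nat.mul_le_mul_left _ hcon
    omega
  have ht' : t = ((t.val : ℕ) : ZMod (2 ^ b)) := (ZMod.natCast_zmod_val t).symm
  interval_cases c
  · left
    rw [ht', hc]; simp
  · right
    rw [ht', hc]; simp

section

variable {n : ℕ} (a : Fin n → ℕ)

/-- the subgroup `M[2] ∩ 2^k M` -/
def V (k : ℕ) : AddSubgroup ((i : Fin n) → ZMod (2 ^ a i)) where
  carrier := {x | 2 • x = 0 ∧ ∃ u, x = (2 ^ k) • u}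
  zero_mem' := ⟨smul_zero _, 0, (smul_zero _).symm⟩
  add_mem' := by
    rintro x y ⟨hx, u, rfl⟩ ⟨hy, v, rfl⟩
    exact ⟨by rw [smul_add, hx, hy, add_zero], u + v, (smul_add _ _ _).symm⟩
  neg_mem' := by
    rintro x ⟨hx, u, rfl⟩
    exact ⟨by rw [smul_neg, hx, neg_zero], -u, (smul_neg _ _).symm⟩

theorem mem_V {k : ℕ} {x : (i : Fin n) → ZMod (2 ^ a i)} :
    x ∈ V a k ↔ 2 • x = 0 ∧ ∃ u, x = (2 ^ k) • u := Iff.rfl

theorem mem_V_iff (ha1 : ∀ i, 1 ≤ a i) (k : ℕ) (x : (i : Fin n) → ZMod (2 ^ a i)) :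
    x ∈ V a k ↔ ∀ i, x i = 0 ∨ (x i = ((2 ^ (a i - 1) : ℕ) : ZMod (2 ^ a i)) ∧ k + 1 ≤ a i) := by
  constructor
  · rintro ⟨hx, u, rfl⟩ i
    have h2 : 2 • (((2 ^ k) • u) i) = 0 := congrFun hx i
    rcases zmod_two_nsmul_eq_zero (ha1 i) _ h2 with h | h
    · left; exact h
    · by_cases hk : k + 1 ≤ a i
      · right; exact ⟨h, hk⟩
      · left
        rw [Pi.smul_apply]
        exact zmod_pow_nsmul_eq_zero (by omega) _
  · intro h
    refine ⟨?_, fun i => if x i = 0 then 0 else ((2 ^ (a i - 1 - k) : ℕ) : ZMod (2 ^ a i)), ?_⟩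
    · funext i
      rw [Pi.smul_apply, Pi.zero_apply]
      rcases h i with h0 | ⟨h1, -⟩
      · rw [h0, smul_zero]
      · rw [h1, two_nsmul]; exact zmod_half_add_self (ha1 i)
    · funext i
      rw [Pi.smul_apply]
      by_cases h0 : x i = 0
      · rw [if_pos h0, smul_zero, h0]
      · rw [if_neg h0]
        rcases h i with h0' | ⟨h1, hk⟩
        · exact absurd h0' h0
        · rw [h1, nsmul_eq_mul, ← Nat.cast_mul, ← pow_add]
          congr 2
          omega

theorem sub_mem_V_succ (ha : Function.Injective a) (ha1 : ∀ i, 1 ≤ a i) (k : ℕ)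
    {x y : (i : Fin n) → ZMod (2 ^ a i)} (hx : x ∈ V a k) (hy : y ∈ V a k)
    (hx' : x ∉ V a (k + 1)) (hy' : y ∉ V a (k + 1)) : x - y ∈ V a (k + 1) := by
  rw [mem_V_iff a ha1] at hx hy hx' hy' ⊢
  push Not at hx' hy'
  obtain ⟨i, hi0, hi1⟩ := hx'
  obtain ⟨j, hj0, hj1⟩ := hy'
  have hxi : x i = ((2 ^ (a i - 1) : ℕ) : ZMod (2 ^ a i)) ∧ k + 1 ≤ a i := by
    rcases hx i with h | h
    · exact absurd h hi0
    · exact h
  have hyj : y j = ((2 ^ (a j - 1) : ℕ) : ZMod (2 ^ a j)) ∧ k + 1 ≤ a j := by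
    rcases hy j with h | h
    · exact absurd h hj0
    · exact h
  have hai : a i = k + 1 := by
    have := hi1 hxi.1
    omega
  have haj : a j = k + 1 := by
    have := hj1 hyj.1
    omega
  have hij : i = j := ha (hai.trans haj.symm)
  subst hij
  intro l
  rw [Pi.sub_apply]
  by_cases hl : l = i
  · subst hl
    left
    rw [hxi.1, hyj.1, sub_self]
  · have hal : a l ≠ k + 1 := fun h => hl (ha (h.trans hai.symm))
    have hneg : -((2 ^ (a l - 1) : ℕ) : ZMod (2 ^ a l)) = ((2 ^ (a l - 1) : ℕ) : ZMod (2 ^ a l)) :=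
      neg_eq_of_add_eq_zero_left (zmod_half_add_self (ha1 l))
    rcases hx l with h1 | ⟨h1, h1'⟩ <;> rcases hy l with h2 | ⟨h2, h2'⟩
    · left; rw [h1, h2, sub_self]
    · right
      rw [h1, h2, zero_sub, hneg]
      exact ⟨rfl, by omega⟩
    · right
      rw [h1, h2, sub_zero]
      exact ⟨rfl, by omega⟩
    · left; rw [h1, h2, sub_self]

end

theorem fix_of_iterate {A : Type*} [AddCommGroup A] (α : A →+ A) (m : ℕ) (hm : Odd m)
    (hα : ∀ x, α^[m] x = x) (x : A) (h1 : α (α x - x) = α x - x) (h2 : 2 • (α x - x) = 0) :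
    α x = x := by
  have key : ∀ j : ℕ, α^[j] x = x + j • (α x - x) := by
    intro j
    induction j with
    | zero => simp
    | succ j ih =>
      rw [Function.iterate_succ_apply', ih, map_add, map_nsmul, h1, succ_nsmul]
      abel
  have h3 := hα x
  rw [key m] at h3
  obtain ⟨t, rfl⟩ := hm
  have h4 : (2 * t + 1) • (α x - x) = α x - x := by
    rw [add_nsmul, mul_comm, mul_nsmul', h2, smul_zero, one_nsmul, zero_add]
  rw [h4] at h3
  have h5 : α x - x = 0 := by
    have : x + (α x - x) = x + 0 := by rw [h3, add_zero]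
    exact add_left_cancel this
  exact sub_eq_zero.1 h5

theorem odd_aut_trivial {n : ℕ} (a : Fin n → ℕ) (ha : StrictMono a) (ha1 : ∀ i, 1 ≤ a i)
    (α : ((i : Fin n) → ZMod (2 ^ a i)) →+ ((i : Fin n) → ZMod (2 ^ a i))) (m : ℕ) (hm : Odd m)
    (hα : ∀ x, α^[m] x = x) : ∀ x, α x = x := by
  classical
  set K := ∑ i, a i with hK
  have haK : ∀ i, a i ≤ K := fun i => Finset.single_le_sum (fun _ _ => Nat.zero_le _) (Finset.mem_univ i)
  have hVinv : ∀ k x, x ∈ V a k → α x ∈ V a k := by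
    rintro k x ⟨hx, u, rfl⟩
    exact ⟨by rw [← map_nsmul, hx, map_zero], α u, map_nsmul _ _ _⟩
  have hVinv_iter : ∀ k (j : ℕ) x, x ∈ V a k → α^[j] x ∈ V a k := by
    intro k j
    induction j with
    | zero => intro x hx; exact hx
    | succ j ih =>
      intro x hx
      rw [Function.iterate_succ_apply']
      exact hVinv k _ (ih x hx)
  have hVtop : ∀ k, K ≤ k → ∀ x ∈ V a k, x = 0 := by
    rintro k hk x ⟨-, u, rfl⟩
    funext i
    rw [Pi.smul_apply]
    exact zmod_pow_nsmul_eq_zero ((haK i).trans hk) _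
  have hm1 : 1 ≤ m := by
    obtain ⟨t, rfl⟩ := hm; omega
  have hP : ∀ d, ∀ x ∈ V a (K - d), α x = x := by
    intro d
    induction d with
    | zero =>
      intro x hx
      rw [hVtop _ (by omega) x hx, map_zero]
    | succ d ih =>
      intro x hx
      by_cases hd : K ≤ d
      · have : K - (d + 1) = K - d := by omega
        rw [this] at hx
        exact ih x hx
      · push Not at hd
        have hk : K - (d + 1) + 1 = K - d := by omega
        set k := K - (d + 1) with hkdef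
        have hδ : α x - x ∈ V a (k + 1) := by
          by_cases hx1 : x ∈ V a (k + 1)
          · exact (V a (k + 1)).sub_mem (hVinv _ _ hx1) hx1
          · apply sub_mem_V_succ a ha.injective ha1 k (hVinv _ _ hx) hx _ hx1
            intro hαx
            apply hx1
            have h1 := hVinv_iter (k + 1) (m - 1) _ hαx
            rw [← Function.iterate_succ_apply, Nat.succ_eq_add_one, Nat.sub_add_cancel hm1, hα] at h1
            exact h1
        rw [hk] at hδ
        exact fix_of_iterate α m hm hα x (ih _ hδ) hδ.1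
  have hP0 : ∀ x, 2 • x = 0 → α x = x := by
    intro x hx
    apply hP K
    rw [Nat.sub_self]
    exact ⟨hx, x, by rw [pow_zero, one_nsmul]⟩
  have hQ : ∀ k : ℕ, ∀ x, (2 ^ k) • x = 0 → α x = x := by
    intro k
    induction k with
    | zero =>
      intro x hx
      rw [pow_zero, one_nsmul] at hx
      rw [hx, map_zero]
    | succ k ih =>
      intro x hx
      have h1 : (2 ^ k) • (2 • x) = 0 := by
        rw [← mul_nsmul, mul_comm, ← pow_succ]; exact hx
      have h2 := ih _ h1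
      have h3 : 2 • (α x - x) = 0 := by
        rw [smul_sub, ← map_nsmul, h2, sub_self]
      exact fix_of_iterate α m hm hα x (hP0 _ h3) h3
  intro x
  apply hQ K
  funext i
  rw [Pi.smul_apply]
  exact zmod_pow_nsmul_eq_zero (haK i) _

/-- group-level form -/
theorem mulAut_eq_one_of_odd {G : Type*} [Group G] {n : ℕ} (a : Fin n → ℕ) (ha : StrictMono a)
    (ha1 : ∀ i, 1 ≤ a i) (e : G ≃* Multiplicative ((i : Fin n) → ZMod (2 ^ a i)))
    (β : MulAut G) (m : ℕ) (hm : Odd m) (hβ : β ^ m = 1) : β = 1 := by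
  let α : ((i : Fin n) → ZMod (2 ^ a i)) →+ ((i : Fin n) → ZMod (2 ^ a i)) :=
    AddMonoidHom.mk' (fun x => Multiplicative.toAdd (e (β (e.symm (Multiplicative.ofAdd x)))))
      (by intro x y; simp [ofAdd_add, map_mul, toAdd_mul])
  have hαdef : ∀ x, α x = Multiplicative.toAdd (e (β (e.symm (Multiplicative.ofAdd x)))) :=
    fun _ => rfl
  have hiter : ∀ (j : ℕ) x, α^[j] x =
      Multiplicative.toAdd (e ((β ^ j) (e.symm (Multiplicative.ofAdd x)))) := by
    intro j
    induction j with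
    | zero => intro x; simp
    | succ j ih =>
      intro x
      rw [Function.iterate_succ_apply', ih, hαdef, pow_succ']
      simp
  have hα : ∀ x, α^[m] x = x := by
    intro x
    rw [hiter, hβ]; simp
  have hfix := odd_aut_trivial a ha ha1 α m hm hα
  ext g
  have h1 := hfix (Multiplicative.toAdd (e g))
  rw [hαdef] at h1
  simp only [ofAdd_toAdd, MulEquiv.symm_apply_apply] at h1
  have h2 : e (β g) = e g := by
    have := congrArg Multiplicative.ofAdd h1
    simpa using this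
  exact e.injective h2

end Cfsg.Agent.Helper88
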