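import Mathlib
import Cfsg.Agent.Lib.Helper88.ThreeTrans

set_option autoImplicit false

namespace Cfsg.Agent.Helper88.TTBlock

open Cfsg Cfsg.Agent.Helper88

variable {G : Type*} [Group G]

/-- conjugate of a set -/
def cj (g : G) (B : Set G) : Set G := (fun x => g * x * g⁻¹) '' B

theorem mem_cj {g : G} {B : Set G} {y : G} : y ∈ cj g B ↔ g⁻¹ * y * g ∈ B := by
  constructor
  · rintro ⟨x, hx, rfl⟩
    have : g⁻¹ * (g * x * g⁻¹) * g = x := by group
    show g⁻¹ * (g * x * g⁻¹) * g ∈ B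
    rwa [this]
  · intro h
    exact ⟨g⁻¹ * y * g, h, by group⟩

theorem conj_mem_cj {g : G} {B : Set G} {x : G} (hx : x ∈ B) : g * x * g⁻¹ ∈ cj g B := ⟨x, hx, rfl⟩

theorem self_mem_cj {a : G} {B : Set G} (ha : a ∈ B) : a ∈ cj a B := by
  have h : a * a * a⁻¹ ∈ cj a B := conj_mem_cj ha
  simpa using h

theorem cj_one (B : Set G) : cj 1 B = B := by
  ext y; rw [mem_cj]; simp

theorem cj_mul (g h : G) (B : Set G) : cj (g * h) B = cj g (cj h B) := by
  ext y
  rw [mem_cj, mem_cj, mem_cj]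
  have : (g * h)⁻¹ * y * (g * h) = h⁻¹ * (g⁻¹ * y * g) * h := by group
  rw [this]

theorem cj_inv_cj (g : G) (B : Set G) : cj g⁻¹ (cj g B) = B := by
  rw [← cj_mul, inv_mul_cancel, cj_one]

theorem cj_cj_inv (g : G) (B : Set G) : cj g (cj g⁻¹ B) = B := by
  rw [← cj_mul, mul_inv_cancel, cj_one]

theorem cj_subset {D : Set G} (hconj : ∀ g : G, ∀ x ∈ D, g * x * g⁻¹ ∈ D) {B : Set G} (hBD : B ⊆ D)
    (g : G) : cj g B ⊆ D := by
  rintro _ ⟨x, hx, rfl⟩
  exact hconj g x (hBD hx)

/-- a block for the conjugation action -/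
def IsBlock (B : Set G) : Prop :=
  ∀ g : G, (fun x => g * x * g⁻¹) '' B = B ∨ Disjoint ((fun x => g * x * g⁻¹) '' B) B

theorem IsBlock.cj_eq_of_mem {B : Set G} (hB : IsBlock B) {g : G} {y : G} (h1 : y ∈ cj g B)
    (h2 : y ∈ B) : cj g B = B := by
  rcases hB g with h | h
  · exact h
  · exact absurd h2 (Set.disjoint_left.1 h h1)

/-- two members of the block system that meet are equal -/
theorem IsBlock.eq_of_meet {B : Set G} (hB : IsBlock B) {g h : G} {y : G} (h1 : y ∈ cj g B)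
    (h2 : y ∈ cj h B) : cj g B = cj h B := by
  have h3 : h⁻¹ * y * h ∈ B := mem_cj.1 h2
  have h4 : h⁻¹ * y * h ∈ cj (h⁻¹ * g) B := by
    rw [mem_cj] at h1 ⊢
    have : (h⁻¹ * g)⁻¹ * (h⁻¹ * y * h) * (h⁻¹ * g) = g⁻¹ * y * g := by group
    rwa [this]
  have h5 := hB.cj_eq_of_mem h4 h3
  have h6 : cj g B = cj h (cj (h⁻¹ * g) B) := by
    rw [← cj_mul]; congr 1; group
  rw [h6, h5]

/-- the setwise stabilizer of `B` under conjugation -/
def stab (B : Set G) : Subgroup G where
  carrier := {g | cj g B = B}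
  one_mem' := cj_one B
  mul_mem' := by
    intro a b ha hb
    show cj (a * b) B = B
    rw [cj_mul, hb, ha]
  inv_mem' := by
    intro a ha
    show cj a⁻¹ B = B
    have h1 : cj a B = B := ha
    calc cj a⁻¹ B = cj a⁻¹ (cj a B) := by rw [h1]
      _ = B := cj_inv_cj a B

theorem mem_stab {B : Set G} {g : G} : g ∈ stab B ↔ cj g B = B := Iff.rfl

/-- key lemma: two members of one block of the system move `B` to the same block -/
theorem cj_eq_cj_of_mem {D : Set G} (hT : TT D) {B : Set G} (hBD : B ⊆ D) (hB : IsBlock B)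
    (b : G) {a₁ a₂ : G} (h1 : a₁ ∈ cj b B) (h2 : a₂ ∈ cj b B) : cj a₁ B = cj a₂ B := by
  have hθD : cj b B ⊆ D := cj_subset hT.conj hBD b
  have hself : ∀ a ∈ B, cj a B = B := by
    intro a ha
    exact hB.cj_eq_of_mem (self_mem_cj ha) ha
  rcases hB b with heq | hdisj
  · have heq' : cj b B = B := heq
    rw [heq'] at h1 h2
    rw [hself a₁ h1, hself a₂ h2]
  · have hdisj' : Disjoint (cj b B) B := hdisj
    by_cases hex : ∃ x ∈ cj b B, ∃ e ∈ B, Commute x e
    · obtain ⟨x, hx, e, he, hxe⟩ := hex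
      have hclaim : ∀ a ∈ cj b B, cj a B = B := by
        intro a ha
        by_contra hne
        have haD := hθD ha
        have heD := hBD he
        have hnc : ¬ Commute a e := by
          intro hc
          apply hne
          apply hB.cj_eq_of_mem _ he
          have : e = a * e * a⁻¹ := by
            rw [hc.eq]; group
          rw [this]; exact conj_mem_cj he
        have hsw : e * a * e⁻¹ = a * e * a⁻¹ := hT.conj_swap haD heD hnc
        -- `cj e θ = θ`
        have hθe : cj (e * b) B = cj b B := by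
          apply hB.eq_of_meet (y := x) _ hx
          rw [cj_mul]
          have : x = e * x * e⁻¹ := by
            rw [← hxe.eq]; group
          rw [this]; exact conj_mem_cj hx
        have hw1 : a * e * a⁻¹ ∈ cj a B := conj_mem_cj he
        have hw2 : a * e * a⁻¹ ∈ cj b B := by
          rw [← hsw, ← hθe, cj_mul]
          exact conj_mem_cj ha
        have h3 : cj a B = cj b B := hB.eq_of_meet hw1 hw2
        have h4 : cj (a * b) B = cj b B := by
          apply hB.eq_of_meet (y := a) _ ha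
          rw [cj_mul]
          exact self_mem_cj ha
        have h5 : cj a (cj a B) = B := by
          rw [← cj_mul, hT.sq a haD, cj_one]
        have h6 : B = cj b B := by
          calc B = cj a (cj a B) := h5.symm
            _ = cj a (cj b B) := by rw [h3]
            _ = cj (a * b) B := (cj_mul a b B).symm
            _ = cj b B := h4
        have : e ∈ cj b B := by rw [← h6]; exact he
        exact Set.disjoint_left.1 hdisj' this he
      rw [hclaim a₁ h1, hclaim a₂ h2]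
    · push Not at hex
      have hf : b⁻¹ * a₁ * b ∈ B := mem_cj.1 h1
      set f := b⁻¹ * a₁ * b with hfdef
      have hfD := hBD hf
      have hclaim : ∀ a ∈ cj b B, cj a B = cj (f * b) B := by
        intro a ha
        have haD := hθD ha
        have hnc : ¬ Commute a f := hex a ha f hf
        have hsw : f * a * f⁻¹ = a * f * a⁻¹ := hT.conj_swap haD hfD hnc
        apply hB.eq_of_meet (y := a * f * a⁻¹) (conj_mem_cj hf)
        rw [← hsw, cj_mul]
        exact conj_mem_cj ha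
      rw [hclaim a₁ h1, hclaim a₂ h2]

/-- the product of two members of a block lies in the kernel of the action on the block system -/
theorem mul_mem_normalCore {D : Set G} (hT : TT D) {B : Set G} (hBD : B ⊆ D) (hB : IsBlock B)
    {a a' : G} (ha : a ∈ B) (ha' : a' ∈ B) : a * a' ∈ (stab B).normalCore := by
  intro b
  rw [mem_stab]
  have h1 : b * a * b⁻¹ ∈ cj b B := conj_mem_cj ha
  have h2 : b * a' * b⁻¹ ∈ cj b B := conj_mem_cj ha'
  have h3 := cj_eq_cj_of_mem hT hBD hB b h1 h2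
  have hD1 : b * a * b⁻¹ ∈ D := hT.conj b a (hBD ha)
  have e : b * (a * a') * b⁻¹ = (b * a * b⁻¹) * (b * a' * b⁻¹) := by group
  rw [e, cj_mul, ← h3, ← cj_mul, hT.sq _ hD1, cj_one]

/-- the classes of a conjugation-invariant partial equivalence relation are blocks -/
theorem isBlock_of_equiv {D : Set G} (hconj : ∀ g : G, ∀ x ∈ D, g * x * g⁻¹ ∈ D) (R : G → G → Prop)
    (hsymm : ∀ a b, R a b → R b a) (htrans : ∀ a b c, R a b → R b c → R a c)
    (hRc : ∀ g a b, R a b → R (g * a * g⁻¹) (g * b * g⁻¹)) (d : G) :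
    IsBlock {v | v ∈ D ∧ R v d} := by
  intro g
  by_cases hdis : Disjoint ((fun x => g * x * g⁻¹) '' {v | v ∈ D ∧ R v d}) {v | v ∈ D ∧ R v d}
  · exact Or.inr hdis
  left
  rw [Set.not_disjoint_iff] at hdis
  obtain ⟨y, ⟨v, ⟨hvD, hvd⟩, rfl⟩, ⟨-, hyd⟩⟩ := hdis
  -- `R (g d g⁻¹) d`
  have h1 : R (g * d * g⁻¹) d := htrans _ _ _ (hsymm _ _ (hRc g v d hvd)) hyd
  ext w
  constructor
  · rintro ⟨v', ⟨hv'D, hv'd⟩, rfl⟩
    exact ⟨hconj g v' hv'D, htrans _ _ _ (hRc g v' d hv'd) h1⟩
  · rintro ⟨hwD, hwd⟩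
    refine ⟨g⁻¹ * w * g, ⟨?_, ?_⟩, by group⟩
    · have := hconj g⁻¹ w hwD
      rwa [inv_inv] at this
    · have h2 : R w (g * d * g⁻¹) := htrans _ _ _ hwd (hsymm _ _ h1)
      have h3 := hRc g⁻¹ _ _ h2
      have e1 : g⁻¹ * (g * d * g⁻¹) * g⁻¹⁻¹ = d := by group
      rw [e1, inv_inv] at h3
      exact h3

/-- conjugation as a map of the subtype `D` -/
def conjD {D : Set G} (hconj : ∀ g : G, ∀ x ∈ D, g * x * g⁻¹ ∈ D) (g : G) (a : D) : D :=
  ⟨g * a * g⁻¹, hconj g a a.2⟩

/-- the reachability classes of a conjugation-invariant graph on `D` are blocks -/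
theorem isBlock_reachable {D : Set G} (hconj : ∀ g : G, ∀ x ∈ D, g * x * g⁻¹ ∈ D)
    (Γ : SimpleGraph D) (hΓ : ∀ (g : G) (a b : D), Γ.Adj a b → Γ.Adj (conjD hconj g a) (conjD hconj g b))
    (d : G) : IsBlock {v | v ∈ D ∧ ∃ (hv : v ∈ D) (hd : d ∈ D), Γ.Reachable ⟨v, hv⟩ ⟨d, hd⟩} := by
  apply isBlock_of_equiv hconj (fun a b => ∃ (ha : a ∈ D) (hb : b ∈ D), Γ.Reachable ⟨a, ha⟩ ⟨b, hb⟩)
  · rintro a b ⟨ha, hb, h⟩
    exact ⟨hb, ha, h.symm⟩
  · rintro a b c ⟨ha, hb, h1⟩ ⟨_, hc, h2⟩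
    exact ⟨ha, hc, h1.trans h2⟩
  · rintro g a b ⟨ha, hb, h⟩
    refine ⟨hconj g a ha, hconj g b hb, ?_⟩
    let φ : Γ →g Γ := ⟨conjD hconj g, fun {a b} hab => hΓ g a b hab⟩
    exact h.map φ

/-- a set closed under adjacency contains the reachability class of each of its points -/
theorem reachable_mem_of_closed {V : Type*} (Γ : SimpleGraph V) (A : Set V)
    (hA : ∀ a ∈ A, ∀ v, Γ.Adj a v → v ∈ A) {a v : V} (ha : a ∈ A) (h : Γ.Reachable a v) : v ∈ A := by
  obtain ⟨w⟩ := h
  induction w with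
  | nil => exact ha
  | cons hadj _ ih => exact ih (hA _ ha _ hadj)

end Cfsg.Agent.Helper88.TTBlock
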