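import Mathlib
import Cfsg.Agent.Lib.Helper88.ThreeTrans
import Cfsg.Agent.Lib.Helper22.Fitting
import Cfsg.Agent.Lib.Helper22.Components
import Cfsg.Agent.Lib.Helper22.Bender
import Cfsg.Agent.Lib.Helper22.Radical
import Cfsg.Agent.Lib.Helper29.Fitting
import Cfsg.Agent.Lib.Helper3.CharBurnside
import Cfsg.Agent.Lib.Helper30.CentPPrimeCore
import Cfsg.Agent.Lib.Helper49.TTThetaCore
import Cfsg.Agent.S5347
import Cfsg.Agent.S1800

set_option autoImplicit false

/-!
# Structure of groups generated by a class of 3-transpositions with `O_2`, `O_3` central (helper88)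

Components are normal, the centralizer of a component is central (conditional on `Helper20.ZStarHyp`),
there is exactly one component, and the "width one modulo `L`" statement.
-/

namespace Cfsg.Agent.Helper88.TTStruct

open Cfsg Cfsg.Agent.Helper88

universe u

section basic

variable {G : Type*} [Group G]

/-- a subgroup centralized by every member of a generating set is central -/
theorem le_center_of_forall_commute {D : Set G} (hgen : Subgroup.closure D = ⊤) {N : Subgroup G}
    (h : ∀ d ∈ D, ∀ x ∈ N, Commute d x) : N ≤ Subgroup.center G := by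
  intro x hx
  rw [Subgroup.mem_center_iff]
  intro g
  have hg : g ∈ Subgroup.closure D := by rw [hgen]; trivial
  have : g ∈ Subgroup.centralizer ({x} : Set G) := by
    refine (Subgroup.closure_le _).2 ?_ hg
    intro d hd
    rw [SetLike.mem_coe, Subgroup.mem_centralizer_iff]
    intro y hy
    rw [Set.mem_singleton_iff] at hy
    subst hy
    exact (h d hd y hx).eq.symm
  rw [Subgroup.mem_centralizer_iff] at this
  exact (this x rfl).symm

theorem class_group {D : Set G} (hD : IsThreeTranspositionClass D) : IsThreeTranspositionGroup D :=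
  ⟨hD.1, fun g _ hd => conj_mem_of_class hD g hd, hD.2.2⟩

/-- all `O_p(G)` are central once `O_2(G)` and `O_3(G)` are -/
theorem pCore_le_center [Finite G] {D : Set G} (hD : IsThreeTranspositionClass D)
    (h2 : pCore 2 G ≤ Subgroup.center G) (h3 : pCore 3 G ≤ Subgroup.center G) (p : ℕ) (hp : p.Prime) :
    pCore p G ≤ Subgroup.center G := by
  by_cases hp2 : p = 2
  · subst hp2; exact h2
  by_cases hp3 : p = 3
  · subst hp3; exact h3
  have hp5 : 3 < p := by
    have := hp.two_le
    rcases Nat.lt_or_ge 3 p with h | h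
    · exact h
    · interval_cases p
      · exact absurd rfl hp2
      · exact absurd rfl hp3
  have : Fact p.Prime := ⟨hp⟩
  apply le_center_of_forall_commute hD.2.2
  intro d hd x hx
  have hn : (pCore p G).Normal := pCore_normal p G
  exact Cfsg.Agent.S5347.result (class_group hD) hp hp5 (pCore p G) (pCore_isPGroup p G) hd
    (by rw [Subgroup.normalizer_eq_top]; trivial) x hx

theorem fitting_le_center [Finite G] {D : Set G} (hD : IsThreeTranspositionClass D)
    (h2 : pCore 2 G ≤ Subgroup.center G) (h3 : pCore 3 G ≤ Subgroup.center G) :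
    fittingSubgroup G ≤ Subgroup.center G := by
  rw [Cfsg.Agent.Helper22.fittingSubgroup_eq_iSup_pCore]
  apply iSup_le
  intro p
  exact pCore_le_center hD h2 h3 p.1 p.2

theorem fitting_eq_center [Finite G] {D : Set G} (hD : IsThreeTranspositionClass D)
    (h2 : pCore 2 G ≤ Subgroup.center G) (h3 : pCore 3 G ≤ Subgroup.center G) :
    fittingSubgroup G = Subgroup.center G :=
  le_antisymm (fitting_le_center hD h2 h3) Cfsg.Agent.Helper29.center_le_fittingSubgroup

theorem exists_conj_of_class {D : Set G} (hD : IsThreeTranspositionClass D) {a b : G} (ha : a ∈ D)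
    (hb : b ∈ D) : ∃ g : G, g * a * g⁻¹ = b := by
  obtain ⟨-, ⟨d, -, hDd⟩, -⟩ := hD
  rw [hDd] at ha hb
  have h1 : IsConj d a := ha
  have h2 : IsConj d b := hb
  obtain ⟨g, hg⟩ := isConj_iff.1 (h1.symm.trans h2)
  exact ⟨g, hg⟩

/-- a component (normal) is not centralized by any member of `D` -/
theorem not_centralizes_component {D : Set G} (hD : IsThreeTranspositionClass D) {L : Subgroup G}
    [hLn : L.Normal] (hL : IsComponent L) {d : G} (hd : d ∈ D) : ¬ ∀ z ∈ L, Commute d z := by
  intro hc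
  have hall : ∀ e ∈ D, ∀ z ∈ L, Commute e z := by
    intro e he z hz
    obtain ⟨g, rfl⟩ := exists_conj_of_class hD hd he
    have h1 : g⁻¹ * z * g ∈ L := by
      have := hLn.conj_mem z hz g⁻¹
      rwa [inv_inv] at this
    have h2 := hc _ h1
    have h3 := (Commute.conj_iff (a := d) (b := g⁻¹ * z * g) g).2 h2
    have h4 : g * (g⁻¹ * z * g) * g⁻¹ = z := by group
    rwa [h4] at h3
  have hLc : L ≤ Subgroup.center G := le_center_of_forall_commute hD.2.2 hall
  have : ⁅L, L⁆ = ⊥ := by
    rw [Subgroup.commutator_eq_bot_iff_le_centralizer]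
    intro z hz
    rw [Subgroup.mem_centralizer_iff]
    intro w _
    have := hLc hz
    rw [Subgroup.mem_center_iff] at this
    exact this w
  exact Cfsg.Agent.Helper22.IsQuasisimple.not_commutator_eq_bot hL.2 this

/-- some `L`-conjugate of `d` does not commute with `d` -/
theorem exists_not_commute_conj {D : Set G} (hD : IsThreeTranspositionClass D) {L : Subgroup G}
    [hLn : L.Normal] (hL : IsComponent L) {d : G} (hd : d ∈ D) :
    ∃ x ∈ L, ¬ Commute d (x * d * x⁻¹) := by
  by_contra hcon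
  push Not at hcon
  have hT : TT D := TT.of_class hD
  have hdi := hT.inv_eq hd
  have hX : Subgroup.zpowers d ≤ Subgroup.normalizer (L : Set G) := by
    rw [Subgroup.normalizer_eq_top]; exact le_top
  rcases Cfsg.Agent.Helper30.component_commutator_eq_self_or_bot L (Subgroup.zpowers d) hL hX with h1 | h1
  · -- `L = [L, d]` is contained in the abelian group generated by the `L`-conjugates of `d`
    set E : Set G := {e | ∃ x ∈ L, e = x * d * x⁻¹} with hE
    have hEc : ∀ a ∈ E, ∀ b ∈ E, a * b = b * a := by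
      rintro a ⟨x, hx, rfl⟩ b ⟨y, hy, rfl⟩
      have h2 := hcon (x⁻¹ * y) (L.mul_mem (L.inv_mem hx) hy)
      have h3 := (Commute.conj_iff (a := d) (b := x⁻¹ * y * d * (x⁻¹ * y)⁻¹) x).2 h2
      have h4 : x * (x⁻¹ * y * d * (x⁻¹ * y)⁻¹) * x⁻¹ = y * d * y⁻¹ := by group
      rw [h4] at h3
      exact h3.eq
    have hNc : IsMulCommutative (Subgroup.closure E) := Subgroup.isMulCommutative_closure hEc
    have hle : ⁅L, Subgroup.zpowers d⁆ ≤ Subgroup.closure E := by
      rw [Subgroup.commutator_le]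
      intro l hl x hx
      obtain ⟨n, rfl⟩ := Subgroup.mem_zpowers_iff.1 hx
      have hd2 : d ^ (2 : ℤ) = 1 := by
        rw [zpow_two]; exact hT.sq d hd
      rcases Int.emod_two_eq_zero_or_one n with h0 | h0
      · have : d ^ n = 1 := by
          rw [← Int.emod_add_mul_ediv n 2, h0, zero_add, zpow_mul, hd2, one_zpow]
        rw [this]
        simp
      · have : d ^ n = d := by
          rw [← Int.emod_add_mul_ediv n 2, h0, zpow_add, zpow_mul, hd2, one_zpow, mul_one, zpow_one]
        rw [this, commutatorElement_def]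
        have e1 : l * d * l⁻¹ ∈ Subgroup.closure E := Subgroup.subset_closure ⟨l, hl, rfl⟩
        have e2 : d ∈ Subgroup.closure E := Subgroup.subset_closure ⟨1, L.one_mem, by simp⟩
        exact Subgroup.mul_mem _ e1 (Subgroup.inv_mem _ e2)
    rw [h1] at hle
    have : ⁅L, L⁆ = ⊥ := by
      rw [Subgroup.commutator_eq_bot_iff_le_centralizer]
      intro z hz
      rw [Subgroup.mem_centralizer_iff]
      intro w hw
      have := hNc.is_comm.comm ⟨w, hle hw⟩ ⟨z, hle hz⟩
      exact congrArg Subtype.val this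
    exact Cfsg.Agent.Helper22.IsQuasisimple.not_commutator_eq_bot hL.2 this
  · apply not_centralizes_component hD hL hd
    intro z hz
    rw [Subgroup.commutator_eq_bot_iff_le_centralizer] at h1
    have := h1 hz
    rw [Subgroup.mem_centralizer_iff] at this
    exact this d (Subgroup.mem_zpowers d)

end basic

theorem eq_two_pow_mul_three_pow : ∀ (n : ℕ), n ≠ 0 → (∀ p : ℕ, p.Prime → p ∣ n → p = 2 ∨ p = 3) →
    ∃ a b : ℕ, n = 2 ^ a * 3 ^ b := by
  intro n
  induction n using Nat.strong_induction_on with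
  | _ n ih =>
    intro hn h
    by_cases h1 : n = 1
    · exact ⟨0, 0, by simp [h1]⟩
    obtain ⟨p, hp, hpn⟩ := Nat.exists_prime_and_dvd h1
    obtain ⟨m, rfl⟩ := hpn
    have hm0 : m ≠ 0 := by
      rintro rfl; simp at hn
    have hlt : m < p * m := by
      have := hp.two_le
      have hm1 : 1 ≤ m := Nat.one_le_iff_ne_zero.2 hm0
      nlinarith
    obtain ⟨a, b, hab⟩ := ih m hlt hm0 (fun q hq hqm => h q hq (Dvd.dvd.mul_left hqm p))
    rcases h p hp (dvd_mul_right p m) with rfl | rfl
    · exact ⟨a + 1, b, by rw [hab]; ring⟩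
    · exact ⟨a, b + 1, by rw [hab]; ring⟩

/-- a finite group all of whose elements have order dividing 2 or 3 is solvable (via Burnside) -/
theorem isSolvable_of_sq_or_cube {Q : Type*} [Group Q] [Finite Q] (h : ∀ q : Q, q ^ 2 = 1 ∨ q ^ 3 = 1) :
    Group.IsSolvable Q := by
  have hcard : ∃ a b : ℕ, Nat.card Q = 2 ^ a * 3 ^ b := by
    apply eq_two_pow_mul_three_pow _ Nat.card_pos.ne'
    intro p hp hdvd
    have : Fact p.Prime := ⟨hp⟩
    obtain ⟨x, hx⟩ := exists_prime_orderOf_dvd_card' p hdvd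
    rcases h x with h2 | h3
    · left
      have := orderOf_dvd_of_pow_eq_one h2
      rw [hx] at this
      exact (Nat.prime_dvd_prime_iff_eq hp Nat.prime_two).1 this
    · right
      have := orderOf_dvd_of_pow_eq_one h3
      rw [hx] at this
      exact (Nat.prime_dvd_prime_iff_eq hp Nat.prime_three).1 this
  obtain ⟨a, b, hab⟩ := hcard
  exact Cfsg.Agent.Helper3.burnside_paqb 2 3 a b Nat.prime_two Nat.prime_three hab

section comp

variable {G : Type*} [Group G]

/-- every member of `D` normalizes every component -/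
theorem conj_component_eq [Finite G] {D : Set G} (hT : TT D) {L : Subgroup G} (hL : IsComponent L)
    {d : G} (hd : d ∈ D) : L.map (MulAut.conj d).toMonoidHom = L := by
  by_contra hne
  have hL' : IsComponent (L.map (MulAut.conj d).toMonoidHom) := Cfsg.Agent.Helper22.IsComponent.conj hL d
  have hcomm := Cfsg.Agent.Helper22.component_commute hL' hL hne
  rw [Subgroup.commutator_eq_bot_iff_le_centralizer] at hcomm
  have hdi := hT.inv_eq hd
  -- every element of `L` has square or cube centralizing `L`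
  have key : ∀ x ∈ L, (∀ z ∈ L, Commute (x ^ 2) z) ∨ (∀ z ∈ L, Commute (x ^ 3) z) := by
    intro x hx
    set y := d * x⁻¹ * d⁻¹ with hy
    have hyL' : y ∈ L.map (MulAut.conj d).toMonoidHom :=
      ⟨x⁻¹, L.inv_mem hx, rfl⟩
    have hyc : ∀ z ∈ L, z * y = y * z := by
      have := hcomm hyL'
      rw [Subgroup.mem_centralizer_iff] at this
      exact this
    have hyx : Commute y x := (hyc x hx).symm
    have he : x⁻¹ * d * x ∈ D := hT.conj' hd x
    have hprod : d * (x⁻¹ * d * x) = y * x := by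
      rw [hy, hdi]; group
    have hpow : ∀ n : ℕ, (d * (x⁻¹ * d * x)) ^ n = 1 → ∀ z ∈ L, Commute (x ^ n) z := by
      intro n hn z hz
      rw [hprod, hyx.mul_pow] at hn
      have hxn : x ^ n = (y ^ n)⁻¹ := eq_inv_of_mul_eq_one_right hn
      have hmem : (y ^ n)⁻¹ ∈ L.map (MulAut.conj d).toMonoidHom :=
        Subgroup.inv_mem _ (Subgroup.pow_mem _ hyL' n)
      have := hcomm hmem
      rw [Subgroup.mem_centralizer_iff] at this
      rw [hxn]
      exact (this z hz).symm
    rcases hT.prod d hd _ he with h2 | h3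
    · left; exact hpow 2 h2
    · right; exact hpow 3 h3
  -- so `L / Z(L)` is solvable
  have hQ : ∀ q : ↥L ⧸ Subgroup.center ↥L, q ^ 2 = 1 ∨ q ^ 3 = 1 := by
    intro q
    induction q using QuotientGroup.induction_on with
    | H x =>
      have hmk : ∀ n : ℕ, (∀ z ∈ L, Commute ((x : G) ^ n) z) →
          (QuotientGroup.mk x : ↥L ⧸ Subgroup.center ↥L) ^ n = 1 := by
        intro n hn
        rw [← QuotientGroup.mk_pow, QuotientGroup.eq_one_iff, Subgroup.mem_center_iff]
        intro z
        apply Subtype.ext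
        have := hn z z.2
        simpa using this.eq.symm
      rcases key x x.2 with h2 | h3
      · left; exact hmk 2 h2
      · right; exact hmk 3 h3
  have hsol : Group.IsSolvable (↥L ⧸ Subgroup.center ↥L) := isSolvable_of_sq_or_cube hQ
  have hsimple : IsSimpleGroup (↥L ⧸ Subgroup.center ↥L) := hL.2.2
  have hc := (IsSimpleGroup.comm_iff_isSolvable (G := ↥L ⧸ Subgroup.center ↥L)).2 hsol
  exact Cfsg.Agent.S1800.not_comm_central_quotient hL.2 ⟨⟨hc⟩⟩

/-- a component is normal in a group generated by a class of 3-transpositions -/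
theorem component_normal [Finite G] {D : Set G} (hT : TT D) (hgen : Subgroup.closure D = ⊤)
    {L : Subgroup G} (hL : IsComponent L) : L.Normal := by
  have hN : Subgroup.normalizer (L : Set G) = ⊤ := by
    rw [eq_top_iff, ← hgen, Subgroup.closure_le]
    intro d hd
    rw [SetLike.mem_coe, Subgroup.mem_normalizer_iff]
    intro x
    have h1 := conj_component_eq hT hL hd
    constructor
    · intro hx
      rw [← h1]
      exact ⟨x, hx, rfl⟩
    · intro hx
      rw [← h1] at hx
      obtain ⟨y, hy, hyx⟩ := hx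
      have : y = x := by
        simpa using hyx
      rwa [← this]
  exact Subgroup.normalizer_eq_top_iff.1 hN

end comp

theorem eq_one_of_sq_of_cube {M : Type*} [Monoid M] {z : M} (h2 : z ^ 2 = 1) (h3 : z ^ 3 = 1) : z = 1 := by
  have : z ^ 3 = z ^ 2 * z := pow_succ z 2
  rw [h3, h2, one_mul] at this
  exact this.symm

theorem abelian_normal_le_fitting {G : Type*} [Group G] {M : Subgroup G} (hM : M.Normal)
    (hc : ∀ a ∈ M, ∀ b ∈ M, a * b = b * a) : M ≤ fittingSubgroup G := by
  apply Cfsg.Agent.Helper22.le_fittingSubgroup hM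
  have : IsMulCommutative M := ⟨⟨fun a b => Subtype.ext (hc a a.2 b b.2)⟩⟩
  let _ : CommGroup M := { (inferInstance : Group M) with mul_comm := fun a b => Subtype.ext (hc a a.2 b b.2) }
  exact CommGroup.isNilpotent

/-- the key computation: `d^k d` has order dividing 3 for `k` centralizing the component `L` -/
theorem cube_conj_mul {G : Type*} [Group G] {D : Set G} (hT : TT D) {L : Subgroup G} [hLn : L.Normal]
    (hFZ : fittingSubgroup G ≤ Subgroup.center G)
    {d x : G} (hd : d ∈ D) (hx : x ∈ L) (hnc : ¬ Commute d (x * d * x⁻¹)) {k : G}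
    (hk : k ∈ Subgroup.centralizer (L : Set G)) : ((k * d * k⁻¹) * d) ^ 3 = 1 := by
  have hdi := hT.inv_eq hd
  have hKn : (Subgroup.centralizer (L : Set G)).Normal := Subgroup.normal_centralizer
  set y := (x * d * x⁻¹) * d with hy
  set u := (k * d * k⁻¹) * d with hu
  have hyL : y ∈ L := by
    have h1 : d * x⁻¹ * d⁻¹ ∈ L := hLn.conj_mem _ (L.inv_mem hx) d
    have h2 : y = x * (d * x⁻¹ * d⁻¹) := by rw [hy, hdi]; group
    rw [h2]; exact L.mul_mem hx h1
  have huK : u ∈ Subgroup.centralizer (L : Set G) := by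
    have h1 : d * k⁻¹ * d⁻¹ ∈ Subgroup.centralizer (L : Set G) := hKn.conj_mem _ (Subgroup.inv_mem _ hk) d
    have h2 : u = k * (d * k⁻¹ * d⁻¹) := by rw [hu, hdi]; group
    rw [h2]; exact Subgroup.mul_mem _ hk h1
  have hxd : x * d * x⁻¹ ∈ D := hT.conj x d hd
  have hy3 : y ^ 3 = 1 := by
    rcases hT.commute_or_cube hxd hd with hc | h3
    · exact absurd hc.symm hnc
    · exact h3
  have hyu : Commute y u := by
    rw [Subgroup.mem_centralizer_iff] at huK
    exact huK y hyL
  have hky : k * y = y * k := by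
    rw [Subgroup.mem_centralizer_iff] at hk
    exact (hk y hyL).symm
  have hprod : (k * x) * d * (k * x)⁻¹ * d = y * u := by
    have h1 : (k * x) * d * (k * x)⁻¹ * d = k * y * (d * k⁻¹ * d) := by
      rw [hy]
      have : d * d = 1 := hT.sq d hd
      calc (k * x) * d * (k * x)⁻¹ * d = k * (x * d * x⁻¹) * k⁻¹ * d := by group
        _ = k * (x * d * x⁻¹) * (d * d) * k⁻¹ * d := by rw [this, mul_one]
        _ = k * (x * d * x⁻¹ * d) * (d * k⁻¹ * d) := by group
    rw [h1, hky, hu]; group
  have hkxd : (k * x) * d * (k * x)⁻¹ ∈ D := hT.conj (k * x) d hd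
  rcases hT.prod _ hkxd d hd with h2 | h3
  · exfalso
    rw [hprod, hyu.mul_pow] at h2
    have hy2 : y ^ 2 = (u ^ 2)⁻¹ := eq_inv_of_mul_eq_one_left h2
    have hy2K : y ^ 2 ∈ Subgroup.centralizer (L : Set G) := by
      rw [hy2]; exact Subgroup.inv_mem _ (Subgroup.pow_mem _ huK 2)
    have hy4 : y = (y ^ 2) ^ 2 := by
      rw [← pow_mul]
      have : y ^ (2 * 2) = y ^ 3 * y := pow_succ y 3
      rw [this, hy3, one_mul]
    have hyK : y ∈ Subgroup.centralizer (L : Set G) := by
      rw [hy4]; exact Subgroup.pow_mem _ hy2K 2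
    have hM : (L ⊓ Subgroup.centralizer (L : Set G)).Normal := inferInstance
    have hMF : L ⊓ Subgroup.centralizer (L : Set G) ≤ fittingSubgroup G := by
      apply abelian_normal_le_fitting hM
      intro a ha b hb
      have hac : a ∈ Subgroup.centralizer (L : Set G) := ha.2
      rw [Subgroup.mem_centralizer_iff] at hac
      exact (hac b hb.1).symm
    have hyZ : y ∈ Subgroup.center G := hFZ (hMF ⟨hyL, hyK⟩)
    have hinv : d * y * d⁻¹ = y⁻¹ := by
      have h1 : y⁻¹ = d⁻¹ * x * d⁻¹ * x⁻¹ := by rw [hy]; group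
      have h2 : d * y * d⁻¹ = d * x * d * x⁻¹ := by rw [hy]; group
      rw [h1, h2, hdi]
    have hcen : d * y * d⁻¹ = y := by
      rw [Subgroup.mem_center_iff] at hyZ
      rw [hyZ d]; group
    have hyy : y ^ 2 = 1 := by
      rw [pow_two]
      have : y⁻¹ = y := by rw [← hinv, hcen]
      calc y * y = y⁻¹ * y := by rw [this]
        _ = 1 := inv_mul_cancel y
    have hy1 : y = 1 := eq_one_of_sq_of_cube hyy hy3
    apply hnc
    have : x * d * x⁻¹ = d := by
      have h1 : x * d * x⁻¹ = y * d⁻¹ := by rw [hy]; group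
      rw [h1, hy1, one_mul, hdi]
    rw [this]
  · rw [hprod, hyu.mul_pow, hy3, one_mul] at h3
    exact h3

theorem conj_mem_closure {G : Type*} [Group G] {S : Set G} {g : G}
    (hS : ∀ s ∈ S, g * s * g⁻¹ ∈ Subgroup.closure S) :
    ∀ h ∈ Subgroup.closure S, g * h * g⁻¹ ∈ Subgroup.closure S := by
  intro h hh
  induction hh using Subgroup.closure_induction with
  | mem a ha => exact hS a ha
  | one => simp
  | mul a b _ _ iha ihb =>
    have : g * (a * b) * g⁻¹ = (g * a * g⁻¹) * (g * b * g⁻¹) := by group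
    rw [this]; exact Subgroup.mul_mem _ iha ihb
  | inv a _ iha =>
    have : g * a⁻¹ * g⁻¹ = (g * a * g⁻¹)⁻¹ := by group
    rw [this]; exact Subgroup.inv_mem _ iha

/-- a subgroup normalizes the closure of a set which it maps into itself under conjugation -/
theorem le_normalizer_closure {G : Type*} [Group G] {S : Set G} {K : Subgroup G}
    (hS : ∀ k ∈ K, ∀ s ∈ S, k * s * k⁻¹ ∈ S) : K ≤ Subgroup.normalizer (Subgroup.closure S : Set G) := by
  intro k hk
  rw [Subgroup.mem_normalizer_iff]
  intro h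
  constructor
  · exact conj_mem_closure (fun s hs => Subgroup.subset_closure (hS k hk s hs)) h
  · intro hh
    have := conj_mem_closure (g := k⁻¹) (fun s hs => Subgroup.subset_closure (hS k⁻¹ (K.inv_mem hk) s hs)) _ hh
    have e : k⁻¹ * (k * h * k⁻¹) * k⁻¹⁻¹ = h := by group
    rwa [e] at this

/-- members of `D` commute with the centralizer of a normal component, given the cube relation -/
theorem commute_centralizer_of_cube (h : Cfsg.Agent.Helper20.ZStarHyp.{u}) {G : Type u} [Group G]
    [Finite G] {D : Set G} (hT : TT D) (hne1 : ∀ e ∈ D, e ≠ 1) {L : Subgroup G} [hLn : L.Normal]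
    (h3 : pCore 3 G ≤ Subgroup.center G) {d : G} (hd : d ∈ D)
    (hcube : ∀ k ∈ Subgroup.centralizer (L : Set G), ((k * d * k⁻¹) * d) ^ 3 = 1) :
    ∀ k ∈ Subgroup.centralizer (L : Set G), Commute d k := by
  have : Fact (Nat.Prime 3) := ⟨Nat.prime_three⟩
  have hdi := hT.inv_eq hd
  have hdd : d * d = 1 := hT.sq d hd
  set K := Subgroup.centralizer (L : Set G) with hK
  have hKn : K.Normal := Subgroup.normal_centralizer
  set E : Set G := {e | ∃ k ∈ K, e = k * d * k⁻¹} with hE
  have hED : E ⊆ D := by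
    rintro e ⟨k, -, rfl⟩
    exact hT.conj k d hd
  have hdE : d ∈ E := ⟨1, K.one_mem, by simp⟩
  have hKE : ∀ k ∈ K, ∀ e ∈ E, k * e * k⁻¹ ∈ E := by
    rintro k hk e ⟨k₁, hk₁, rfl⟩
    exact ⟨k * k₁, K.mul_mem hk hk₁, by group⟩
  -- `E` has width one
  have hw : ∀ a ∈ E, ∀ b ∈ E, Commute a b → a = b := by
    rintro a ⟨k₁, hk₁, rfl⟩ b ⟨k₂, hk₂, rfl⟩ hc
    set k := k₁⁻¹ * k₂ with hkdef
    have hkK : k ∈ K := K.mul_mem (K.inv_mem hk₁) hk₂
    have hc' : Commute d (k * d * k⁻¹) := by
      have h1 := (Commute.conj_iff (a := k₁ * d * k₁⁻¹) (b := k₂ * d * k₂⁻¹) k₁⁻¹).2 hc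
      have e1 : k₁⁻¹ * (k₁ * d * k₁⁻¹) * k₁⁻¹⁻¹ = d := by group
      have e2 : k₁⁻¹ * (k₂ * d * k₂⁻¹) * k₁⁻¹⁻¹ = k * d * k⁻¹ := by rw [hkdef]; group
      rwa [e1, e2] at h1
    have hv3 := hcube k hkK
    have hv2 : ((k * d * k⁻¹) * d) ^ 2 = 1 := by
      rw [pow_two]
      apply sq_eq_one_of_commute _ hdd hc'.symm
      calc k * d * k⁻¹ * (k * d * k⁻¹) = k * (d * d) * k⁻¹ := by group
        _ = 1 := by rw [hdd, mul_one, mul_inv_cancel]
    have hv1 := eq_one_of_sq_of_cube hv2 hv3
    have hkd : k * d * k⁻¹ = d := by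
      have := eq_inv_of_mul_eq_one_left hv1
      rw [this, hdi]
    have : k₂ * d * k₂⁻¹ = k₁ * (k * d * k⁻¹) * k₁⁻¹ := by rw [hkdef]; group
    rw [this, hkd]
  have hconj : ∀ a ∈ E, ∀ e ∈ E, a * e * a⁻¹ ∈ E := by
    rintro a ⟨k₁, hk₁, rfl⟩ e ⟨k₂, hk₂, rfl⟩
    refine ⟨k₁ * (d * (k₁⁻¹ * k₂) * d⁻¹), K.mul_mem hk₁ (hKn.conj_mem _ (K.mul_mem (K.inv_mem hk₁) hk₂) d), ?_⟩
    have e1 : k₁ * d * k₁⁻¹ * (k₂ * d * k₂⁻¹) * (k₁ * d * k₁⁻¹)⁻¹ =
        k₁ * d * (k₁⁻¹ * k₂) * d * (k₁⁻¹ * k₂)⁻¹ * d⁻¹ * k₁⁻¹ := by group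
    have e2 : k₁ * (d * (k₁⁻¹ * k₂) * d⁻¹) * d * (k₁ * (d * (k₁⁻¹ * k₂) * d⁻¹))⁻¹ =
        k₁ * d * (k₁⁻¹ * k₂) * (d⁻¹ * d) * d * (k₁⁻¹ * k₂)⁻¹ * d⁻¹ * k₁⁻¹ := by group
    rw [e1, e2, inv_mul_cancel, mul_one]
  obtain ⟨Q, hQ, hQmem⟩ := Cfsg.Agent.Helper49.width_one_sub h hT hED (fun e he => hne1 e (hED he)) hw hconj
  set S : Set G := {g | ∃ a ∈ E, ∃ b ∈ E, g = a * b} with hS
  set R := Subgroup.closure S with hR
  have hRQ : R ≤ Q := by
    rw [hR, Subgroup.closure_le]
    rintro g ⟨a, ha, b, hb, rfl⟩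
    exact hQmem a ha b hb
  have hRp : IsPGroup 3 R := hQ.to_le hRQ
  have hRK : R ≤ K := by
    rw [hR, Subgroup.closure_le]
    rintro g ⟨a, ⟨k₁, hk₁, rfl⟩, b, ⟨k₂, hk₂, rfl⟩, rfl⟩
    have e1 : k₁ * d * k₁⁻¹ * (k₂ * d * k₂⁻¹) = k₁ * (d * (k₁⁻¹ * k₂) * d⁻¹) * k₂⁻¹ := by
      rw [hdi]; group
    rw [e1]
    exact K.mul_mem (K.mul_mem hk₁ (hKn.conj_mem _ (K.mul_mem (K.inv_mem hk₁) hk₂) d)) (K.inv_mem hk₂)
  have hKR : K ≤ Subgroup.normalizer (R : Set G) := by
    apply le_normalizer_closure
    rintro k hk g ⟨a, ha, b, hb, rfl⟩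
    exact ⟨k * a * k⁻¹, hKE k hk a ha, k * b * k⁻¹, hKE k hk b hb, by group⟩
  have hRO : R ≤ pCore 3 G :=
    Cfsg.Agent.Helper22.le_pCore_of_subnormal hKn.isSubnormal hRK hKR hRp
  intro k hk
  set z := (k * d * k⁻¹) * d with hz
  have hzR : z ∈ R := Subgroup.subset_closure ⟨k * d * k⁻¹, ⟨k, hk, rfl⟩, d, hdE, rfl⟩
  have hzZ : z ∈ Subgroup.center G := h3 (hRO hzR)
  have hz3 : z ^ 3 = 1 := hcube k hk
  have hinv : d * z * d⁻¹ = z⁻¹ := by
    have h1 : z⁻¹ = d⁻¹ * k * d⁻¹ * k⁻¹ := by rw [hz]; group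
    have h2 : d * z * d⁻¹ = d * k * d * k⁻¹ := by rw [hz]; group
    rw [h1, h2, hdi]
  have hcen : d * z * d⁻¹ = z := by
    rw [Subgroup.mem_center_iff] at hzZ
    rw [hzZ d]; group
  have hzz : z ^ 2 = 1 := by
    rw [pow_two]
    have : z⁻¹ = z := by rw [← hinv, hcen]
    calc z * z = z⁻¹ * z := by rw [this]
      _ = 1 := inv_mul_cancel z
  have hz1 : z = 1 := eq_one_of_sq_of_cube hzz hz3
  have hkd : k * d * k⁻¹ = d := by
    have := eq_inv_of_mul_eq_one_left hz1
    rw [this, hdi]
  show d * k = k * d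
  calc d * k = (k * d * k⁻¹) * k := by rw [hkd]
    _ = k * d := by group


/-- **Step D**: the centralizer of a (normal) component is central -/
theorem centralizer_component_le_center (h : Cfsg.Agent.Helper20.ZStarHyp.{u}) {G : Type u} [Group G]
    [Finite G] {D : Set G} (hD : IsThreeTranspositionClass D)
    (hFZ : fittingSubgroup G ≤ Subgroup.center G) (h3 : pCore 3 G ≤ Subgroup.center G)
    {L : Subgroup G} [hLn : L.Normal] (hL : IsComponent L) :
    Subgroup.centralizer (L : Set G) ≤ Subgroup.center G := by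
  have hT : TT D := TT.of_class hD
  have hne1 : ∀ e ∈ D, e ≠ 1 := by
    intro e he h1
    have := hD.1.1 e he
    rw [h1, orderOf_one] at this
    omega
  apply le_center_of_forall_commute hD.2.2
  intro d hd k hk
  obtain ⟨x, hx, hnc⟩ := exists_not_commute_conj hD hL hd
  exact commute_centralizer_of_cube h hT hne1 h3 hd
    (fun k hk => cube_conj_mul hT hFZ hd hx hnc hk) k hk

/-- a group generated by a class of at least two 3-transpositions is not abelian: no member is central -/
theorem not_mem_center {G : Type*} [Group G] {D : Set G} (hD : IsThreeTranspositionClass D)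
    (hD2 : ∃ a ∈ D, ∃ b ∈ D, a ≠ b) {d : G} (hd : d ∈ D) : d ∉ Subgroup.center G := by
  intro hc
  obtain ⟨a, ha, b, hb, hab⟩ := hD2
  obtain ⟨g, hg⟩ := exists_conj_of_class hD hd ha
  obtain ⟨g', hg'⟩ := exists_conj_of_class hD hd hb
  rw [Subgroup.mem_center_iff] at hc
  have h1 : a = d := by rw [← hg, hc g]; group
  have h2 : b = d := by rw [← hg', hc g']; group
  exact hab (h1.trans h2.symm)

/-- **existence and uniqueness of the component** -/
theorem exists_component (h : Cfsg.Agent.Helper20.ZStarHyp.{u}) {G : Type u} [Group G]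
    [Finite G] {D : Set G} (hD : IsThreeTranspositionClass D) (hD2 : ∃ a ∈ D, ∃ b ∈ D, a ≠ b)
    (h2 : pCore 2 G ≤ Subgroup.center G) (h3 : pCore 3 G ≤ Subgroup.center G) :
    ∃ L : Subgroup G, L.Normal ∧ IsComponent L ∧
      Subgroup.centralizer (L : Set G) ≤ Subgroup.center G ∧ layer G = L := by
  have hT : TT D := TT.of_class hD
  have hFZ := fitting_le_center hD h2 h3
  have hex : ∃ L : Subgroup G, IsComponent L := by
    by_contra hno
    push Not at hno
    have hlay : layer G = ⊥ := Cfsg.Agent.Helper22.layer_eq_bot_iff.2 hno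
    have hF : generalizedFittingSubgroup G ≤ Subgroup.center G := by
      rw [Cfsg.Agent.Helper22.generalizedFittingSubgroup_eq, hlay, bot_sup_eq]
      exact hFZ
    have hB := Cfsg.Agent.Helper22.centralizer_generalizedFittingSubgroup_le (G := G)
    obtain ⟨a, ha, -⟩ := id hD2
    apply not_mem_center hD hD2 ha
    apply hF
    apply hB
    rw [Subgroup.mem_centralizer_iff]
    intro z hz
    have := hF hz
    rw [Subgroup.mem_center_iff] at this
    exact (this a).symm
  obtain ⟨L, hL⟩ := hex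
  have hLn : L.Normal := component_normal hT hD.2.2 hL
  have hCL := centralizer_component_le_center h hD hFZ h3 hL
  refine ⟨L, hLn, hL, hCL, ?_⟩
  have huniq : ∀ K : Subgroup G, IsComponent K → K = L := by
    intro K hK
    by_contra hne
    have hc := Cfsg.Agent.Helper22.component_commute hK hL hne
    rw [Subgroup.commutator_eq_bot_iff_le_centralizer] at hc
    have hKZ : K ≤ Subgroup.center G := hc.trans hCL
    have : ⁅K, K⁆ = ⊥ := by
      rw [Subgroup.commutator_eq_bot_iff_le_centralizer]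
      intro z hz
      rw [Subgroup.mem_centralizer_iff]
      intro w _
      have := hKZ hz
      rw [Subgroup.mem_center_iff] at this
      exact this w
    exact Cfsg.Agent.Helper22.IsQuasisimple.not_commutator_eq_bot hK.2 this
  apply le_antisymm
  · apply sSup_le
    intro K hK
    rw [huniq K hK]
  · exact Cfsg.Agent.Helper22.IsComponent.le_layer hL

/-- `[L, <d>] ≤ N` as soon as the commutators `[l, d]` lie in `N`, for an involution `d` -/
theorem commutator_zpowers_le {G : Type*} [Group G] {L N : Subgroup G} {d : G} (hdd : d * d = 1)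
    (hN : ∀ l ∈ L, l * d * l⁻¹ * d⁻¹ ∈ N) : ⁅L, Subgroup.zpowers d⁆ ≤ N := by
  rw [Subgroup.commutator_le]
  intro l hl x hx
  obtain ⟨n, rfl⟩ := Subgroup.mem_zpowers_iff.1 hx
  have hd2 : d ^ (2 : ℤ) = 1 := by
    rw [zpow_two]; exact hdd
  rcases Int.emod_two_eq_zero_or_one n with h0 | h0
  · have : d ^ n = 1 := by
      rw [← Int.emod_add_mul_ediv n 2, h0, zero_add, zpow_mul, hd2, one_zpow]
    rw [this]
    simp
  · have : d ^ n = d := by
      rw [← Int.emod_add_mul_ediv n 2, h0, zpow_add, zpow_mul, hd2, one_zpow, mul_one, zpow_one]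
    rw [this, commutatorElement_def]
    exact hN l hl

/-- **Step F**: modulo a normal component, `D` has width one -/
theorem mul_mem_of_commutator_mem {G : Type*} [Group G] {D : Set G}
    (hD : IsThreeTranspositionClass D) {L : Subgroup G} [hLn : L.Normal] (hL : IsComponent L) :
    ∀ a ∈ D, ∀ b ∈ D, a * b * a⁻¹ * b⁻¹ ∈ L → a⁻¹ * b ∈ L := by
  have hT : TT D := TT.of_class hD
  -- non-commuting case
  have hnc : ∀ a ∈ D, ∀ b ∈ D, ¬ Commute a b → a * b * a⁻¹ * b⁻¹ ∈ L → a * b ∈ L := by
    intro a ha b hb hnc hab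
    rw [hT.inv_eq ha, hT.inv_eq hb] at hab
    have h3 : (a * b) ^ 3 = 1 := by
      rcases hT.commute_or_cube ha hb with hc | h3
      · exact absurd hc hnc
      · exact h3
    have h4 : a * b = (a * b * a * b) * (a * b * a * b) := by
      have e1 : (a * b * a * b) * (a * b * a * b) = (a * b) ^ 3 * (a * b) := by
        rw [pow_succ, pow_two]; group
      rw [e1, h3, one_mul]
    rw [h4]
    exact L.mul_mem hab hab
  intro a ha b hb hab
  rw [hT.inv_eq ha]
  by_cases hc : Commute a b
  · by_contra hnot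
    have hai := hT.inv_eq ha
    have hbi := hT.inv_eq hb
    have hab1 : a * b * (a * b) = 1 := sq_eq_one_of_commute (hT.sq a ha) (hT.sq b hb) hc
    -- `b` commutes with all `L`-conjugates of `a`
    have hall : ∀ x ∈ L, Commute b (x * a * x⁻¹) := by
      intro x hx
      by_contra hncx
      have hxa : x * a * x⁻¹ ∈ D := hT.conj x a ha
      set l := x * a * x⁻¹ * a⁻¹ with hl
      have hlL : l ∈ L := by
        have h1 : a * x⁻¹ * a⁻¹ ∈ L := hLn.conj_mem _ (L.inv_mem hx) a
        have h2 : l = x * (a * x⁻¹ * a⁻¹) := by rw [hl]; group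
        rw [h2]; exact L.mul_mem hx h1
      have hxa' : x * a * x⁻¹ = l * a := by rw [hl]; group
      have hcomm : (x * a * x⁻¹) * b * (x * a * x⁻¹)⁻¹ * b⁻¹ ∈ L := by
        rw [hT.inv_eq hxa, hbi, hxa']
        have e1 : l * a * b * (l * a) * b = l * ((a * b) * l * (a * b)⁻¹) * (a * b * (a * b)) := by
          group
        rw [e1, hab1, mul_one]
        exact L.mul_mem hlL (hLn.conj_mem _ hlL _)
      have h5 := hnc _ hxa b hb (fun hh => hncx hh.symm) hcomm
      rw [hxa'] at h5
      apply hnot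
      have e2 : a * b = l⁻¹ * (l * a * b) := by group
      rw [e2]
      exact L.mul_mem (L.inv_mem hlL) h5
    -- hence `b` centralizes `[L, a] = L`
    have hX : Subgroup.zpowers a ≤ Subgroup.normalizer (L : Set G) := by
      rw [Subgroup.normalizer_eq_top]; exact le_top
    have hLa : ⁅L, Subgroup.zpowers a⁆ = L := by
      rcases Cfsg.Agent.Helper30.component_commutator_eq_self_or_bot L (Subgroup.zpowers a) hL hX with h1 | h1
      · exact h1
      · exfalso
        apply not_centralizes_component hD hL ha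
        intro z hz
        rw [Subgroup.commutator_eq_bot_iff_le_centralizer] at h1
        have := h1 hz
        rw [Subgroup.mem_centralizer_iff] at this
        exact this a (Subgroup.mem_zpowers a)
    have hle : ⁅L, Subgroup.zpowers a⁆ ≤ Subgroup.centralizer ({b} : Set G) := by
      apply commutator_zpowers_le (hT.sq a ha)
      intro l hl
      rw [Subgroup.mem_centralizer_iff]
      intro y hy
      rw [Set.mem_singleton_iff] at hy
      subst hy
      have h1 := hall l hl
      have h2 : Commute y a⁻¹ := by rw [hai]; exact hc.symm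
      exact (h1.mul_right h2).eq
    rw [hLa] at hle
    apply not_centralizes_component hD hL hb
    intro z hz
    have := hle hz
    rw [Subgroup.mem_centralizer_iff] at this
    exact (this b rfl)
  · exact hnc a ha b hb hc hab

/-- a normal subgroup which together with an involution generates the group has index at most 2 -/
theorem index_le_two_of_sup {G : Type*} [Group G] {L : Subgroup G} [hLn : L.Normal] {d : G}
    (hdd : d * d = 1) (hsup : L ⊔ Subgroup.zpowers d = ⊤) : L.index ≤ 2 := by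
  have h1 : L.relIndex (L ⊔ Subgroup.zpowers d) = L.relIndex (Subgroup.zpowers d) :=
    Subgroup.relIndex_sup_left _ _
  rw [hsup, Subgroup.relIndex_top_right] at h1
  rw [h1]
  have h2 : L.relIndex (Subgroup.zpowers d) ∣ Nat.card (Subgroup.zpowers d) :=
    Subgroup.relIndex_dvd_card _ _
  rw [Nat.card_zpowers] at h2
  have h3 : orderOf d ∣ 2 := orderOf_dvd_of_pow_eq_one (by rw [pow_two]; exact hdd)
  exact Nat.le_of_dvd (by norm_num) (h2.trans h3)

/-- if all members of `D` are congruent modulo `L`, then `L` has index at most 2 -/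
theorem index_le_two_of_forall_mem {G : Type*} [Group G] {D : Set G} (hT : TT D)
    (hgen : Subgroup.closure D = ⊤) {L : Subgroup G} [hLn : L.Normal] {d : G} (hd : d ∈ D)
    (hall : ∀ e ∈ D, d⁻¹ * e ∈ L) : L.index ≤ 2 := by
  apply index_le_two_of_sup (hT.sq d hd)
  rw [eq_top_iff, ← hgen, Subgroup.closure_le]
  intro e he
  have h1 : e = (d * (d⁻¹ * e) * d⁻¹) * d := by group
  rw [SetLike.mem_coe, h1]
  exact Subgroup.mul_mem _ (Subgroup.mem_sup_left (hLn.conj_mem _ (hall e he) d))
    (Subgroup.mem_sup_right (Subgroup.mem_zpowers d))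

/-- **Theorem W, component structure** (the statement of S5352), from the `Z*`-hypothesis -/
theorem component_structure (h : Cfsg.Agent.Helper20.ZStarHyp.{u}) {G : Type u} [Group G] [Finite G]
    {D : Set G} (hD : Cfsg.IsThreeTranspositionClass D) (hD2 : ∃ a ∈ D, ∃ b ∈ D, a ≠ b)
    (h2 : Cfsg.pCore 2 G ≤ Subgroup.center G) (h3 : Cfsg.pCore 3 G ≤ Subgroup.center G) :
    ∃ L : Subgroup G, L.Normal ∧ Cfsg.IsQuasisimple L ∧
      Cfsg.generalizedFittingSubgroup G = L ⊔ Subgroup.center G ∧
      (L = ⊤ ∨ ∀ a ∈ D, ∀ b ∈ D, a * b * a⁻¹ * b⁻¹ ∈ L → a⁻¹ * b ∈ L) := by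
  obtain ⟨L, hLn, hL, hCL, hlay⟩ := exists_component h hD hD2 h2 h3
  refine ⟨L, hLn, hL.2, ?_, Or.inr ?_⟩
  · rw [Cfsg.Agent.Helper22.generalizedFittingSubgroup_eq, hlay, fitting_eq_center hD h2 h3]
  · exact mul_mem_of_commutator_mem hD hL

end Cfsg.Agent.Helper88.TTStruct
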