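import Mathlib
import Cfsg.Agent.Lib.Helper88.TTBlock
import Cfsg.Agent.Lib.Helper88.TTStruct
import Cfsg.Agent.S5349

set_option autoImplicit false

namespace Cfsg.Agent.Helper88.TTPrim

open Cfsg Cfsg.Agent.Helper88 Cfsg.Agent.Helper88.TTBlock Cfsg.Agent.Helper88.TTStruct
open scoped commutatorElement

variable {G : Type*} [Group G]

/-- if `O_2(G)` is central then members of `D` with the same commuting partners are equal -/
theorem eq_of_sim [Finite G] {D : Set G} (hD : IsThreeTranspositionClass D)
    (hD2 : ∃ a ∈ D, ∃ b ∈ D, a ≠ b) (h2 : pCore 2 G ≤ Subgroup.center G) {a v : G} (ha : a ∈ D)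
    (hv : v ∈ D) (hs : ∀ e ∈ D, Commute v e ↔ Commute a e) : v = a := by
  have h := (Cfsg.Agent.S5349.result hD hD2 ha).2
  have hv' : v ∈ {v : G | v ∈ D ∧ ∀ e ∈ D, Commute v e ↔ Commute a e} := ⟨hv, hs⟩
  rw [h] at hv'
  obtain ⟨g, hg, rfl⟩ := hv'
  have := h2 hg
  rw [Subgroup.mem_center_iff] at this
  rw [← this a]; group

/-- **index at most two implies primitive** -/
theorem primitive_of_index_le_two [Finite G] {D : Set G} (hD : IsThreeTranspositionClass D)
    (hD2 : ∃ a ∈ D, ∃ b ∈ D, a ≠ b) (h2 : pCore 2 G ≤ Subgroup.center G) {L : Subgroup G}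
    [hLn : L.Normal] (hL : IsComponent L)
    (hCL : Subgroup.centralizer (L : Set G) ≤ Subgroup.center G) (hidx : L.index ≤ 2) :
    IsPrimitiveUnderConj D := by
  have hT : TT D := TT.of_class hD
  refine ⟨fun a ha b hb => exists_conj_of_class hD ha hb, hD2, ?_⟩
  intro B hBD hB
  by_contra hcon
  push Not at hcon
  obtain ⟨hns, hne⟩ := hcon
  have hB' : IsBlock B := hB
  obtain ⟨a, ha, a', ha', haa'⟩ := hns
  have haD := hBD ha
  have ha'D := hBD ha'
  have hker : a * a' ∈ (stab B).normalCore := mul_mem_normalCore hT hBD hB' ha ha'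
  have hNn : ((stab B).normalCore).Normal := Subgroup.normalCore_normal _
  rcases Cfsg.Agent.Helper22.component_le_or_commutator_eq_bot hL hNn.isSubnormal with hle | hbot
  · -- `L` fixes `B`; so does `a`; hence everything does
    have hLs : L ≤ stab B := hle.trans (Subgroup.normalCore_le _)
    have has : a ∈ stab B := by
      rw [mem_stab]; exact hB'.cj_eq_of_mem (self_mem_cj ha) ha
    have htop : stab B = ⊤ := by
      have h1 := Subgroup.relIndex_mul_index hLs
      have hi0 : L.index ≠ 0 := Subgroup.index_ne_zero_of_finite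
      have hs0 : (stab B).index ≠ 0 := Subgroup.index_ne_zero_of_finite
      have hr0 : L.relIndex (stab B) ≠ 0 := by
        intro h0; rw [h0, zero_mul] at h1; exact hi0 h1.symm
      by_cases hs1 : (stab B).index = 1
      · exact Subgroup.index_eq_one.1 hs1
      · have hr1 : L.relIndex (stab B) = 1 := by
          by_contra hr1
          have h2' : 2 ≤ L.relIndex (stab B) := by omega
          have h3' : 2 ≤ (stab B).index := by omega
          have : 4 ≤ L.relIndex (stab B) * (stab B).index := Nat.mul_le_mul h2' h3'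
          omega
        have hsL : stab B ≤ L := Subgroup.relIndex_eq_one.1 hr1
        have haL : a ∈ L := hsL has
        have hDL : D ⊆ L := by
          intro e he
          obtain ⟨g, rfl⟩ := exists_conj_of_class hD haD he
          exact hLn.conj_mem a haL g
        have hLtop : L = ⊤ := by
          rw [eq_top_iff, ← hD.2.2, Subgroup.closure_le]
          exact hDL
        rw [eq_top_iff, ← hLtop]
        exact hLs
    apply hne
    apply Set.Subset.antisymm hBD
    intro e he
    obtain ⟨g, rfl⟩ := exists_conj_of_class hD haD he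
    have hg : g ∈ stab B := by rw [htop]; trivial
    rw [mem_stab] at hg
    rw [← hg]
    exact conj_mem_cj ha
  · -- the kernel is central
    rw [Subgroup.commutator_eq_bot_iff_le_centralizer, Subgroup.le_centralizer_iff] at hbot
    have hz : a * a' ∈ Subgroup.center G := hCL (hbot hker)
    rw [Subgroup.mem_center_iff] at hz
    apply haa'
    symm
    apply eq_of_sim hD hD2 h2 haD ha'D
    intro e he
    have hai := hT.inv_eq haD
    have e1 : a' = a * (a * a') := by
      rw [← mul_assoc, hT.sq a haD, one_mul]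
    constructor
    · intro hc
      have h5 : Commute (a * a') e := (hz e).symm
      have h6 : Commute (a * (a * a')) e := by rw [← e1]; exact hc
      have h7 : Commute (a * (a * a') * (a * a')⁻¹) e := h6.mul_left h5.inv_left
      rwa [mul_inv_cancel_right] at h7
    · intro hc
      have h5 : Commute (a * a') e := (hz e).symm
      rw [e1]
      exact hc.mul_left h5

theorem commutingGraph_adj {D : Set G} {a b : D} :
    (commutingGraph D).Adj a b ↔ a ≠ b ∧ Commute (a : G) (b : G) := by
  unfold commutingGraph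
  rw [SimpleGraph.fromRel_adj]
  constructor
  · rintro ⟨hne, h | h⟩
    · exact ⟨hne, h⟩
    · exact ⟨hne, h.symm⟩
  · rintro ⟨hne, h⟩
    exact ⟨hne, Or.inl h⟩

/-- **connected commuting graph implies index at most two** -/
theorem index_le_two_of_connected {D : Set G} (hD : IsThreeTranspositionClass D) {L : Subgroup G}
    [hLn : L.Normal] (hL : IsComponent L) (hconn : (commutingGraph D).Connected) : L.index ≤ 2 := by
  have hT : TT D := TT.of_class hD
  obtain ⟨d, hd, -⟩ := hD.2.1
  apply index_le_two_of_forall_mem hT hD.2.2 hd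
  intro e he
  have hreach : (commutingGraph D).Reachable ⟨d, hd⟩ ⟨e, he⟩ := hconn.preconnected _ _
  have := reachable_mem_of_closed (commutingGraph D) {v : D | d⁻¹ * (v : G) ∈ L} ?_
    (a := ⟨d, hd⟩) (by simp) hreach
  · exact this
  · intro a ha v hav
    rw [commutingGraph_adj] at hav
    have h1 : (a : G) * v * (a : G)⁻¹ * (v : G)⁻¹ ∈ L := by
      have : (a : G) * v * (a : G)⁻¹ * (v : G)⁻¹ = 1 := by
        rw [hav.2.eq]; group
      rw [this]; exact L.one_mem
    have h2 := mul_mem_of_commutator_mem hD hL a a.2 v v.2 h1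
    have h3 : d⁻¹ * (v : G) = (d⁻¹ * (a : G)) * ((a : G)⁻¹ * v) := by group
    show d⁻¹ * (v : G) ∈ L
    rw [h3]
    exact L.mul_mem ha h2

universe u

/-- the statement of S5353, from the `Z*`-hypothesis -/
theorem connected_index_two_primitive (h : Cfsg.Agent.Helper20.ZStarHyp.{u}) {G : Type u} [Group G]
    [Finite G] {D : Set G} (hD : Cfsg.IsThreeTranspositionClass D) (hD2 : ∃ a ∈ D, ∃ b ∈ D, a ≠ b)
    (h2 : Cfsg.pCore 2 G ≤ Subgroup.center G) (h3 : Cfsg.pCore 3 G ≤ Subgroup.center G)
    (L : Subgroup G) [hLn : L.Normal] (hL : Cfsg.IsQuasisimple L) :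
    (L.index ≤ 2 → Cfsg.IsPrimitiveUnderConj D) ∧
      ((Cfsg.commutingGraph D).Connected → L.index ≤ 2) := by
  have hLc : IsComponent L := ⟨hLn.isSubnormal, hL⟩
  have hCL := centralizer_component_le_center h hD (fitting_le_center hD h2 h3) h3 hLc
  exact ⟨fun hidx => primitive_of_index_le_two hD hD2 h2 hLc hCL hidx,
    fun hc => index_le_two_of_connected hD hLc hc⟩

theorem commutingGraph_conj {G : Type*} [Group G] {D : Set G} (hconj : ∀ g : G, ∀ x ∈ D, g * x * g⁻¹ ∈ D)
    (g : G) (a b : D) (hab : (commutingGraph D).Adj a b) :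
    (commutingGraph D).Adj (conjD hconj g a) (conjD hconj g b) := by
  rw [commutingGraph_adj] at hab ⊢
  refine ⟨?_, ?_⟩
  · intro h
    apply hab.1
    have h1 : g * (a : G) * g⁻¹ = g * (b : G) * g⁻¹ := congrArg Subtype.val h
    apply Subtype.ext
    have h2 := congrArg (fun x => g⁻¹ * x * g) h1
    simpa [mul_assoc] using h2
  · exact (Commute.conj_iff g).2 hab.2

/-- primitivity forces `O_2`, `O_3` central and the commuting graph connected -/
theorem cores_central_of_primitive (h : Cfsg.Agent.Helper20.ZStarHyp.{u}) {G : Type u} [Group G]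
    [Finite G] {D : Set G} (hD : IsThreeTranspositionClass D) (hprim : IsPrimitiveUnderConj D)
    (hw : ∃ a ∈ D, ∃ b ∈ D, a ≠ b ∧ Commute a b) :
    pCore 2 G ≤ Subgroup.center G ∧ pCore 3 G ≤ Subgroup.center G ∧
      (commutingGraph D).Connected := by
  have hT : TT D := TT.of_class hD
  have hD2 : ∃ a ∈ D, ∃ b ∈ D, a ≠ b := hprim.2.1
  refine ⟨?_, ?_, ?_⟩
  · apply le_center_of_forall_commute hD.2.2
    intro d hd g hg
    have hblock : IsBlock {v : G | v ∈ D ∧ ∀ e ∈ D, Commute v e ↔ Commute d e} := by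
      apply isBlock_of_equiv hT.conj (fun v d => ∀ e ∈ D, Commute v e ↔ Commute d e)
      · intro a b hab; exact Sim.symm hab
      · intro a b c hab hbc; exact Sim.trans hab hbc
      · intro g a b hab; exact Sim.conj hT hab g
    have hS := Cfsg.Agent.S5349.result hD hD2 hd
    have hdB : d ∈ {v : G | v ∈ D ∧ ∀ e ∈ D, Commute v e ↔ Commute d e} := ⟨hd, fun _ _ => Iff.rfl⟩
    rcases hprim.2.2 _ (fun v hv => hv.1) hblock with hsub | hall
    · have hgB : g * d * g⁻¹ ∈ {v : G | v ∈ D ∧ ∀ e ∈ D, Commute v e ↔ Commute d e} := by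
        rw [hS.2]; exact ⟨g, hg, rfl⟩
      have := hsub hgB hdB
      show d * g = g * d
      calc d * g = (g * d * g⁻¹) * g := by rw [this]
        _ = g * d := by group
    · exfalso
      apply not_mem_center hD hD2 hd
      have hc : ∀ e ∈ D, ∀ x ∈ Subgroup.zpowers d, Commute e x := by
        intro e he x hx
        obtain ⟨n, rfl⟩ := Subgroup.mem_zpowers_iff.1 hx
        have heB : e ∈ {v : G | v ∈ D ∧ ∀ e ∈ D, Commute v e ↔ Commute d e} := by rw [hall]; exact he
        have : Commute e d := (heB.2 d hd).2 (Commute.refl d)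
        exact this.zpow_right n
      exact le_center_of_forall_commute hD.2.2 hc (Subgroup.mem_zpowers d)
  · apply le_center_of_forall_commute hD.2.2
    intro d hd g hg
    have hblock : IsBlock {w : G | w ∈ D ∧ {y : G | y ∈ D ∧ y ≠ d ∧ Commute d y} =
        {y : G | y ∈ D ∧ y ≠ w ∧ Commute w y}} := by
      apply isBlock_of_equiv hT.conj (fun w d => Cfsg.Agent.Helper49.Dm D d = Cfsg.Agent.Helper49.Dm D w)
      · intro a b hab; exact hab.symm
      · intro a b c hab hbc; exact hbc.trans hab
      · intro g a b hab; exact Cfsg.Agent.Helper49.Dm_conj_eq hT hab g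
    have hS := Cfsg.Agent.Helper49.theta_class_of_zstar h hD hd
    have hdB : d ∈ {w : G | w ∈ D ∧ {y : G | y ∈ D ∧ y ≠ d ∧ Commute d y} =
        {y : G | y ∈ D ∧ y ≠ w ∧ Commute w y}} := ⟨hd, rfl⟩
    rcases hprim.2.2 _ (fun v hv => hv.1) hblock with hsub | hall
    · have hgB : g * d * g⁻¹ ∈ {w : G | w ∈ D ∧ {y : G | y ∈ D ∧ y ≠ d ∧ Commute d y} =
          {y : G | y ∈ D ∧ y ≠ w ∧ Commute w y}} := by
        rw [hS.2]; exact ⟨g, hg, rfl⟩
      have := hsub hgB hdB
      show d * g = g * d
      calc d * g = (g * d * g⁻¹) * g := by rw [this]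
        _ = g * d := by group
    · exfalso
      obtain ⟨a, ha, b, hb, hab, hcab⟩ := hw
      have haB : a ∈ {w : G | w ∈ D ∧ {y : G | y ∈ D ∧ y ≠ d ∧ Commute d y} =
          {y : G | y ∈ D ∧ y ≠ w ∧ Commute w y}} := by rw [hall]; exact ha
      have hbB : b ∈ {w : G | w ∈ D ∧ {y : G | y ∈ D ∧ y ≠ d ∧ Commute d y} =
          {y : G | y ∈ D ∧ y ≠ w ∧ Commute w y}} := by rw [hall]; exact hb
      have h1 : {y : G | y ∈ D ∧ y ≠ a ∧ Commute a y} = {y : G | y ∈ D ∧ y ≠ b ∧ Commute b y} :=
        haB.2.symm.trans hbB.2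
      have h2 : b ∈ {y : G | y ∈ D ∧ y ≠ a ∧ Commute a y} := ⟨hb, fun hh => hab hh.symm, hcab⟩
      rw [h1] at h2
      exact h2.2.1 rfl
  · obtain ⟨a, ha, b, hb, hab, hcab⟩ := hw
    rw [SimpleGraph.connected_iff]
    refine ⟨?_, ⟨⟨a, ha⟩⟩⟩
    intro x y
    have hblock := isBlock_reachable hT.conj (commutingGraph D) (commutingGraph_conj hT.conj) (x : G)
    have hxB : (x : G) ∈ {v | v ∈ D ∧ ∃ (hv : v ∈ D) (hd : (x : G) ∈ D),
        (commutingGraph D).Reachable ⟨v, hv⟩ ⟨(x : G), hd⟩} :=
      ⟨x.2, x.2, x.2, SimpleGraph.Reachable.refl _⟩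
    rcases hprim.2.2 _ (fun v hv => hv.1) hblock with hsub | hall
    · exfalso
      obtain ⟨g, hg⟩ := exists_conj_of_class hD ha x.2
      have hcD : g * b * g⁻¹ ∈ D := hT.conj g b hb
      have hne : g * b * g⁻¹ ≠ (x : G) := by
        rw [← hg]
        intro hh
        apply hab
        have h2 : g⁻¹ * (g * b * g⁻¹) * g = g⁻¹ * (g * a * g⁻¹) * g := by rw [hh]
        have e1 : g⁻¹ * (g * b * g⁻¹) * g = b := by group
        have e2 : g⁻¹ * (g * a * g⁻¹) * g = a := by group
        rw [e1, e2] at h2
        exact h2.symm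
      have hcomm : Commute (g * b * g⁻¹) (x : G) := by
        rw [← hg]; exact (Commute.conj_iff g).2 hcab.symm
      have hcB : g * b * g⁻¹ ∈ {v | v ∈ D ∧ ∃ (hv : v ∈ D) (hd : (x : G) ∈ D),
          (commutingGraph D).Reachable ⟨v, hv⟩ ⟨(x : G), hd⟩} := by
        refine ⟨hcD, hcD, x.2, SimpleGraph.Adj.reachable ?_⟩
        rw [commutingGraph_adj]
        exact ⟨fun hh => hne (congrArg Subtype.val hh), hcomm⟩
      exact hne (hsub hcB hxB)
    · have hyB : (y : G) ∈ {v | v ∈ D ∧ ∃ (hv : v ∈ D) (hd : (x : G) ∈ D),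
          (commutingGraph D).Reachable ⟨v, hv⟩ ⟨(x : G), hd⟩} := by rw [hall]; exact y.2
      obtain ⟨-, _, _, hr⟩ := hyB
      exact hr.symm

/-- connected commuting graph: all members of `D` are congruent modulo a normal component -/
theorem mem_of_connected {G : Type*} [Group G] {D : Set G} (hD : IsThreeTranspositionClass D)
    {L : Subgroup G} [hLn : L.Normal] (hL : IsComponent L) (hconn : (commutingGraph D).Connected)
    {d : G} (hd : d ∈ D) : ∀ e ∈ D, d⁻¹ * e ∈ L := by
  intro e he
  have hreach : (commutingGraph D).Reachable ⟨d, hd⟩ ⟨e, he⟩ := hconn.preconnected _ _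
  have := reachable_mem_of_closed (commutingGraph D) {v : D | d⁻¹ * (v : G) ∈ L} ?_
    (a := ⟨d, hd⟩) (by simp) hreach
  · exact this
  · intro a ha v hav
    rw [commutingGraph_adj] at hav
    have h1 : (a : G) * v * (a : G)⁻¹ * (v : G)⁻¹ ∈ L := by
      have : (a : G) * v * (a : G)⁻¹ * (v : G)⁻¹ = 1 := by
        rw [hav.2.eq]; group
      rw [this]; exact L.one_mem
    have h2 := mul_mem_of_commutator_mem hD hL a a.2 v v.2 h1
    have h3 : d⁻¹ * (v : G) = (d⁻¹ * (a : G)) * ((a : G)⁻¹ * v) := by group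
    show d⁻¹ * (v : G) ∈ L
    rw [h3]
    exact L.mul_mem ha h2

theorem sup_eq_top_of_forall_mem {G : Type*} [Group G] {D : Set G}
    (hgen : Subgroup.closure D = ⊤) {L : Subgroup G} [hLn : L.Normal] {d : G}
    (hall : ∀ e ∈ D, d⁻¹ * e ∈ L) : L ⊔ Subgroup.zpowers d = ⊤ := by
  rw [eq_top_iff, ← hgen, Subgroup.closure_le]
  intro e he
  have h1 : e = (d * (d⁻¹ * e) * d⁻¹) * d := by group
  rw [SetLike.mem_coe, h1]
  exact Subgroup.mul_mem _ (Subgroup.mem_sup_left (hLn.conj_mem _ (hall e he) d))
    (Subgroup.mem_sup_right (Subgroup.mem_zpowers d))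

/-- a simple group with trivial centre which is perfect is quasisimple -/
theorem isQuasisimple_of_simple {S : Type*} [Group S] (hS : IsSimpleGroup S)
    (hnc : ∃ x y : S, x * y ≠ y * x) : IsQuasisimple S ∧ Subgroup.center S = ⊥ := by
  obtain ⟨x, y, hxy⟩ := hnc
  have hcen : Subgroup.center S = ⊥ := by
    rcases hS.eq_bot_or_eq_top_of_normal (Subgroup.center S) inferInstance with h | h
    · exact h
    · exfalso
      have : x ∈ Subgroup.center S := by rw [h]; trivial
      rw [Subgroup.mem_center_iff] at this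
      exact hxy (this y).symm
  have hperf : commutator S = ⊤ := by
    rcases hS.eq_bot_or_eq_top_of_normal (commutator S) inferInstance with h | h
    · exfalso
      have : ⁅x, y⁆ ∈ commutator S := by
        rw [commutator_def]
        exact Subgroup.commutator_mem_commutator (Subgroup.mem_top x) (Subgroup.mem_top y)
      rw [h, Subgroup.mem_bot, commutatorElement_eq_one_iff_mul_comm] at this
      exact hxy this
    · exact h
  refine ⟨⟨⟨hperf⟩, ?_⟩, hcen⟩
  have e : S ⧸ Subgroup.center S ≃* S :=
    (QuotientGroup.quotientMulEquivOfEq hcen).trans QuotientGroup.quotientBot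
  exact e.isSimpleGroup

/-- the statement of S5361, from the `Z*`-hypothesis -/
theorem simple_derived_iff_primitive (h : Cfsg.Agent.Helper20.ZStarHyp.{u}) {G : Type u} [Group G]
    [Finite G] {D : Set G} (hD : Cfsg.IsThreeTranspositionClass D) (hZ : Subgroup.center G = ⊥)
    (hw : ∃ a ∈ D, ∃ b ∈ D, a ≠ b ∧ Commute a b) :
    (IsSimpleGroup (commutator G) ↔ Cfsg.IsPrimitiveUnderConj D) ∧
      (Cfsg.IsPrimitiveUnderConj D ↔
        (Cfsg.pCore 2 G = ⊥ ∧ Cfsg.pCore 3 G = ⊥ ∧ (Cfsg.commutingGraph D).Connected)) := by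
  have hT : TT D := TT.of_class hD
  have hD2 : ∃ a ∈ D, ∃ b ∈ D, a ≠ b := by
    obtain ⟨a, ha, b, hb, hab, -⟩ := hw
    exact ⟨a, ha, b, hb, hab⟩
  -- (2) → (3)
  have h23 : IsPrimitiveUnderConj D →
      (pCore 2 G = ⊥ ∧ pCore 3 G = ⊥ ∧ (commutingGraph D).Connected) := by
    intro hprim
    obtain ⟨h2, h3, hc⟩ := cores_central_of_primitive h hD hprim hw
    rw [hZ] at h2 h3
    exact ⟨le_bot_iff.1 h2, le_bot_iff.1 h3, hc⟩
  -- structure from (3)
  have hstruct : (pCore 2 G = ⊥ ∧ pCore 3 G = ⊥ ∧ (commutingGraph D).Connected) →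
      ∃ L : Subgroup G, L.Normal ∧ IsComponent L ∧
        Subgroup.centralizer (L : Set G) ≤ Subgroup.center G ∧ (∀ d ∈ D, L ⊔ Subgroup.zpowers d = ⊤) ∧
        pCore 2 G ≤ Subgroup.center G := by
    rintro ⟨h2, h3, hc⟩
    have h2' : pCore 2 G ≤ Subgroup.center G := by rw [h2]; exact bot_le
    have h3' : pCore 3 G ≤ Subgroup.center G := by rw [h3]; exact bot_le
    obtain ⟨L, hLn, hL, hCL, -⟩ := exists_component h hD hD2 h2' h3'
    exact ⟨L, hLn, hL, hCL, fun d hd => sup_eq_top_of_forall_mem hD.2.2 (mem_of_connected hD hL hc hd), h2'⟩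
  -- (3) → (2)
  have h32 : (pCore 2 G = ⊥ ∧ pCore 3 G = ⊥ ∧ (commutingGraph D).Connected) →
      IsPrimitiveUnderConj D := by
    intro h3
    obtain ⟨L, hLn, hL, hCL, hsup, h2'⟩ := hstruct h3
    obtain ⟨d, hd, -⟩ := hD.2.1
    exact primitive_of_index_le_two hD hD2 h2' hL hCL (index_le_two_of_sup (hT.sq d hd) (hsup d hd))
  refine ⟨⟨?_, ?_⟩, ⟨h23, h32⟩⟩
  · -- (1) → (2)
    intro hS
    obtain ⟨a, ha, b, hb, hab, hcab⟩ := hw
    have hSn : (commutator G).Normal := inferInstance
    have hcomm_mem : ∀ x y : G, x * y * x⁻¹ * y⁻¹ ∈ commutator G := by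
      intro x y
      rw [commutator_def]
      exact Subgroup.commutator_mem_commutator (Subgroup.mem_top x) (Subgroup.mem_top y)
    -- the derived group is not abelian
    have hnc : ∃ x y : ↥(commutator G), x * y ≠ y * x := by
      by_contra hcon
      push Not at hcon
      obtain ⟨g, hg⟩ := exists_conj_of_class hD ha hb
      set t := a * b with ht
      have htS : t ∈ commutator G := by
        have : t = a * g * a⁻¹ * g⁻¹ := by
          rw [ht, ← hg, hT.inv_eq ha]; group
        rw [this]; exact hcomm_mem a g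
      have ht1 : t ≠ 1 := by
        intro h1
        apply hab
        have := eq_inv_of_mul_eq_one_left h1
        rw [this, hT.inv_eq hb]
      have htt : t * t = 1 := sq_eq_one_of_commute (hT.sq a ha) (hT.sq b hb) hcab
      have hZn : (Subgroup.zpowers (⟨t, htS⟩ : ↥(commutator G))).Normal := by
        constructor
        intro n hn g
        rw [hcon g n, mul_inv_cancel_right]
        exact hn
      have hcent : t ∈ Subgroup.center G := by
        rw [Subgroup.mem_center_iff]
        intro g
        rcases hS.eq_bot_or_eq_top_of_normal _ hZn with hbot | htop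
        · exfalso
          have : (⟨t, htS⟩ : ↥(commutator G)) ∈ Subgroup.zpowers (⟨t, htS⟩ : ↥(commutator G)) :=
            Subgroup.mem_zpowers _
          rw [hbot, Subgroup.mem_bot] at this
          exact ht1 (congrArg Subtype.val this)
        · have hgt : (⟨g * t * g⁻¹, hSn.conj_mem t htS g⟩ : ↥(commutator G)) ∈
              Subgroup.zpowers (⟨t, htS⟩ : ↥(commutator G)) := by rw [htop]; trivial
          obtain ⟨n, hn⟩ := Subgroup.mem_zpowers_iff.1 hgt
          have hn' : t ^ n = g * t * g⁻¹ := by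
            have := congrArg Subtype.val hn
            simpa using this
          have hd2 : t ^ (2 : ℤ) = 1 := by rw [zpow_two]; exact htt
          rcases Int.emod_two_eq_zero_or_one n with h0 | h0
          · exfalso
            have : t ^ n = 1 := by
              rw [← Int.emod_add_mul_ediv n 2, h0, zero_add, zpow_mul, hd2, one_zpow]
            rw [this] at hn'
            apply ht1
            have h5 : t = g⁻¹ * (g * t * g⁻¹) * g := by group
            rw [h5, ← hn']; group
          · have : t ^ n = t := by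
              rw [← Int.emod_add_mul_ediv n 2, h0, zpow_add, zpow_mul, hd2, one_zpow, mul_one, zpow_one]
            rw [this] at hn'
            calc g * t = (g * t * g⁻¹) * g := by group
              _ = t * g := by rw [← hn']
      rw [hZ, Subgroup.mem_bot] at hcent
      exact ht1 hcent
    obtain ⟨hQS, hcenS⟩ := isQuasisimple_of_simple hS hnc
    have hSc : IsComponent (commutator G) := ⟨hSn.isSubnormal, hQS⟩
    -- its centralizer is central
    have hCS : Subgroup.centralizer ((commutator G : Subgroup G) : Set G) ≤ Subgroup.center G := by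
      apply le_center_of_forall_commute hD.2.2
      intro d' hd' c hc
      have hKn : (Subgroup.centralizer ((commutator G : Subgroup G) : Set G)).Normal :=
        Subgroup.normal_centralizer
      have hw1 : c * d' * c⁻¹ * d'⁻¹ ∈ commutator G := hcomm_mem c d'
      have hw2 : c * d' * c⁻¹ * d'⁻¹ ∈ Subgroup.centralizer ((commutator G : Subgroup G) : Set G) := by
        have e1 : c * d' * c⁻¹ * d'⁻¹ = c * (d' * c⁻¹ * d'⁻¹) := by group
        rw [e1]
        exact Subgroup.mul_mem _ hc (hKn.conj_mem _ (Subgroup.inv_mem _ hc) d')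
      have hw3 : (⟨c * d' * c⁻¹ * d'⁻¹, hw1⟩ : ↥(commutator G)) ∈ Subgroup.center ↥(commutator G) := by
        rw [Subgroup.mem_center_iff]
        intro z
        apply Subtype.ext
        rw [Subgroup.mem_centralizer_iff] at hw2
        exact hw2 z z.2
      rw [hcenS, Subgroup.mem_bot] at hw3
      have hw4 : c * d' * c⁻¹ * d'⁻¹ = 1 := congrArg Subtype.val hw3
      show d' * c = c * d'
      have : c * d' = (c * d' * c⁻¹ * d'⁻¹) * (d' * c) := by group
      rw [this, hw4, one_mul]
    have h2' : pCore 2 G ≤ Subgroup.center G := by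
      have : Fact (Nat.Prime 2) := ⟨Nat.prime_two⟩
      have h5 := Cfsg.Agent.Helper22.component_le_centralizer_fittingSubgroup hSc
      rw [Subgroup.le_centralizer_iff] at h5
      exact ((Cfsg.Agent.Helper22.pCore_le_fittingSubgroup 2).trans h5).trans hCS
    have hsup : (commutator G) ⊔ Subgroup.zpowers a = ⊤ := by
      apply sup_eq_top_of_forall_mem hD.2.2
      intro e he
      obtain ⟨g, rfl⟩ := exists_conj_of_class hD ha he
      have h5 := hcomm_mem a⁻¹ g
      have e1 : a⁻¹ * (g * a * g⁻¹) = a⁻¹ * g * a⁻¹⁻¹ * g⁻¹ := by group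
      rw [e1]; exact h5
    exact primitive_of_index_le_two hD hD2 h2' hSc hCS (index_le_two_of_sup (hT.sq a ha) hsup)
  · -- (2) → (1)
    intro hprim
    obtain ⟨L, hLn, hL, hCL, hsup, -⟩ := hstruct (h23 hprim)
    obtain ⟨d, hd, -⟩ := hD.2.1
    have hcenL : Subgroup.center ↥L = ⊥ := by
      rw [eq_bot_iff]
      intro z hz
      rw [Subgroup.mem_bot]
      apply Subtype.ext
      have h1 : (z : G) ∈ Subgroup.centralizer (L : Set G) := by
        rw [Subgroup.mem_centralizer_iff]
        intro y hy
        rw [Subgroup.mem_center_iff] at hz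
        exact congrArg Subtype.val (hz ⟨y, hy⟩)
      have h2 := hCL h1
      rw [hZ, Subgroup.mem_bot] at h2
      exact h2
    have hLs : IsSimpleGroup ↥L := by
      have e : ↥L ⧸ Subgroup.center ↥L ≃* ↥L :=
        (QuotientGroup.quotientMulEquivOfEq hcenL).trans QuotientGroup.quotientBot
      have := hL.2.2
      exact e.symm.isSimpleGroup
    have hcl : commutator G = L := by
      apply le_antisymm
      · exact Subgroup.Normal.commutator_le_of_self_sup_commutative_eq_top (hsup d hd) inferInstance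
      · have h1 := Cfsg.Agent.Helper22.IsQuasisimple.commutator_eq hL.2
        rw [commutator_def, ← h1]
        exact Subgroup.commutator_mono le_top le_top
    rw [hcl]
    exact hLs

end Cfsg.Agent.Helper88.TTPrim
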