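import Mathlib
import Cfsg.Agent.Lib.Helper88.TTPrim

set_option autoImplicit false

namespace Cfsg.Agent.Helper88.TTMod

open Cfsg Cfsg.Agent.Helper88 Cfsg.Agent.Helper88.TTBlock Cfsg.Agent.Helper88.TTStruct
  Cfsg.Agent.Helper88.TTPrim

variable {G : Type*} [Group G]

/-- a module (homogeneous set) of the commuting relation on `D` -/
def IsMod (D θ : Set G) : Prop :=
  ∀ v ∈ D, v ∉ θ → (∀ x ∈ θ, Commute v x) ∨ (∀ x ∈ θ, ¬ Commute v x)

theorem IsMod.cj {D θ : Set G} (hconj : ∀ g : G, ∀ x ∈ D, g * x * g⁻¹ ∈ D) (h : IsMod D θ) (g : G) :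
    IsMod D (cj g θ) := by
  intro v hv hvθ
  have hv' : g⁻¹ * v * g ∈ D := by
    have := hconj g⁻¹ v hv
    rwa [inv_inv] at this
  have hv'θ : g⁻¹ * v * g ∉ θ := fun hh => hvθ (mem_cj.2 hh)
  have key : ∀ x ∈ θ, (Commute v (g * x * g⁻¹) ↔ Commute (g⁻¹ * v * g) x) := by
    intro x _
    have h1 := Commute.conj_iff (a := g⁻¹ * v * g) (b := x) g
    have e1 : g * (g⁻¹ * v * g) * g⁻¹ = v := by group
    rw [e1] at h1
    exact h1
  rcases h _ hv' hv'θ with hall | hnone
  · left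
    rintro _ ⟨x, hx, rfl⟩
    exact (key x hx).2 (hall x hx)
  · right
    rintro _ ⟨x, hx, rfl⟩ hc
    exact hnone x hx ((key x hx).1 hc)

theorem IsMod.union {D θ₁ θ₂ : Set G} (h1 : IsMod D θ₁) (h2 : IsMod D θ₂) {c : G} (hc1 : c ∈ θ₁)
    (hc2 : c ∈ θ₂) : IsMod D (θ₁ ∪ θ₂) := by
  intro v hv hvθ
  have hv1 : v ∉ θ₁ := fun hh => hvθ (Or.inl hh)
  have hv2 : v ∉ θ₂ := fun hh => hvθ (Or.inr hh)
  by_cases hvc : Commute v c
  · left
    have a1 : ∀ x ∈ θ₁, Commute v x := by
      rcases h1 v hv hv1 with h | h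
      · exact h
      · exact absurd hvc (h c hc1)
    have a2 : ∀ x ∈ θ₂, Commute v x := by
      rcases h2 v hv hv2 with h | h
      · exact h
      · exact absurd hvc (h c hc2)
    rintro x (hx | hx)
    · exact a1 x hx
    · exact a2 x hx
  · right
    have a1 : ∀ x ∈ θ₁, ¬ Commute v x := by
      rcases h1 v hv hv1 with h | h
      · exact absurd (h c hc1) hvc
      · exact h
    have a2 : ∀ x ∈ θ₂, ¬ Commute v x := by
      rcases h2 v hv hv2 with h | h
      · exact absurd (h c hc2) hvc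
      · exact h
    rintro x (hx | hx)
    · exact a1 x hx
    · exact a2 x hx

theorem ncard_cj [Finite G] (g : G) (θ : Set G) : (cj g θ).ncard = θ.ncard := by
  unfold TTBlock.cj
  apply Set.ncard_image_of_injective
  intro x y hxy
  have h2 : g⁻¹ * (g * x * g⁻¹) * g = g⁻¹ * (g * y * g⁻¹) * g := by
    simp only [] at hxy
    rw [hxy]
  have e1 : ∀ z : G, g⁻¹ * (g * z * g⁻¹) * g = z := fun z => by group
  rwa [e1, e1] at h2

/-- the non-commuting graph on `D` -/
def nonCommGraph (D : Set G) : SimpleGraph D :=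
  SimpleGraph.fromRel fun a b => ¬ Commute (a : G) (b : G)

theorem nonCommGraph_adj {D : Set G} {a b : D} :
    (nonCommGraph D).Adj a b ↔ ¬ Commute (a : G) (b : G) := by
  unfold nonCommGraph
  rw [SimpleGraph.fromRel_adj]
  constructor
  · rintro ⟨-, h | h⟩
    · exact h
    · exact fun hh => h hh.symm
  · intro h
    refine ⟨?_, Or.inl h⟩
    rintro rfl
    exact h (Commute.refl _)

theorem nonCommGraph_conj {D : Set G} (hconj : ∀ g : G, ∀ x ∈ D, g * x * g⁻¹ ∈ D)
    (g : G) (a b : D) (hab : (nonCommGraph D).Adj a b) :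
    (nonCommGraph D).Adj (conjD hconj g a) (conjD hconj g b) := by
  rw [nonCommGraph_adj] at hab ⊢
  intro hc
  exact hab ((Commute.conj_iff g).1 hc)

/-- a maximal proper module is a block -/
theorem isBlock_of_maximal_mod [Finite G] {D : Set G} (hD : IsThreeTranspositionClass D)
    (hprim : IsPrimitiveUnderConj D) (hconn : (commutingGraph D).Connected) {σ : Set G}
    (hσD : σ ⊆ D) (hσ : IsMod D σ)
    (hmax : ∀ τ : Set G, σ ⊆ τ → τ ⊆ D → IsMod D τ → τ = σ ∨ τ = D) : IsBlock σ := by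
  have hT : TT D := TT.of_class hD
  have hD2 : ∃ a ∈ D, ∃ b ∈ D, a ≠ b := hprim.2.1
  intro g
  by_cases hdis : Disjoint ((fun x => g * x * g⁻¹) '' σ) σ
  · exact Or.inr hdis
  left
  by_contra hne
  have hne' : cj g σ ≠ σ := hne
  rw [Set.not_disjoint_iff] at hdis
  obtain ⟨c, hc2, hc1⟩ := hdis
  have hc2' : c ∈ cj g σ := hc2
  have hσ2 : IsMod D (cj g σ) := hσ.cj hT.conj g
  have hσ2D : cj g σ ⊆ D := cj_subset hT.conj hσD g
  have hun : IsMod D (σ ∪ cj g σ) := hσ.union hσ2 hc1 hc2'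
  -- neither contains the other
  have hnsub : ¬ cj g σ ⊆ σ := by
    intro hsub
    apply hne'
    exact Set.eq_of_subset_of_ncard_le hsub (by rw [ncard_cj]) (Set.toFinite _)
  have hnsub' : ¬ σ ⊆ cj g σ := by
    intro hsub
    apply hne'
    exact (Set.eq_of_subset_of_ncard_le hsub (by rw [ncard_cj]) (Set.toFinite _)).symm
  have hunD : σ ∪ cj g σ = D := by
    rcases hmax _ Set.subset_union_left (Set.union_subset hσD hσ2D) hun with h | h
    · exfalso
      apply hnsub
      exact fun x hx => h.subset (Or.inr hx)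
    · exact h
  obtain ⟨a₀, ha₀σ, ha₀⟩ := Set.not_subset.1 hnsub'
  obtain ⟨b₀, hb₀σ2, hb₀⟩ := Set.not_subset.1 hnsub
  have ha₀D := hσD ha₀σ
  -- the status of `b₀` against `σ` determines everything
  have hA : ∀ a ∈ σ, a ∉ cj g σ → ∀ v ∈ cj g σ, (Commute a v ↔ Commute a₀ b₀) := by
    intro a haσ ha v hv
    have haD := hσD haσ
    have hb₀D := hσ2D hb₀σ2
    -- b₀ against σ
    have h1 : Commute a b₀ ↔ Commute a₀ b₀ := by
      rcases hσ b₀ hb₀D hb₀ with h | h
      · exact ⟨fun _ => (h a₀ ha₀σ).symm, fun _ => (h a haσ).symm⟩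
      · exact ⟨fun hh => absurd hh.symm (h a haσ), fun hh => absurd hh.symm (h a₀ ha₀σ)⟩
    have h2 : Commute a v ↔ Commute a b₀ := by
      rcases hσ2 a haD ha with h | h
      · exact ⟨fun _ => h b₀ hb₀σ2, fun _ => h v hv⟩
      · exact ⟨fun hh => absurd hh (h v hv), fun hh => absurd hh (h b₀ hb₀σ2)⟩
    exact h2.trans h1
  have hcompl : ∀ v ∈ D, v ∉ cj g σ → v ∈ σ := by
    intro v hv hv2
    rw [← hunD] at hv
    rcases hv with h | h
    · exact h
    · exact absurd h hv2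
  by_cases hst : Commute a₀ b₀
  · -- `a₀` commutes with everything: the non-commuting component of `a₀` is trivial
    have hblock := isBlock_reachable hT.conj (nonCommGraph D) (nonCommGraph_conj hT.conj) a₀
    have ha₀B : a₀ ∈ {v | v ∈ D ∧ ∃ (hv : v ∈ D) (hd : a₀ ∈ D),
        (nonCommGraph D).Reachable ⟨v, hv⟩ ⟨a₀, hd⟩} :=
      ⟨ha₀D, ha₀D, ha₀D, SimpleGraph.Reachable.refl _⟩
    have hsubA : ∀ v, v ∈ {v | v ∈ D ∧ ∃ (hv : v ∈ D) (hd : a₀ ∈ D),
        (nonCommGraph D).Reachable ⟨v, hv⟩ ⟨a₀, hd⟩} → v ∈ σ ∧ v ∉ cj g σ := by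
      rintro v ⟨hvD, _, _, hr⟩
      have := reachable_mem_of_closed (nonCommGraph D) {w : D | (w : G) ∈ σ ∧ (w : G) ∉ cj g σ} ?_
        (a := ⟨a₀, ha₀D⟩) ⟨ha₀σ, ha₀⟩ hr.symm
      · exact this
      · rintro a ⟨haσ, ha2⟩ w haw
        rw [nonCommGraph_adj] at haw
        have hw2 : (w : G) ∉ cj g σ := fun hh => haw ((hA a haσ ha2 w hh).2 hst)
        exact ⟨hcompl w w.2 hw2, hw2⟩
    rcases hprim.2.2 _ (fun v hv => hv.1) hblock with hsub | hall
    · -- then `a₀` is central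
      apply not_mem_center hD hD2 ha₀D
      have hc : ∀ e ∈ D, ∀ x ∈ Subgroup.zpowers a₀, Commute e x := by
        intro e he x hx
        obtain ⟨n, rfl⟩ := Subgroup.mem_zpowers_iff.1 hx
        have : Commute e a₀ := by
          by_contra hnc
          have heB : e ∈ {v | v ∈ D ∧ ∃ (hv : v ∈ D) (hd : a₀ ∈ D),
              (nonCommGraph D).Reachable ⟨v, hv⟩ ⟨a₀, hd⟩} := by
            refine ⟨he, he, ha₀D, SimpleGraph.Adj.reachable ?_⟩
            rw [nonCommGraph_adj]
            exact hnc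
          have := hsub heB ha₀B
          rw [this] at hnc
          exact hnc (Commute.refl _)
        exact this.zpow_right n
      exact le_center_of_forall_commute hD.2.2 hc (Subgroup.mem_zpowers a₀)
    · have : c ∈ {v | v ∈ D ∧ ∃ (hv : v ∈ D) (hd : a₀ ∈ D),
          (nonCommGraph D).Reachable ⟨v, hv⟩ ⟨a₀, hd⟩} := by rw [hall]; exact hσD hc1
      exact (hsubA c this).2 hc2'
  · -- no commuting pairs across: contradicts connectedness
    have hreach : (commutingGraph D).Reachable ⟨a₀, ha₀D⟩ ⟨c, hσD hc1⟩ := hconn.preconnected _ _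
    have := reachable_mem_of_closed (commutingGraph D) {w : D | (w : G) ∈ σ ∧ (w : G) ∉ cj g σ} ?_
      (a := ⟨a₀, ha₀D⟩) ⟨ha₀σ, ha₀⟩ hreach
    · exact this.2 hc2'
    · rintro a ⟨haσ, ha2⟩ w haw
      rw [commutingGraph_adj] at haw
      have hw2 : (w : G) ∉ cj g σ := fun hh => hst ((hA a haσ ha2 w hh).1 haw.2)
      exact ⟨hcompl w w.2 hw2, hw2⟩

/-- **a primitive class of 3-transpositions with connected commuting graph has no proper modules** -/
theorem no_module [Finite G] {D : Set G} (hD : IsThreeTranspositionClass D)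
    (hprim : IsPrimitiveUnderConj D) (hconn : (commutingGraph D).Connected) {θ : Set G}
    (hθD : θ ⊆ D) (hθ : IsMod D θ) : θ.Subsingleton ∨ θ = D := by
  by_contra hcon
  push Not at hcon
  obtain ⟨hnt, hne⟩ := hcon
  set 𝒮 : Set (Set G) := {σ | θ ⊆ σ ∧ σ ⊆ D ∧ σ ≠ D ∧ IsMod D σ} with h𝒮
  have hfin : 𝒮.Finite := Set.toFinite _
  have hnon : 𝒮.Nonempty := ⟨θ, subset_rfl, hθD, hne, hθ⟩
  obtain ⟨σ, ⟨hθσ, hσD, hσne, hσ⟩, hσmax⟩ := hfin.exists_maximal hnon
  have hblock : IsBlock σ := by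
    apply isBlock_of_maximal_mod hD hprim hconn hσD hσ
    intro τ hστ hτD hτ
    by_cases hτD' : τ = D
    · exact Or.inr hτD'
    · left
      have hτS : τ ∈ 𝒮 := ⟨hθσ.trans hστ, hτD, hτD', hτ⟩
      exact Set.Subset.antisymm (hσmax hτS hστ) hστ
  rcases hprim.2.2 σ hσD hblock with hsub | hall
  · exact (Set.not_subsingleton_iff.2 hnt) (hsub.anti hθσ)
  · exact hσne hall

universe u

/-- two non-commuting 3-transpositions are conjugate by a conjugate of one by the other -/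
theorem conj_conj_eq {G : Type*} [Group G] {D : Set G} (hT : TT D) {x v : G} (hx : x ∈ D) (hv : v ∈ D)
    (hnc : ¬ Commute v x) : (x * v * x⁻¹) * x * (x * v * x⁻¹)⁻¹ = v := by
  have hb := hT.braid hx hv (fun h => hnc h.symm)
  have hxi := hT.inv_eq hx
  have hvi := hT.inv_eq hv
  have hxx := hT.sq x hx
  have hvv := hT.sq v hv
  calc (x * v * x⁻¹) * x * (x * v * x⁻¹)⁻¹ = (x * v * x) * v⁻¹ * x⁻¹ := by group
    _ = (v * x * v) * v * x := by rw [hb, hvi, hxi]
    _ = v * x * (v * v) * x := by group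
    _ = v * (x * x) := by rw [hvv, mul_one, mul_assoc]
    _ = v := by rw [hxx, mul_one]

/-- **the commuting members of `d` generate a maximal `D`-subgroup** -/
theorem maximal_centralizer_closure {G : Type*} [Group G] [Finite G] {D : Set G}
    (hD : IsThreeTranspositionClass D)
    (hprim : IsPrimitiveUnderConj D) (hconn : (commutingGraph D).Connected) {d : G} (hd : d ∈ D)
    (H : Subgroup G) (hH : IsDSubgroup D H)
    (hMH : Subgroup.closure {y : G | y ∈ D ∧ Commute d y} ≤ H) :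
    H = Subgroup.closure {y : G | y ∈ D ∧ Commute d y} ∨ H = ⊤ := by
  have hT : TT D := TT.of_class hD
  by_cases hHM : H = Subgroup.closure {y : G | y ∈ D ∧ Commute d y}
  · exact Or.inl hHM
  right
  have hdH : d ∈ H := hMH (Subgroup.subset_closure ⟨hd, Commute.refl d⟩)
  set θ : Set G := {x | ∃ h ∈ H, x = h * d * h⁻¹} with hθ
  have hθD : θ ⊆ D := by
    rintro _ ⟨h, -, rfl⟩
    exact hT.conj h d hd
  have hθH : θ ⊆ H := by
    rintro _ ⟨h, hh, rfl⟩
    exact H.mul_mem (H.mul_mem hh hdH) (H.inv_mem hh)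
  have hdθ : d ∈ θ := ⟨1, H.one_mem, by simp⟩
  -- members of `D ∩ H` not commuting with a member of `θ` lie in `θ`
  have hin : ∀ v ∈ D, v ∈ H → ∀ x ∈ θ, ¬ Commute v x → v ∈ θ := by
    rintro v hvD hvH x hx hnc
    have hxD := hθD hx
    have hxH := hθH hx
    obtain ⟨h, hh, rfl⟩ := hx
    refine ⟨(h * d * h⁻¹) * v * (h * d * h⁻¹)⁻¹ * h, H.mul_mem (H.mul_mem (H.mul_mem hxH hvH) (H.inv_mem hxH)) hh, ?_⟩
    have := conj_conj_eq hT hxD hvD hnc
    calc v = (h * d * h⁻¹ * v * (h * d * h⁻¹)⁻¹) * (h * d * h⁻¹) * (h * d * h⁻¹ * v * (h * d * h⁻¹)⁻¹)⁻¹ :=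
        this.symm
      _ = _ := by group
  have hmod : IsMod D θ := by
    intro v hvD hvθ
    by_cases hvH : v ∈ H
    · left
      intro x hx
      by_contra hnc
      exact hvθ (hin v hvD hvH x hx hnc)
    · right
      rintro _ ⟨h, hh, rfl⟩ hc
      apply hvH
      have h1 : Commute (h⁻¹ * v * h) d := by
        have h2 := (Commute.conj_iff (a := v) (b := h * d * h⁻¹) h⁻¹).2 hc
        have e1 : h⁻¹ * (h * d * h⁻¹) * h⁻¹⁻¹ = d := by group
        rw [e1, inv_inv] at h2
        exact h2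
      have h3 : h⁻¹ * v * h ∈ H :=
        hMH (Subgroup.subset_closure ⟨hT.conj' hvD h, h1.symm⟩)
      have e2 : v = h * (h⁻¹ * v * h) * h⁻¹ := by group
      rw [e2]
      exact H.mul_mem (H.mul_mem hh h3) (H.inv_mem hh)
  -- `θ` is not a singleton
  have hnt : ¬ θ.Subsingleton := by
    intro hsub
    apply hHM
    apply le_antisymm _ hMH
    rw [← hH, Subgroup.closure_le]
    rintro e ⟨heD, heH⟩
    apply Subgroup.subset_closure
    refine ⟨heD, ?_⟩
    by_contra hnc
    have heθ : e ∈ θ := hin e heD heH d hdθ (fun hh => hnc hh.symm)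
    have := hsub heθ hdθ
    rw [this] at hnc
    exact hnc (Commute.refl d)
  rcases no_module hD hprim hconn hθD hmod with hsub | hall
  · exact absurd hsub hnt
  · rw [eq_top_iff, ← hD.2.2, Subgroup.closure_le, ← hall]
    exact hθH

/-- the statement of S5354, from the `Z*`-hypothesis -/
theorem primitive_structure (h : Cfsg.Agent.Helper20.ZStarHyp.{u}) {G : Type u} [Group G] [Finite G]
    {D : Set G} (hD : Cfsg.IsThreeTranspositionGroup D) (hprim : Cfsg.IsPrimitiveUnderConj D)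
    (hw : ∃ a ∈ D, ∃ b ∈ D, a ≠ b ∧ Commute a b) :
    (∃ L : Subgroup G, L.Normal ∧ Cfsg.IsQuasisimple L ∧ L.index ≤ 2 ∧
        Cfsg.generalizedFittingSubgroup G = L ⊔ Subgroup.center G) ∧
      (Cfsg.commutingGraph D).Connected ∧
      ∀ d ∈ D, Subgroup.closure {y : G | y ∈ D ∧ Commute d y} ≠ ⊤ ∧
        ∀ H : Subgroup G, Cfsg.IsDSubgroup D H →
          Subgroup.closure {y : G | y ∈ D ∧ Commute d y} ≤ H →
            H = Subgroup.closure {y : G | y ∈ D ∧ Commute d y} ∨ H = ⊤ := by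
  have hD2 : ∃ a ∈ D, ∃ b ∈ D, a ≠ b := hprim.2.1
  have hDc : IsThreeTranspositionClass D := by
    obtain ⟨a, ha, -⟩ := hD2
    refine ⟨hD.1, ⟨a, ha, ?_⟩, hD.2.2⟩
    ext e
    show e ∈ D ↔ IsConj a e
    rw [isConj_iff]
    constructor
    · intro he
      exact hprim.1 a ha e he
    · rintro ⟨g, rfl⟩
      exact hD.2.1 g a ha
  obtain ⟨h2, h3, hconn⟩ := cores_central_of_primitive h hDc hprim hw
  obtain ⟨L, hLn, hL, hCL, hlay⟩ := exists_component h hDc hD2 h2 h3
  refine ⟨⟨L, hLn, hL.2, index_le_two_of_connected hDc hL hconn, ?_⟩, hconn, ?_⟩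
  · rw [Cfsg.Agent.Helper22.generalizedFittingSubgroup_eq, hlay, fitting_eq_center hDc h2 h3]
  · intro d hd
    refine ⟨?_, fun H hH hMH => maximal_centralizer_closure hDc hprim hconn hd H hH hMH⟩
    intro htop
    apply not_mem_center hDc hD2 hd
    rw [Subgroup.mem_center_iff]
    intro g
    have hg : g ∈ Subgroup.closure {y : G | y ∈ D ∧ Commute d y} := by rw [htop]; trivial
    have : g ∈ Subgroup.centralizer ({d} : Set G) := by
      refine (Subgroup.closure_le _).2 ?_ hg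
      rintro y ⟨-, hy⟩
      rw [SetLike.mem_coe, Subgroup.mem_centralizer_iff]
      intro z hz
      rw [Set.mem_singleton_iff] at hz
      subst hz
      exact hy.eq
    rw [Subgroup.mem_centralizer_iff] at this
    exact (this d rfl).symm

end Cfsg.Agent.Helper88.TTMod
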