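import Mathlib
import Cfsg.Agent.Lib.Helper88.TTMod
import Cfsg.Agent.Lib.Helper88.TTPrim
import Cfsg.Agent.S5344

/-!
# Fischer's rank three lemma

For a class `D` of 3-transpositions on which the group acts primitively (width at least two), the
centralizer of `d` is transitive on the members of `D` commuting with `d` and on those not
commuting with `d`, and the members commuting with `d` form one class of the subgroup they
generate.  The proof is an extremal argument using maximality of `⟨C_D(d)⟩` and connectivity of the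
commuting graph.
-/

set_option autoImplicit false

namespace Cfsg.Agent.Helper88.Rank3

open Cfsg Cfsg.Agent.Helper88 Cfsg.Agent.Helper88.TTBlock Cfsg.Agent.Helper88.TTStruct
  Cfsg.Agent.Helper88.TTMod Cfsg.Agent.Helper88.TTPrim

variable {G : Type*} [Group G]

/-- conjugacy under the centralizer of `d` -/
def Rel (d a b : G) : Prop := ∃ g : G, Commute g d ∧ g * a * g⁻¹ = b

theorem Rel.refl (d a : G) : Rel d a a := ⟨1, Commute.one_left d, by group⟩

theorem Rel.symm {d a b : G} (h : Rel d a b) : Rel d b a := by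
  obtain ⟨g, hg, rfl⟩ := h
  exact ⟨g⁻¹, hg.inv_left, by group⟩

theorem Rel.trans {d a b c : G} (h1 : Rel d a b) (h2 : Rel d b c) : Rel d a c := by
  obtain ⟨g, hg, rfl⟩ := h1
  obtain ⟨g', hg', rfl⟩ := h2
  exact ⟨g' * g, hg'.mul_left hg, by group⟩

theorem conj_eq_of_commute {g d : G} (h : Commute g d) : g * d * g⁻¹ = d := by
  rw [h.eq]; group

theorem conj_eq_of_commute' {g d : G} (h : Commute g d) : g⁻¹ * d * g = d := by
  have := conj_eq_of_commute h.inv_left
  rwa [inv_inv] at this

/-- members of `D` commuting with both `p` and `q` -/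
def cc (D : Set G) (p q : G) : Set G := {x | x ∈ D ∧ Commute p x ∧ Commute q x}

/-- members of `D` commuting with neither `p` nor `q` -/
def aa (D : Set G) (p q : G) : Set G := {x | x ∈ D ∧ ¬ Commute p x ∧ ¬ Commute q x}

/-- members of `D` other than `p` commuting with `p` -/
def dd (D : Set G) (p : G) : Set G := {y | y ∈ D ∧ y ≠ p ∧ Commute p y}

theorem conj_mem_iff {D : Set G} (hT : TT D) (g y : G) : g⁻¹ * y * g ∈ D ↔ y ∈ D := by
  constructor
  · intro h
    have := hT.conj g _ h
    have e : g * (g⁻¹ * y * g) * g⁻¹ = y := by group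
    rwa [e] at this
  · intro h
    exact hT.conj' h g

theorem cj_cc {D : Set G} (hT : TT D) (g p q : G) :
    cj g (cc D p q) = cc D (g * p * g⁻¹) (g * q * g⁻¹) := by
  ext y
  rw [mem_cj]
  unfold cc
  simp only [Set.mem_ofPred_eq]
  rw [commute_conj_iff, commute_conj_iff, conj_mem_iff hT]

theorem cj_aa {D : Set G} (hT : TT D) (g p q : G) :
    cj g (aa D p q) = aa D (g * p * g⁻¹) (g * q * g⁻¹) := by
  ext y
  rw [mem_cj]
  unfold aa
  simp only [Set.mem_ofPred_eq]
  rw [commute_conj_iff, commute_conj_iff, conj_mem_iff hT]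

theorem cj_dd {D : Set G} (hT : TT D) (g p : G) :
    cj g (dd D p) = dd D (g * p * g⁻¹) := by
  ext y
  rw [mem_cj]
  unfold dd
  simp only [Set.mem_ofPred_eq]
  rw [commute_conj_iff, conj_mem_iff hT]
  have : g⁻¹ * y * g ≠ p ↔ y ≠ g * p * g⁻¹ := by
    constructor
    · intro h h'
      apply h
      rw [h']; group
    · intro h h'
      apply h
      rw [← h']; group
  rw [this]

theorem ncard_cc [Finite G] {D : Set G} (hT : TT D) (g p q : G) :
    (cc D (g * p * g⁻¹) (g * q * g⁻¹)).ncard = (cc D p q).ncard := by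
  rw [← cj_cc hT, ncard_cj]

theorem ncard_aa [Finite G] {D : Set G} (hT : TT D) (g p q : G) :
    (aa D (g * p * g⁻¹) (g * q * g⁻¹)).ncard = (aa D p q).ncard := by
  rw [← cj_aa hT, ncard_cj]

theorem ncard_dd [Finite G] {D : Set G} (hT : TT D) (g p : G) :
    (dd D (g * p * g⁻¹)).ncard = (dd D p).ncard := by
  rw [← cj_dd hT, ncard_cj]

/-- the hypotheses: a primitive class of 3-transpositions of width at least two, unfolded -/
structure PrimHyp (D : Set G) : Prop where
  cls : IsThreeTranspositionClass D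
  two : ∃ a ∈ D, ∃ b ∈ D, a ≠ b
  conn : (commutingGraph D).Connected
  max : ∀ d ∈ D, ∀ H : Subgroup G, IsDSubgroup D H →
    Subgroup.closure {y : G | y ∈ D ∧ Commute d y} ≤ H →
      H = Subgroup.closure {y : G | y ∈ D ∧ Commute d y} ∨ H = ⊤
  simV : ∀ a ∈ D, ∀ v ∈ D, (∀ e ∈ D, Commute v e ↔ Commute a e) → v = a
  simW : ∀ d ∈ D, ∀ w ∈ D, dd D d = dd D w → w = d

/-- two commuting members of `A_d` are conjugate under the centralizer of `d` -/
theorem rel_of_commute {D : Set G} (hD : IsThreeTranspositionSet D) {d a b : G} (hd : d ∈ D)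
    (ha : a ∈ D) (hb : b ∈ D) (hda : ¬ Commute d a) (hdb : ¬ Commute d b) (hab : Commute a b)
    (hne : a ≠ b) : Rel d a b := by
  have hda' : ¬ Commute a d := fun h => hda h.symm
  obtain ⟨φ, -, h1, h2, h3⟩ := Cfsg.Agent.S5344.result hD ha hd hb hne hab hda' hdb
  refine ⟨φ (Equiv.swap 0 3 * Equiv.swap 1 2), ?_, ?_⟩
  · show _ * _ = _ * _
    rw [← h2, ← map_mul, ← map_mul]
    congr 1
    decide
  · rw [← h1, ← h3, ← map_inv, ← map_mul, ← map_mul]
    congr 1
    decide

/-- two non-commuting members of `D` both commuting with `d` are conjugate under the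
centralizer of `d`, by their product -/
theorem conj_mul_eq {D : Set G} (hT : TT D) {x y : G} (hx : x ∈ D) (hy : y ∈ D)
    (hxy : ¬ Commute x y) : (x * y) * x * (x * y)⁻¹ = y := by
  have hb := hT.braid hx hy hxy
  have hxx := hT.sq x hx
  have hyy := hT.sq y hy
  rw [mul_inv_rev, hT.inv_eq hx, hT.inv_eq hy]
  calc x * y * x * (y * x) = (x * y * x) * y * x := by group
    _ = (y * x * y) * y * x := by rw [hb]
    _ = y * x * (y * y) * x := by group
    _ = y * (x * x) := by rw [hyy]; group
    _ = y := by rw [hxx, mul_one]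

theorem rel_of_not_commute {D : Set G} (hT : TT D) {d x y : G} (hx : x ∈ D) (hy : y ∈ D)
    (hdx : Commute d x) (hdy : Commute d y) (hxy : ¬ Commute x y) : Rel d x y :=
  ⟨x * y, (hdx.mul_right hdy).symm, conj_mul_eq hT hx hy hxy⟩

section gen

variable [Finite G] {D : Set G}

/-- a non-empty set of members of `D` not commuting with `d`, invariant under the members of `D`
commuting with `d`, generates the group -/
theorem gen_of_invariant (hP : PrimHyp D) {d : G} (hd : d ∈ D) {S : Set G}
    (hS : ∀ s ∈ S, s ∈ D ∧ ¬ Commute d s) (hne : S.Nonempty)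
    (hinv : ∀ y ∈ D, Commute d y → ∀ s ∈ S, y * s * y⁻¹ ∈ S) : Subgroup.closure S = ⊤ := by
  have hT : TT D := TT.of_class hP.cls
  obtain ⟨b, hb⟩ := hne
  set C : Set G := {y : G | y ∈ D ∧ Commute d y} with hC
  set H' : Subgroup G := Subgroup.closure (C ∪ {b}) with hH'
  have hHD : IsDSubgroup D H' := by
    unfold IsDSubgroup
    apply le_antisymm
    · rw [Subgroup.closure_le]
      intro x hx
      exact hx.2
    · rw [hH']
      apply Subgroup.closure_mono
      rintro x (hx | hx)
      · exact ⟨hx.1, Subgroup.subset_closure (Or.inl hx)⟩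
      · rw [Set.mem_singleton_iff] at hx
        subst hx
        exact ⟨(hS _ hb).1, Subgroup.subset_closure (Or.inr rfl)⟩
  have hM : Subgroup.closure C ≤ H' := Subgroup.closure_mono Set.subset_union_left
  have hbH : b ∈ H' := Subgroup.subset_closure (Or.inr rfl)
  have htop : H' = ⊤ := by
    rcases hP.max d hd H' hHD hM with h | h
    · exfalso
      rw [h] at hbH
      have hcen : Subgroup.closure C ≤ Subgroup.centralizer ({d} : Set G) := by
        rw [Subgroup.closure_le]
        intro y hy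
        rw [SetLike.mem_coe, Subgroup.mem_centralizer_iff]
        intro z hz
        rw [Set.mem_singleton_iff] at hz
        subst hz
        exact hy.2.eq
      have := hcen hbH
      rw [Subgroup.mem_centralizer_iff] at this
      exact (hS _ hb).2 (this d rfl)
    · exact h
  set N : Subgroup G := Subgroup.closure S with hN
  have hbN : b ∈ N := Subgroup.subset_closure hb
  have hnorm : H' ≤ Subgroup.normalizer (N : Set G) := by
    rw [hH', Subgroup.closure_le]
    rintro y (hy | hy)
    · rw [SetLike.mem_coe, Subgroup.mem_normalizer_iff]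
      have hc : ∀ h ∈ N, y * h * y⁻¹ ∈ N :=
        conj_mem_closure (fun s hs => Subgroup.subset_closure (hinv y hy.1 hy.2 s hs))
      intro h
      constructor
      · exact hc h
      · intro hh
        have := hc _ hh
        have e : y * (y * h * y⁻¹) * y⁻¹ = h := by
          have hyy := hT.sq y hy.1
          rw [hT.inv_eq hy.1]
          calc y * (y * h * y) * y = (y * y) * h * (y * y) := by group
            _ = h := by rw [hyy, one_mul, mul_one]
        rwa [e] at this
    · rw [Set.mem_singleton_iff] at hy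
      subst hy
      exact Subgroup.le_normalizer hbN
  rw [htop, top_le_iff] at hnorm
  have hNn : N.Normal := Subgroup.normalizer_eq_top_iff.1 hnorm
  rw [eq_top_iff, ← hP.cls.2.2, Subgroup.closure_le]
  intro e he
  obtain ⟨g, rfl⟩ := exists_conj_of_class hP.cls (hS _ hb).1 he
  exact hNn.conj_mem b hbN g

/-- a member of `D` commuting with a generating set is impossible -/
theorem not_forall_commute (hP : PrimHyp D) {x : G} (hx : x ∈ D) {S : Set G}
    (hgen : Subgroup.closure S = ⊤) : ¬ ∀ s ∈ S, Commute s x := by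
  intro h
  have h1 : Subgroup.zpowers x ≤ Subgroup.center G := by
    apply le_center_of_forall_commute hgen
    intro s hs y hy
    obtain ⟨k, rfl⟩ := Subgroup.mem_zpowers_iff.1 hy
    exact (h s hs).zpow_right k
  exact not_mem_center hP.cls hP.two hx (h1 (Subgroup.mem_zpowers x))

end gen

section main

variable [Finite G] {D : Set G}

/-- **the centralizer of `d` is transitive on the members of `D` not commuting with `d`** -/
theorem trans_A (hP : PrimHyp D) {d : G} (hd : d ∈ D) :
    ∀ a ∈ D, ∀ b ∈ D, ¬ Commute d a → ¬ Commute d b → Rel d a b := by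
  have hT : TT D := TT.of_class hP.cls
  have hTS : IsThreeTranspositionSet D := hP.cls.1
  intro a₁ ha₁ b₁ hb₁ hda₁ hdb₁
  set AD : Set G := {y | y ∈ D ∧ ¬ Commute d y} with hAD
  obtain ⟨a, haAD, hmin⟩ := Set.exists_min_image AD (fun a => (cc D d a).ncard) (Set.toFinite AD)
    ⟨a₁, ha₁, hda₁⟩
  obtain ⟨ha, hda⟩ := haAD
  suffices key : ∀ b ∈ D, ¬ Commute d b → Rel d a b from
    (key a₁ ha₁ hda₁).symm.trans (key b₁ hb₁ hdb₁)
  by_contra hcon
  push Not at hcon
  obtain ⟨b₀, hb₀, hdb₀, hrb₀⟩ := hcon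
  set O' : Set G := {b | b ∈ D ∧ ¬ Commute d b ∧ ¬ Rel d a b} with hO'
  -- different orbits do not commute
  have hP1 : ∀ x ∈ D, ∀ y ∈ D, ¬ Commute d x → ¬ Commute d y → Rel d a x → ¬ Rel d a y →
      ¬ Commute x y := by
    intro x hx y hy hdx hdy hrx hry hxy
    have hne : x ≠ y := by
      rintro rfl
      exact hry hrx
    exact hry (hrx.trans (rel_of_commute hTS hd hx hy hdx hdy hxy hne))
  -- common neighbours of `a` and `b ∈ O'` commute with `d`
  have hsub : ∀ b ∈ O', cc D a b ⊆ cc D d a := by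
    rintro b ⟨hb, hdb, hrb⟩ x ⟨hx, hax, hbx⟩
    refine ⟨hx, ?_, hax⟩
    by_contra hdx
    by_cases hrx : Rel d a x
    · exact hP1 x hx b hb hdx hdb hrx hrb hbx.symm
    · exact hP1 a ha x hx hda hdx (Rel.refl d a) hrx hax
  have hcard : ∀ b ∈ O', (cc D d a).ncard ≤ (cc D a b).ncard := by
    rintro b ⟨hb, hdb, hrb⟩
    obtain ⟨g, hg⟩ := exists_conj_of_class hP.cls ha hd
    have hab : ¬ Commute a b := hP1 a ha b hb hda hdb (Rel.refl d a) hrb
    have h1 := ncard_cc hT g a b
    rw [hg] at h1
    rw [← h1]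
    apply hmin
    refine ⟨hT.conj g b hb, ?_⟩
    rw [← hg]
    intro hc
    exact hab ((Commute.conj_iff g).1 hc)
  have heq : ∀ b ∈ O', ∀ x ∈ cc D d a, Commute b x := by
    intro b hb x hx
    have := Set.eq_of_subset_of_ncard_le (hsub b hb) (hcard b hb) (Set.toFinite _)
    rw [← this] at hx
    exact hx.2.2
  -- `O'` generates
  have hgen : Subgroup.closure O' = ⊤ := by
    apply gen_of_invariant hP hd (S := O')
    · rintro s ⟨hs, hds, -⟩
      exact ⟨hs, hds⟩
    · exact ⟨b₀, hb₀, hdb₀, hrb₀⟩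
    · rintro y hy hdy s ⟨hs, hds, hrs⟩
      refine ⟨hT.conj y s hs, ?_, ?_⟩
      · intro hc
        apply hds
        have h1 : Commute (y * d * y⁻¹) (y * s * y⁻¹) := by
          have e : y * d * y⁻¹ = d := conj_eq_of_commute hdy.symm
          rw [e]; exact hc
        exact (Commute.conj_iff y).1 h1
      · intro hr
        apply hrs
        exact hr.trans ⟨y⁻¹, hdy.symm.inv_left, by group⟩
  -- so `a` and `d` have no common neighbour
  have hempty : ∀ x ∈ D, Commute d x → ¬ Commute a x := by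
    intro x hx hdx hax
    exact not_forall_commute hP hx hgen (fun s hs => heq s hs x ⟨hx, hdx, hax⟩)
  have hempty' : ∀ a' ∈ D, Rel d a a' → ∀ x ∈ D, Commute d x → ¬ Commute a' x := by
    rintro a' - ⟨g, hg, rfl⟩ x hx hdx hc
    rw [commute_conj_iff] at hc
    apply hempty (g⁻¹ * x * g) (hT.conj' hx g) _ hc
    have h1 : Commute (g⁻¹ * d * g) (g⁻¹ * x * g) := by
      have := (Commute.conj_iff g⁻¹).2 hdx
      rwa [inv_inv] at this
    have e : g⁻¹ * d * g = d := conj_eq_of_commute' hg
    rwa [e] at h1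
  -- the orbit of `a` is closed under commuting
  have hreach : (commutingGraph D).Reachable ⟨a, ha⟩ ⟨d, hd⟩ := hP.conn.preconnected _ _
  have := reachable_mem_of_closed (commutingGraph D)
    {v : D | ¬ Commute d (v : G) ∧ Rel d a (v : G)} ?_ (a := ⟨a, ha⟩) ⟨hda, Rel.refl d a⟩ hreach
  · exact this.1 (Commute.refl d)
  · rintro ⟨v, hv⟩ ⟨hdv, hrv⟩ ⟨w, hw⟩ hadj
    rw [commutingGraph_adj] at hadj
    obtain ⟨hne, hvw⟩ := hadj
    simp only at hvw hdv hrv
    have hdw : ¬ Commute d w := fun hdw => hempty' v hv hrv w hw hdw hvw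
    refine ⟨hdw, ?_⟩
    by_contra hrw
    exact hP1 v hv w hw hdv hdw hrv hrw hvw

/-- a member of `D` other than `d` commutes with some member of `D` not commuting with `d` -/
theorem exists_not_commute_commute (hP : PrimHyp D) {d y : G} (hd : d ∈ D) (hy : y ∈ D)
    (hyd : y ≠ d) : ∃ z ∈ D, ¬ Commute d z ∧ Commute y z := by
  have hT : TT D := TT.of_class hP.cls
  by_contra hcon
  push Not at hcon
  apply hyd
  apply hP.simV d hd y hy
  have hsub : cc D y y ⊆ cc D d d := by
    rintro e ⟨he, hye, -⟩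
    have : Commute d e := by
      by_contra hde
      exact hcon e he hde hye
    exact ⟨he, this, this⟩
  obtain ⟨g, hg⟩ := exists_conj_of_class hP.cls hy hd
  have hcard : (cc D d d).ncard ≤ (cc D y y).ncard := by
    have := ncard_cc hT g y y
    rw [hg] at this
    rw [this]
  have heq := Set.eq_of_subset_of_ncard_le hsub hcard (Set.toFinite _)
  intro e he
  constructor
  · intro h
    have : e ∈ cc D d d := by rw [← heq]; exact ⟨he, h, h⟩
    exact this.2.1
  · intro h
    have : e ∈ cc D y y := by rw [heq]; exact ⟨he, h, h⟩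
    exact this.2.1

/-- **the centralizer of `d` is transitive on the members of `D` other than `d` commuting
with `d`** -/
theorem trans_D (hP : PrimHyp D) {d : G} (hd : d ∈ D) :
    ∀ x ∈ D, ∀ y ∈ D, x ≠ d → y ≠ d → Commute d x → Commute d y → Rel d x y := by
  have hT : TT D := TT.of_class hP.cls
  intro x₁ hx₁ y₁ hy₁ hx₁d hy₁d hdx₁ hdy₁
  obtain ⟨x₀, hx₀DD, hmin⟩ := Set.exists_min_image (dd D d) (fun x => (aa D d x).ncard)
    (Set.toFinite _) ⟨x₁, hx₁, hx₁d, hdx₁⟩
  obtain ⟨hx₀, hx₀d, hdx₀⟩ := hx₀DD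
  suffices key : ∀ y ∈ D, y ≠ d → Commute d y → Rel d x₀ y from
    (key x₁ hx₁ hx₁d hdx₁).symm.trans (key y₁ hy₁ hy₁d hdy₁)
  by_contra hcon
  push Not at hcon
  obtain ⟨y₀, hy₀, hy₀d, hdy₀, hry₀⟩ := hcon
  -- members of the orbit of `x₀`
  have horb : ∀ x, Rel d x₀ x → x ∈ D ∧ x ≠ d ∧ Commute d x ∧ (aa D d x).ncard = (aa D d x₀).ncard := by
    rintro x ⟨c, hc, rfl⟩
    have e : c * d * c⁻¹ = d := conj_eq_of_commute hc
    refine ⟨hT.conj c x₀ hx₀, ?_, ?_, ?_⟩
    · intro h
      apply hx₀d
      have : x₀ = c⁻¹ * (c * x₀ * c⁻¹) * c := by group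
      rw [this, h]
      exact conj_eq_of_commute' hc
    · have := (Commute.conj_iff c).2 hdx₀
      rwa [e] at this
    · have := ncard_aa hT c d x₀
      rwa [e] at this
  have hstep : ∀ x, Rel d x₀ x → ∀ y ∈ D, y ≠ d → Commute d y → ¬ Rel d x₀ y →
      ∀ z ∈ D, ¬ Commute d z → ¬ Commute x z → ¬ Commute y z := by
    intro x hrx y hy hyd hdy hry
    obtain ⟨hx, hxd, hdx, hnx⟩ := horb x hrx
    have hxy : Commute x y := by
      by_contra hxy
      exact hry (hrx.trans (rel_of_not_commute hT hx hy hdx hdy hxy))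
    have hne : x ≠ y := by
      rintro rfl
      exact hry hrx
    have hsub : aa D x y ⊆ aa D d x := by
      rintro z ⟨hz, hxz, hyz⟩
      refine ⟨hz, ?_, hxz⟩
      intro hdz
      have h1 : Rel d x z := rel_of_not_commute hT hx hz hdx hdz hxz
      have h2 : Rel d z y := rel_of_not_commute hT hz hy hdz hdy (fun h => hyz h.symm)
      exact hry (hrx.trans (h1.trans h2))
    have hcard : (aa D d x).ncard ≤ (aa D x y).ncard := by
      obtain ⟨g, hg⟩ := exists_conj_of_class hP.cls hx hd
      have h1 := ncard_aa hT g x y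
      rw [hg] at h1
      rw [← h1, hnx]
      apply hmin
      refine ⟨hT.conj g y hy, ?_, ?_⟩
      · intro h
        apply hne
        have h2 : g * y * g⁻¹ = g * x * g⁻¹ := by rw [h, hg]
        have h3 : g⁻¹ * (g * y * g⁻¹) * g = g⁻¹ * (g * x * g⁻¹) * g := by rw [h2]
        have e : ∀ t : G, g⁻¹ * (g * t * g⁻¹) * g = t := fun t => by group
        rw [e, e] at h3
        exact h3.symm
      · rw [← hg]
        exact (Commute.conj_iff g).2 hxy
    have heq := Set.eq_of_subset_of_ncard_le hsub hcard (Set.toFinite _)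
    intro z hz hdz hxz
    have : z ∈ aa D x y := by rw [heq]; exact ⟨hz, hdz, hxz⟩
    exact this.2.2
  obtain ⟨z, hz, hdz, hy₀z⟩ := exists_not_commute_commute hP hd hy₀ hy₀d
  -- `z` commutes with the orbit of `x₀`
  have hz5 : ∀ x, Rel d x₀ x → Commute x z := by
    intro x hrx
    by_contra hxz
    exact hstep x hrx y₀ hy₀ hy₀d hdy₀ hry₀ z hz hdz hxz hy₀z
  -- hence every member of `A_d` commutes with `x₀`
  have hall : ∀ z' ∈ {y : G | y ∈ D ∧ ¬ Commute d y}, Commute z' x₀ := by
    rintro z' ⟨hz', hdz'⟩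
    obtain ⟨c, hc, rfl⟩ := trans_A hP hd z hz z' hz' hdz hdz'
    have h1 : Rel d x₀ (c⁻¹ * x₀ * c) := ⟨c⁻¹, hc.inv_left, by group⟩
    have h2 := hz5 _ h1
    have h3 := (Commute.conj_iff c).2 h2
    have e : c * (c⁻¹ * x₀ * c) * c⁻¹ = x₀ := by group
    rw [e] at h3
    exact h3.symm
  have hgen : Subgroup.closure {y : G | y ∈ D ∧ ¬ Commute d y} = ⊤ := by
    apply gen_of_invariant hP hd
    · intro s hs
      exact hs
    · exact ⟨z, hz, hdz⟩
    · rintro y hy hdy s ⟨hs, hds⟩
      refine ⟨hT.conj y s hs, ?_⟩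
      intro hc
      apply hds
      have h1 : Commute (y * d * y⁻¹) (y * s * y⁻¹) := by
        have e : y * d * y⁻¹ = d := conj_eq_of_commute hdy.symm
        rw [e]; exact hc
      exact (Commute.conj_iff y).1 h1
  exact not_forall_commute hP hx₀ hgen hall

/-- conjugacy under the subgroup generated by the members of `D` other than `d` commuting
with `d` -/
def RelH (D : Set G) (d a b : G) : Prop :=
  ∃ h ∈ Subgroup.closure {y : G | y ∈ D ∧ y ≠ d ∧ Commute d y}, h * a * h⁻¹ = b

theorem RelH.refl (D : Set G) (d a : G) : RelH D d a a := ⟨1, Subgroup.one_mem _, by group⟩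

theorem RelH.symm {D : Set G} {d a b : G} (h : RelH D d a b) : RelH D d b a := by
  obtain ⟨g, hg, rfl⟩ := h
  exact ⟨g⁻¹, Subgroup.inv_mem _ hg, by group⟩

theorem RelH.trans {D : Set G} {d a b c : G} (h1 : RelH D d a b) (h2 : RelH D d b c) :
    RelH D d a c := by
  obtain ⟨g, hg, rfl⟩ := h1
  obtain ⟨g', hg', rfl⟩ := h2
  exact ⟨g' * g, Subgroup.mul_mem _ hg' hg, by group⟩

theorem relH_of_not_commute {D : Set G} (hT : TT D) {d x y : G} (hx : x ∈ dd D d) (hy : y ∈ dd D d)
    (hxy : ¬ Commute x y) : RelH D d x y :=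
  ⟨x * y, Subgroup.mul_mem _ (Subgroup.subset_closure hx) (Subgroup.subset_closure hy),
    conj_mul_eq hT hx.1 hy.1 hxy⟩

/-- **the members of `D` other than `d` commuting with `d` form one conjugacy class of the
subgroup which they generate** -/
theorem trans_DH (hP : PrimHyp D) {d : G} (hd : d ∈ D) :
    ∀ x ∈ dd D d, ∀ y ∈ dd D d, RelH D d x y := by
  have hT : TT D := TT.of_class hP.cls
  by_contra hcon
  push Not at hcon
  obtain ⟨x, hx, y, hy, hrxy⟩ := hcon
  -- the key symmetric statement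
  have hE1 : ∀ x ∈ dd D d, ∀ y ∈ dd D d, ¬ RelH D d x y →
      ∀ z ∈ D, ¬ Commute d z → ¬ Commute x z → ¬ Commute y z := by
    intro x hx y hy hr
    have hxy : Commute x y := by
      by_contra hxy
      exact hr (relH_of_not_commute hT hx hy hxy)
    have hne : x ≠ y := by
      rintro rfl
      exact hr (RelH.refl D d x)
    have hsub : aa D x y ⊆ aa D d x := by
      rintro z ⟨hz, hxz, hyz⟩
      refine ⟨hz, ?_, hxz⟩
      intro hdz
      have hzd : z ≠ d := by
        rintro rfl
        exact hxz hx.2.2.symm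
      have hzDD : z ∈ dd D d := ⟨hz, hzd, hdz⟩
      have h1 : RelH D d x z := relH_of_not_commute hT hx hzDD hxz
      have h2 : RelH D d z y := relH_of_not_commute hT hzDD hy (fun h => hyz h.symm)
      exact hr (h1.trans h2)
    have hcard : (aa D d x).ncard ≤ (aa D x y).ncard := by
      obtain ⟨g, hg⟩ := exists_conj_of_class hP.cls hx.1 hd
      have h1 := ncard_aa hT g x y
      rw [hg] at h1
      rw [← h1]
      have hy' : g * y * g⁻¹ ∈ dd D d := by
        refine ⟨hT.conj g y hy.1, ?_, ?_⟩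
        · intro h
          apply hne
          have h2 : g * y * g⁻¹ = g * x * g⁻¹ := by rw [h, hg]
          have h3 : g⁻¹ * (g * y * g⁻¹) * g = g⁻¹ * (g * x * g⁻¹) * g := by rw [h2]
          have e : ∀ t : G, g⁻¹ * (g * t * g⁻¹) * g = t := fun t => by group
          rw [e, e] at h3
          exact h3.symm
        · rw [← hg]
          exact (Commute.conj_iff g).2 hxy
      obtain ⟨c, hc, hcx⟩ := trans_D hP hd x hx.1 _ hy'.1 hx.2.1 hy'.2.1 hx.2.2 hy'.2.2
      have e : c * d * c⁻¹ = d := conj_eq_of_commute hc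
      have h2 := ncard_aa hT c d x
      rw [e, hcx] at h2
      rw [h2]
    have heq := Set.eq_of_subset_of_ncard_le hsub hcard (Set.toFinite _)
    intro z hz hdz hxz
    have : z ∈ aa D x y := by rw [heq]; exact ⟨hz, hdz, hxz⟩
    exact this.2.2
  have hE : ∀ x ∈ dd D d, ∀ y ∈ dd D d, ¬ RelH D d x y →
      ∀ z ∈ D, ¬ Commute d z → (Commute x z ↔ Commute y z) := by
    intro x hx y hy hr z hz hdz
    constructor
    · intro h
      by_contra h'
      exact hE1 y hy x hx (fun h'' => hr h''.symm) z hz hdz h' h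
    · intro h
      by_contra h'
      exact hE1 x hx y hy hr z hz hdz h' h
  obtain ⟨z, hz, hdz, hyz⟩ := exists_not_commute_commute hP hd hy.1 hy.2.1
  have hall : ∀ w ∈ dd D d, Commute w z := by
    intro w hw
    by_cases hyw : RelH D d y w
    · have hxw : ¬ RelH D d x w := fun h => hrxy (h.trans hyw.symm)
      have hxz : Commute x z := (hE x hx y hy hrxy z hz hdz).2 hyz
      exact (hE x hx w hw hxw z hz hdz).1 hxz
    · exact (hE y hy w hw hyw z hz hdz).1 hyz
  have hsub : dd D d ⊆ dd D z := by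
    intro w hw
    refine ⟨hw.1, ?_, (hall w hw).symm⟩
    rintro rfl
    exact hdz hw.2.2
  have hcard : (dd D z).ncard ≤ (dd D d).ncard := by
    obtain ⟨g, hg⟩ := exists_conj_of_class hP.cls hd hz
    have := ncard_dd hT g d
    rw [hg] at this
    rw [this]
  have heq := Set.eq_of_subset_of_ncard_le hsub hcard (Set.toFinite _)
  have := hP.simW d hd z hz heq
  rw [this] at hdz
  exact hdz (Commute.refl d)

end main

universe u

/-- the hypotheses hold for a primitive class of width at least two -/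
theorem primHyp_of_primitive (h : Cfsg.Agent.Helper20.ZStarHyp.{u}) {G : Type u} [Group G]
    [Finite G] {D : Set G} (hD : IsThreeTranspositionClass D) (hprim : IsPrimitiveUnderConj D)
    (hw : ∃ a ∈ D, ∃ b ∈ D, a ≠ b ∧ Commute a b)
    (h350 : ∀ d ∈ D, {w : G | w ∈ D ∧ {y : G | y ∈ D ∧ y ≠ d ∧ Commute d y} =
      {y : G | y ∈ D ∧ y ≠ w ∧ Commute w y}} = {w : G | ∃ g ∈ Cfsg.pCore 3 G, w = g * d * g⁻¹}) :
    PrimHyp D := by
  obtain ⟨h2, h3, hconn⟩ := cores_central_of_primitive h hD hprim hw
  have hD2 : ∃ a ∈ D, ∃ b ∈ D, a ≠ b := hprim.2.1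
  refine ⟨hD, hD2, hconn, ?_, ?_, ?_⟩
  · intro d hd H hH hMH
    exact maximal_centralizer_closure hD hprim hconn hd H hH hMH
  · intro a ha v hv hs
    exact eq_of_sim hD hD2 h2 ha hv hs
  · intro d hd w hw' heq
    have hmem : w ∈ {w : G | w ∈ D ∧ {y : G | y ∈ D ∧ y ≠ d ∧ Commute d y} =
        {y : G | y ∈ D ∧ y ≠ w ∧ Commute w y}} := ⟨hw', heq⟩
    rw [h350 d hd] at hmem
    obtain ⟨g, hg, rfl⟩ := hmem
    have := h3 hg
    rw [Subgroup.mem_center_iff] at this
    rw [← this d]; group

end Cfsg.Agent.Helper88.Rank3
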