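import Mathlib
import Cfsg.Agent.Lib.Helper88.Rank3
import Cfsg.Agent.Lib.Helper49.TTWidth

/-!
# Primitivity from Fischer's hypotheses

Two routes to primitivity of a class of 3-transpositions: simple non-abelian derived group, and
Fischer's hypotheses (no solvable normal subgroup, perfect derived group).
-/

set_option autoImplicit false

namespace Cfsg.Agent.Helper88.Rank3

open Cfsg Cfsg.Agent.Helper88 Cfsg.Agent.Helper88.TTBlock Cfsg.Agent.Helper88.TTStruct
  Cfsg.Agent.Helper88.TTMod Cfsg.Agent.Helper88.TTPrim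
open scoped commutatorElement

universe u

theorem commutator_mem' {G : Type*} [Group G] (x y : G) : x * y * x⁻¹ * y⁻¹ ∈ commutator G := by
  rw [commutator_def]
  exact Subgroup.commutator_mem_commutator (Subgroup.mem_top x) (Subgroup.mem_top y)

/-- at least two members when the derived group is not abelian -/
theorem two_of_nonab {G : Type*} [Group G] {D : Set G} (hD : IsThreeTranspositionClass D)
    (hnonab : ∃ x y : commutator G, x * y ≠ y * x) : ∃ a ∈ D, ∃ b ∈ D, a ≠ b := by
  have hT : TT D := TT.of_class hD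
  by_contra hcon
  push Not at hcon
  have h1 : (⊤ : Subgroup G) ≤ Subgroup.center G := by
    apply le_center_of_forall_commute hD.2.2
    intro d hd x _
    have := hcon (x * d * x⁻¹) (hT.conj x d hd) d hd
    show d * x = x * d
    calc d * x = (x * d * x⁻¹) * x := by rw [this]
      _ = x * d := by group
  obtain ⟨x, y, hxy⟩ := hnonab
  apply hxy
  apply Subtype.ext
  have := h1 (Subgroup.mem_top (y : G))
  rw [Subgroup.mem_center_iff] at this
  show (x : G) * y = y * x
  exact this x

/-- structure of a group with simple non-abelian derived group generated by a class of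
3-transpositions -/
theorem simple_derived_structure {G : Type*} [Group G] [Finite G] {D : Set G}
    (hD : IsThreeTranspositionClass D) (hS : IsSimpleGroup (commutator G))
    (hnc : ∃ x y : commutator G, x * y ≠ y * x) {a : G} (ha : a ∈ D) :
    IsComponent (commutator G) ∧
      Subgroup.centralizer ((commutator G : Subgroup G) : Set G) ≤ Subgroup.center G ∧
      pCore 2 G ≤ Subgroup.center G ∧ pCore 3 G ≤ Subgroup.center G ∧
      (commutator G) ⊔ Subgroup.zpowers a = ⊤ := by
  have hT : TT D := TT.of_class hD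
  have hSn : (commutator G).Normal := inferInstance
  obtain ⟨hQS, hcenS⟩ := isQuasisimple_of_simple hS hnc
  have hSc : IsComponent (commutator G) := ⟨hSn.isSubnormal, hQS⟩
  have hCS : Subgroup.centralizer ((commutator G : Subgroup G) : Set G) ≤ Subgroup.center G := by
    apply le_center_of_forall_commute hD.2.2
    intro d' hd' c hc
    have hKn : (Subgroup.centralizer ((commutator G : Subgroup G) : Set G)).Normal :=
      Subgroup.normal_centralizer
    have hw1 : c * d' * c⁻¹ * d'⁻¹ ∈ commutator G := commutator_mem' c d'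
    have hw2 : c * d' * c⁻¹ * d'⁻¹ ∈ Subgroup.centralizer ((commutator G : Subgroup G) : Set G) := by
      have e1 : c * d' * c⁻¹ * d'⁻¹ = c * (d' * c⁻¹ * d'⁻¹) := by group
      rw [e1]
      exact Subgroup.mul_mem _ hc (hKn.conj_mem _ (Subgroup.inv_mem _ hc) d')
    have hw3 : (⟨c * d' * c⁻¹ * d'⁻¹, hw1⟩ : ↥(commutator G)) ∈ Subgroup.center ↥(commutator G) := by
      rw [Subgroup.mem_center_iff]
      intro z
      apply Subtype.ext
      rw [Subgroup.mem_centralizer_iff] at hw2
      exact hw2 z z.2
    rw [hcenS, Subgroup.mem_bot] at hw3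
    have hw4 : c * d' * c⁻¹ * d'⁻¹ = 1 := congrArg Subtype.val hw3
    show d' * c = c * d'
    have : c * d' = (c * d' * c⁻¹ * d'⁻¹) * (d' * c) := by group
    rw [this, hw4, one_mul]
  have h5 := Cfsg.Agent.Helper22.component_le_centralizer_fittingSubgroup hSc
  rw [Subgroup.le_centralizer_iff] at h5
  have h2' : pCore 2 G ≤ Subgroup.center G := by
    have : Fact (Nat.Prime 2) := ⟨Nat.prime_two⟩
    exact ((Cfsg.Agent.Helper22.pCore_le_fittingSubgroup 2).trans h5).trans hCS
  have h3' : pCore 3 G ≤ Subgroup.center G := by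
    have : Fact (Nat.Prime 3) := ⟨Nat.prime_three⟩
    exact ((Cfsg.Agent.Helper22.pCore_le_fittingSubgroup 3).trans h5).trans hCS
  have hsup : (commutator G) ⊔ Subgroup.zpowers a = ⊤ := by
    apply sup_eq_top_of_forall_mem hD.2.2
    intro e he
    obtain ⟨g, rfl⟩ := exists_conj_of_class hD ha he
    have h5 := commutator_mem' a⁻¹ g
    have e1 : a⁻¹ * (g * a * g⁻¹) = a⁻¹ * g * a⁻¹⁻¹ * g⁻¹ := by group
    rw [e1]; exact h5
  exact ⟨hSc, hCS, h2', h3', hsup⟩

/-- simple non-abelian derived group implies primitive, with two different commuting members -/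
theorem primitive_of_simple_derived (h : Cfsg.Agent.Helper20.ZStarHyp.{u}) {G : Type u} [Group G]
    [Finite G] {D : Set G} (hD : IsThreeTranspositionClass D) (hS : IsSimpleGroup (commutator G))
    (hnc : ∃ x y : commutator G, x * y ≠ y * x) :
    IsPrimitiveUnderConj D ∧ ∃ a ∈ D, ∃ b ∈ D, a ≠ b ∧ Commute a b := by
  have hT : TT D := TT.of_class hD
  have hD2 := two_of_nonab hD hnc
  obtain ⟨a, ha⟩ : ∃ a, a ∈ D := ⟨hD2.choose, hD2.choose_spec.1⟩
  obtain ⟨hSc, hCS, h2', h3', hsup⟩ := simple_derived_structure hD hS hnc ha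
  refine ⟨primitive_of_index_le_two hD hD2 h2' hSc hCS (index_le_two_of_sup (hT.sq a ha) hsup), ?_⟩
  by_contra hcon
  push Not at hcon
  have hw1 : commutingWidth D = 1 := by
    apply Cfsg.Agent.Helper49.width_one_of_eq_of_commute ha
    intro x hx y hy hxy
    by_contra hne
    exact hcon x hx y hy hne hxy
  have hsup3 := (Cfsg.Agent.Helper49.width_one_iff_of_zstar h (class_group hD) ha).1 hw1
  have hN3 : (pCore 3 G).Normal := pCore_normal 3 G
  have hle : commutator G ≤ pCore 3 G := by
    apply Subgroup.Normal.commutator_le_of_self_sup_commutative_eq_top (H := Subgroup.zpowers a)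
    · rw [sup_comm]; exact hsup3
    · infer_instance
  obtain ⟨x, y, hxy⟩ := hnc
  apply hxy
  apply Subtype.ext
  have := h3' (hle y.2)
  rw [Subgroup.mem_center_iff] at this
  show (x : G) * y = y * x
  exact this x

/-- Fischer's hypotheses imply primitivity -/
theorem primitive_of_fischer (h : Cfsg.Agent.Helper20.ZStarHyp.{u}) {G : Type u} [Group G]
    [Finite G] (hsol : ∀ N : Subgroup G, N.Normal → Group.IsSolvable ↥N → N = ⊥)
    (hperf : ⁅commutator G, commutator G⁆ = commutator G) {D : Set G}
    (hD : IsThreeTranspositionClass D) (hD2 : ∃ a ∈ D, ∃ b ∈ D, a ≠ b) :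
    IsPrimitiveUnderConj D := by
  have hT : TT D := TT.of_class hD
  have hcore : ∀ p : ℕ, p.Prime → pCore p G = ⊥ := by
    intro p hp
    have : Fact p.Prime := ⟨hp⟩
    apply hsol _ (pCore_normal p G)
    have h1 : IsPGroup p ↥(pCore p G) := pCore_isPGroup p G
    have h2 : Group.IsNilpotent ↥(pCore p G) := h1.isNilpotent
    infer_instance
  have h2 : pCore 2 G ≤ Subgroup.center G := by rw [hcore 2 Nat.prime_two]; exact bot_le
  have h3 : pCore 3 G ≤ Subgroup.center G := by rw [hcore 3 Nat.prime_three]; exact bot_le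
  obtain ⟨L, hLn, hL, hCL, -⟩ := exists_component h hD hD2 h2 h3
  obtain ⟨d, hd, -⟩ := hD.2.1
  apply primitive_of_index_le_two hD hD2 h2 hL hCL
  apply index_le_two_of_forall_mem hT hD.2.2 hd
  by_cases hdL : d ∈ L
  · intro e he
    obtain ⟨g, rfl⟩ := exists_conj_of_class hD hd he
    exact L.mul_mem (L.inv_mem hdL) (hLn.conj_mem d hdL g)
  -- the quotient
  have hDL : ∀ e ∈ D, e ∉ L := by
    intro e he heL
    obtain ⟨g, hg⟩ := exists_conj_of_class hD he hd
    apply hdL
    rw [← hg]
    exact hLn.conj_mem e heL g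
  set π : G →* G ⧸ L := QuotientGroup.mk' L with hπ
  have hπs : Function.Surjective π := QuotientGroup.mk'_surjective L
  have hker : ∀ x : G, π x = 1 ↔ x ∈ L := fun x => QuotientGroup.eq_one_iff x
  set Dbar : Set (G ⧸ L) := π '' D with hDbar
  have hG : IsThreeTranspositionGroup Dbar := by
    refine ⟨⟨?_, ?_⟩, ?_, ?_⟩
    · rintro _ ⟨e, he, rfl⟩
      apply orderOf_eq_prime
      · rw [pow_two, ← map_mul, hT.sq e he, map_one]
      · intro h1
        exact hDL e he ((hker e).1 h1)
    · rintro _ ⟨e, he, rfl⟩ _ ⟨f, hf, rfl⟩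
      rcases hT.prod e he f hf with h2 | h3
      · left; rw [← map_mul, ← map_pow, h2, map_one]
      · right; rw [← map_mul, ← map_pow, h3, map_one]
    · rintro gbar _ ⟨e, he, rfl⟩
      obtain ⟨g, rfl⟩ := hπs gbar
      exact ⟨g * e * g⁻¹, hT.conj g e he, by rw [map_mul, map_mul, map_inv]⟩
    · rw [hDbar, ← MonoidHom.map_closure, hD.2.2]
      exact Subgroup.map_top_of_surjective π hπs
  have hdbar : π d ∈ Dbar := ⟨d, hd, rfl⟩
  have hw1 : commutingWidth Dbar = 1 := by
    apply Cfsg.Agent.Helper49.width_one_of_eq_of_commute hdbar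
    rintro _ ⟨e, he, rfl⟩ _ ⟨f, hf, rfl⟩ hc
    have h1 : π (e * f * e⁻¹ * f⁻¹) = 1 := by
      rw [map_mul, map_mul, map_mul, map_inv, map_inv, hc.eq]
      group
    have h2 := mul_mem_of_commutator_mem hD hL e he f hf ((hker _).1 h1)
    have h3 : π (e⁻¹ * f) = 1 := (hker _).2 h2
    rw [map_mul, map_inv] at h3
    exact (inv_mul_eq_one.1 h3)
  have hsup3 := (Cfsg.Agent.Helper49.width_one_iff_of_zstar h hG hdbar).1 hw1
  have hN3 : (pCore 3 (G ⧸ L)).Normal := pCore_normal 3 (G ⧸ L)
  have hle : commutator (G ⧸ L) ≤ pCore 3 (G ⧸ L) := by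
    apply Subgroup.Normal.commutator_le_of_self_sup_commutative_eq_top (H := Subgroup.zpowers (π d))
    · rw [sup_comm]; exact hsup3
    · infer_instance
  -- the derived group of the quotient is perfect
  have hmapc : Subgroup.map π (commutator G) = commutator (G ⧸ L) := by
    rw [commutator_def, commutator_def, Subgroup.map_commutator,
      Subgroup.map_top_of_surjective π hπs]
  have hperf' : ⁅commutator (G ⧸ L), commutator (G ⧸ L)⁆ = commutator (G ⧸ L) := by
    rw [← hmapc, ← Subgroup.map_commutator, hperf]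
  have hbot : commutator (G ⧸ L) = ⊥ := by
    by_contra hne
    have hnt : Nontrivial ↥(commutator (G ⧸ L)) := (Subgroup.nontrivial_iff_ne_bot _).2 hne
    have : Fact (Nat.Prime 3) := ⟨Nat.prime_three⟩
    have hp3 : IsPGroup 3 ↥(commutator (G ⧸ L)) := (pCore_isPGroup 3 (G ⧸ L)).to_le hle
    have hnil : Group.IsNilpotent ↥(commutator (G ⧸ L)) := hp3.isNilpotent
    have hsolv : Group.IsSolvable ↥(commutator (G ⧸ L)) := inferInstance
    have hlt := Group.IsSolvable.commutator_lt_top_of_nontrivial ↥(commutator (G ⧸ L))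
    have htop : commutator ↥(commutator (G ⧸ L)) = ⊤ := by
      apply Subgroup.map_injective (commutator (G ⧸ L)).subtype_injective
      rw [Subgroup.map_subtype_commutator, hperf', ← MonoidHom.range_eq_map, Subgroup.range_subtype]
    rw [htop] at hlt
    exact lt_irrefl _ hlt
  intro e he
  obtain ⟨g, rfl⟩ := exists_conj_of_class hD hd he
  have h1 : ⁅π g, π d⁆ ∈ commutator (G ⧸ L) := by
    rw [commutator_def]
    exact Subgroup.commutator_mem_commutator (Subgroup.mem_top _) (Subgroup.mem_top _)
  rw [hbot, Subgroup.mem_bot, commutatorElement_eq_one_iff_mul_comm] at h1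
  apply (hker _).1
  rw [map_mul, map_inv, map_mul, map_mul, map_inv, h1]
  group

end Cfsg.Agent.Helper88.Rank3
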