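import Mathlib
import Cfsg.Agent.S5357
import Cfsg.Agent.S0792

/-!
# Reflections of a fixed norm over `F_3`: the subgroup they generate has index 2

* `normal_reflectionSubgroup`
* `refl_mul_refl_of_orth` : `r_u r_w = r_{u+w} r_{u-w}` for orthogonal `u`, `w` of the same norm
* `exists_perp_both`
* the sign character `chi` on the set of vectors of norm `a`
-/

set_option autoImplicit false
open Cfsg QuadraticMap Matrix
open Cfsg.Agent.S5357 Cfsg.Agent.Helper13

namespace Cfsg.Agent.Helper88.ReflIndex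

variable {n : ℕ} (Q : QuadraticForm (ZMod 3) (Fin n → ZMod 3))

theorem normal_reflectionSubgroup (c : ZMod 3) : (reflectionSubgroup (⇑Q) c).Normal := by
  constructor
  intro k hk g
  unfold reflectionSubgroup at hk ⊢
  induction hk using Subgroup.closure_induction with
  | mem x hx =>
    apply Subgroup.subset_closure
    obtain ⟨v, hv, hxv⟩ := hx
    exact ⟨mat Q g *ᵥ v, by rw [mat_preserves]; exact hv, mat_conj Q g x v hxv⟩
  | one => simp
  | mul x y _ _ hx hy =>
    have : g * (x * y) * g⁻¹ = (g * x * g⁻¹) * (g * y * g⁻¹) := by group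
    rw [this]; exact mul_mem hx hy
  | inv x _ hx =>
    have : g * x⁻¹ * g⁻¹ = (g * x * g⁻¹)⁻¹ := by group
    rw [this]; exact inv_mem hx

theorem inv3 : ∀ d : ZMod 3, d⁻¹ = d := by decide +kernel

theorem scalar_identity : ∀ yi ui wi α β d : ZMod 3, d ≠ 0 →
    yi - d * β * wi - d * α * ui =
      yi - (-d) * (α - β) * (ui - wi) - (-d) * (α + β) * (ui + wi) := by
  decide

theorem dd0 : ∀ d : ZMod 3, d + d + 0 = -d := by decide
theorem dd0' : ∀ d : ZMod 3, d + d + -0 = -d := by decide

theorem refl_mul_refl_of_orth {u w : Fin n → ZMod 3} {d : ZMod 3} (hd : d ≠ 0) (hu : Q u = d)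
    (hw : Q w = d) (huw : polar (⇑Q) u w = 0) :
    reflectionMatrix (⇑Q) u * reflectionMatrix (⇑Q) w =
      reflectionMatrix (⇑Q) (u + w) * reflectionMatrix (⇑Q) (u - w) := by
  have hwu : polar (⇑Q) w u = 0 := by rw [polar_comm]; exact huw
  have hp : Q (u + w) = -d := by
    rw [QuadraticMap.map_add Q, hu, hw, huw]; exact dd0 d
  have hm : Q (u - w) = -d := by
    rw [sub_eq_add_neg, QuadraticMap.map_add Q, QuadraticMap.map_neg, polar_neg_right, hu, hw, huw]
    exact dd0' d
  apply Matrix.mulVec_injective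
  funext y
  rw [← Matrix.mulVec_mulVec, ← Matrix.mulVec_mulVec]
  simp only [reflectionMatrix_mulVec, hp, hm, hu, hw, inv3, polar_sub_right, polar_smul_right,
    polar_add_left, polar_sub_left, polar_self, huw, hwu, smul_eq_mul, mul_zero,
    sub_zero, add_zero, zero_add, sub_self]
  funext i
  simp only [Pi.sub_apply, Pi.smul_apply, Pi.add_apply, smul_eq_mul]
  have := scalar_identity (y i) (u i) (w i) (polar (⇑Q) u y) (polar (⇑Q) w y) d hd
  rw [this]


/-- three pairwise orthogonal anisotropic vectors as a family indexed by `Fin 3` -/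
theorem orth3 {a b c : Fin n → ZMod 3} (hab : polar (⇑Q) a b = 0) (hac : polar (⇑Q) a c = 0)
    (hbc : polar (⇑Q) b c = 0) :
    ∀ i j : Fin 3, i ≠ j → polar (⇑Q) (![a, b, c] i) (![a, b, c] j) = 0 := by
  intro i j hij
  fin_cases i <;> fin_cases j
  · exact absurd rfl hij
  · simpa using hab
  · simpa using hac
  · simp only [Fin.mk_one, Fin.zero_eta, Matrix.cons_val_one, Matrix.cons_val_zero]
    rw [polar_comm]; exact hab
  · exact absurd rfl hij
  · simpa using hbc
  · simp only [Fin.reduceFinMk, Fin.zero_eta, Matrix.cons_val_two, Matrix.cons_val_zero,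
      Matrix.tail_cons, Matrix.head_cons]
    rw [polar_comm]; exact hac
  · simp only [Fin.reduceFinMk, Fin.mk_one, Matrix.cons_val_two, Matrix.cons_val_one,
      Matrix.tail_cons, Matrix.head_cons]
    rw [polar_comm]; exact hbc
  · exact absurd rfl hij

theorem s1 : ∀ e d : ZMod 3, d ≠ 0 → e + e * d * (2 • d) = 0 := by decide
theorem s2 : ∀ e d : ZMod 3, e ≠ 0 → d ≠ 0 → d + (e * d) * (e * d) * d + (e * d) * e = 0 := by decide

theorem s3 : ∀ b d : ZMod 3, d ≠ 0 → b + (d * b) * (2 • d) = 0 := by decide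
theorem s4 : ∀ f q : ZMod 3, f ≠ 0 → q ≠ 0 → 0 + (f * q) * (f * q) * q + (f * q) * f ≠ 0 := by decide

theorem exists_perp_both (hn : 5 ≤ n) (hQ : (QuadraticMap.polarBilin Q).Nondegenerate)
    {d : ZMod 3} (hd : d ≠ 0) {u v : Fin n → ZMod 3} (hu : Q u = d) (hv : Q v = d) :
    ∃ w, Q w = d ∧ polar (⇑Q) u w = 0 ∧ polar (⇑Q) v w = 0 := by
  by_cases huv : polar (⇑Q) u v = 0
  · obtain ⟨y, hy, hyq⟩ := exists_norm_orth Q (k := 2) (by omega) hQ ![u, v] (by
        intro i j hij
        fin_cases i <;> fin_cases j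
        · exact absurd rfl hij
        · simpa using huv
        · simp only [Fin.mk_one, Fin.isValue, Matrix.cons_val_one, Matrix.cons_val_fin_one,
            Fin.zero_eta, Matrix.cons_val_zero]
          rw [polar_comm]; exact huv
        · exact absurd rfl hij) (by
        intro i
        fin_cases i
        · simpa [hu] using hd
        · simpa [hv] using hd) hd
    exact ⟨y, hyq, by simpa using hy 0, by simpa using hy 1⟩
  · set e : ZMod 3 := polar (⇑Q) u v with he
    -- the singular vector of the plane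
    set z : Fin n → ZMod 3 := v + (e * d) • u with hz
    have hvz : v = z - (e * d) • u := by rw [hz]; abel
    have huz : polar (⇑Q) u z = 0 := by
      rw [hz, polar_add_right, polar_smul_right, polar_self, hu, ← he, smul_eq_mul]
      exact s1 e d hd
    have hzu : polar (⇑Q) z u = 0 := by rw [polar_comm]; exact huz
    have hQz : Q z = 0 := by
      rw [hz, QuadraticMap.map_add Q, QuadraticMap.map_smul, polar_smul_right, hu, hv,
        polar_comm, ← he, smul_eq_mul, smul_eq_mul]
      exact s2 e d huv hd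
    by_cases hz0 : z = 0
    · obtain ⟨y, hy, hyq⟩ := exists_norm_orth Q (k := 1) (by omega) hQ ![u] (by
        intro i j hij
        fin_cases i; fin_cases j
        exact absurd rfl hij) (by
        intro i
        fin_cases i
        simpa [hu] using hd) hd
      have hyu : polar (⇑Q) u y = 0 := by simpa using hy 0
      refine ⟨y, hyq, hyu, ?_⟩
      rw [hvz, hz0, zero_sub, polar_neg_left, polar_smul_left, hyu, smul_zero, neg_zero]
    · -- a vector not orthogonal to z
      have hex : ∃ y0, polar (⇑Q) z y0 ≠ 0 := by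
        by_contra hcon
        push Not at hcon
        exact hz0 (hQ.1 z hcon)
      obtain ⟨y0, hy0⟩ := hex
      set y1 : Fin n → ZMod 3 := y0 + (d * polar (⇑Q) u y0) • u with hy1
      have huy1 : polar (⇑Q) u y1 = 0 := by
        rw [hy1, polar_add_right, polar_smul_right, polar_self, hu, smul_eq_mul]
        exact s3 _ d hd
      have hzy1 : polar (⇑Q) z y1 = polar (⇑Q) z y0 := by
        rw [hy1, polar_add_right, polar_smul_right, hzu, smul_zero, add_zero]
      set f : ZMod 3 := polar (⇑Q) z y1 with hf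
      have hf0 : f ≠ 0 := by rw [hzy1]; exact hy0
      have hzz : polar (⇑Q) z z = 0 := by rw [polar_self, hQz, smul_zero]
      -- an anisotropic vector of the hyperbolic plane
      obtain ⟨p, hup, hzp, hQp⟩ : ∃ p, polar (⇑Q) u p = 0 ∧ polar (⇑Q) z p = f ∧ Q p ≠ 0 := by
        by_cases hy1q : Q y1 = 0
        · refine ⟨y1 + z, ?_, ?_, ?_⟩
          · rw [polar_add_right, huy1, huz, add_zero]
          · rw [polar_add_right, hzz, add_zero]
          · rw [QuadraticMap.map_add Q, hy1q, hQz, polar_comm, ← hf, zero_add, zero_add]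
            exact hf0
        · exact ⟨y1, huy1, rfl, hy1q⟩
      set q : ZMod 3 := Q p with hq
      have hpz : polar (⇑Q) p z = f := by rw [polar_comm]; exact hzp
      set p' : Fin n → ZMod 3 := z + (f * q) • p with hp'
      have hpp' : polar (⇑Q) p p' = 0 := by
        rw [hp', polar_add_right, polar_smul_right, polar_self, hpz, ← hq, smul_eq_mul]
        exact s1 f q hQp
      have hup' : polar (⇑Q) u p' = 0 := by
        rw [hp', polar_add_right, polar_smul_right, huz, hup, smul_zero, add_zero]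
      have hQp' : Q p' ≠ 0 := by
        rw [hp', QuadraticMap.map_add Q, QuadraticMap.map_smul, polar_smul_right, hQz, hzp, ← hq,
          smul_eq_mul, smul_eq_mul]
        exact s4 f q hf0 hQp
      obtain ⟨w, hw, hwq⟩ := exists_norm_orth Q (k := 3) (by omega) hQ ![u, p, p']
        (orth3 Q hup hup' hpp') (by
          intro i
          fin_cases i
          · simpa [hu] using hd
          · simpa using hQp
          · simpa using hQp') hd
      have hwu : polar (⇑Q) u w = 0 := by simpa using hw 0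
      have hwp : polar (⇑Q) p w = 0 := by simpa using hw 1
      have hwp' : polar (⇑Q) p' w = 0 := by simpa using hw 2
      have hwz : polar (⇑Q) z w = 0 := by
        have hzz' : z = p' - (f * q) • p := by rw [hp']; abel
        rw [hzz', polar_sub_left, polar_smul_left, hwp, hwp', smul_zero, sub_zero]
      refine ⟨w, hwq, hwu, ?_⟩
      rw [hvz, polar_sub_left, polar_smul_left, hwz, hwu, smul_zero, sub_zero]


/-! ### The sign character on the set of vectors of norm `a` -/

/-- the set of vectors of norm `a` -/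
abbrev NormSet (a : ZMod 3) : Type := {v : Fin n → ZMod 3 // Q v = a}

/-- the action of the isometry group on the vectors of norm `a` -/
def normPerm (a : ZMod 3) : ↥(isometryGroup (ZMod 3) (⇑Q)) →* Equiv.Perm (NormSet Q a) where
  toFun g :=
    { toFun := fun v => ⟨mat Q g *ᵥ v.1, by rw [mat_preserves]; exact v.2⟩
      invFun := fun v => ⟨mat Q g⁻¹ *ᵥ v.1, by rw [mat_preserves]; exact v.2⟩
      left_inv := fun v => Subtype.ext (by
        show mat Q g⁻¹ *ᵥ (mat Q g *ᵥ v.1) = v.1
        rw [Matrix.mulVec_mulVec, ← mat_mul, inv_mul_cancel, mat_one, Matrix.one_mulVec])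
      right_inv := fun v => Subtype.ext (by
        show mat Q g *ᵥ (mat Q g⁻¹ *ᵥ v.1) = v.1
        rw [Matrix.mulVec_mulVec, ← mat_mul, mul_inv_cancel, mat_one, Matrix.one_mulVec]) }
  map_one' := by
    refine Equiv.ext fun v => Subtype.ext ?_
    show (mat Q 1 *ᵥ v.1) = v.1
    rw [mat_one, Matrix.one_mulVec]
  map_mul' g h := by
    refine Equiv.ext fun v => Subtype.ext ?_
    show (mat Q (g * h) *ᵥ v.1) = mat Q g *ᵥ (mat Q h *ᵥ v.1)
    rw [mat_mul, Matrix.mulVec_mulVec]

theorem normPerm_apply (a : ZMod 3) (g : ↥(isometryGroup (ZMod 3) (⇑Q))) (v : NormSet Q a) :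
    ((normPerm Q a g) v).1 = mat Q g *ᵥ v.1 := rfl

/-- the sign character of the action on the vectors of norm `a` -/
def chi (a : ZMod 3) : ↥(isometryGroup (ZMod 3) (⇑Q)) →* ℤˣ :=
  Equiv.Perm.sign.comp (normPerm Q a)

/-- negation on the vectors of norm `a` -/
def negPerm (a : ZMod 3) : Equiv.Perm (NormSet Q a) where
  toFun v := ⟨-v.1, by rw [QuadraticMap.map_neg]; exact v.2⟩
  invFun v := ⟨-v.1, by rw [QuadraticMap.map_neg]; exact v.2⟩
  left_inv v := Subtype.ext (neg_neg _)
  right_inv v := Subtype.ext (neg_neg _)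

theorem negPerm_apply (a : ZMod 3) (v : NormSet Q a) : ((negPerm Q a) v).1 = -v.1 := rfl

theorem ne_zero_of_norm {a : ZMod 3} (ha : a ≠ 0) (v : NormSet Q a) : v.1 ≠ 0 := by
  intro h
  apply ha
  rw [← v.2, h, QuadraticMap.map_zero]

theorem neg_ne_self {v : Fin n → ZMod 3} (hv : v ≠ 0) : -v ≠ v := by
  intro h
  apply hv
  have h2 : (2 : ZMod 3) • v = 0 := by
    rw [two_smul]
    nth_rewrite 1 [← h]
    exact neg_add_cancel v
  rcases smul_eq_zero.1 h2 with h3 | h3
  · exact absurd h3 (by decide)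
  · exact h3

theorem negPerm_sq (a : ZMod 3) : negPerm Q a ^ 2 = 1 := by
  refine Equiv.ext fun v => Subtype.ext ?_
  show (- -v.1) = v.1
  exact neg_neg _

theorem sign_negPerm {a : ZMod 3} (ha : a ≠ 0) :
    Equiv.Perm.sign (negPerm Q a) = (-1) ^ (Fintype.card (NormSet Q a) / 2) := by
  rw [Equiv.Perm.sign_of_pow_two_eq_one (negPerm_sq Q a)]
  have : IsEmpty (Function.fixedPoints (negPerm Q a)) := by
    constructor
    rintro ⟨v, hv⟩
    exact neg_ne_self (ne_zero_of_norm Q ha v) (congrArg Subtype.val hv)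
  rw [Fintype.card_eq_zero_iff.2 this, Nat.sub_zero]


theorem zmod3_cases' : ∀ t : ZMod 3, t = 0 ∨ t = 1 ∨ t = -1 := by decide

theorem refl_self {u : Fin n → ZMod 3} (hu : Q u ≠ 0) : reflectionMatrix (⇑Q) u *ᵥ u = -u := by
  rw [reflectionMatrix_mulVec, polar_self]
  have h2 : (Q u)⁻¹ * (2 • Q u) = 2 := by
    simp only [nsmul_eq_mul, Nat.cast_ofNat]
    field_simp
  rw [h2, two_smul]
  abel

/-- the permutation `v ↦ r_u (-v)` of the vectors of norm `a` -/
def tau (a : ZMod 3) (u : Fin n → ZMod 3) (hu : Q u ≠ 0) : Equiv.Perm (NormSet Q a) :=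
  normPerm Q a (reflG Q u hu) * negPerm Q a

theorem tau_apply (a : ZMod 3) (u : Fin n → ZMod 3) (hu : Q u ≠ 0) (v : NormSet Q a) :
    ((tau Q a u hu) v).1 = reflectionMatrix (⇑Q) u *ᵥ (-v.1) := rfl

theorem tau_sq (a : ZMod 3) (u : Fin n → ZMod 3) (hu : Q u ≠ 0) : tau Q a u hu ^ 2 = 1 := by
  refine Equiv.ext fun v => Subtype.ext ?_
  rw [pow_two, Equiv.Perm.mul_apply, tau_apply, tau_apply, Matrix.mulVec_neg,
    refl_refl Q hu, neg_neg]
  rfl

theorem tau_fix_iff {a : ZMod 3} (ha : a ≠ 0) (u : Fin n → ZMod 3) (hu : Q u ≠ 0)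
    (v : NormSet Q a) :
    (tau Q a u hu) v = v ↔ Q u = a ∧ (v.1 = u ∨ v.1 = -u) := by
  constructor
  · intro h
    have h1 : reflectionMatrix (⇑Q) u *ᵥ (-v.1) = v.1 := by
      rw [← tau_apply Q a u hu v, h]
    rw [reflectionMatrix_mulVec] at h1
    set s : ZMod 3 := (Q u)⁻¹ * polar (⇑Q) u (-v.1) with hs
    have h2 : v.1 = s • u := by
      have h3 : v.1 + v.1 + v.1 = 0 := by
        have : (3 : ZMod 3) • v.1 = 0 := by
          rw [show (3 : ZMod 3) = 0 by decide, zero_smul]
        rw [← this, show (3 : ZMod 3) = 1 + 1 + 1 by decide, add_smul, add_smul, one_smul]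
      have h4 : s • u = -v.1 - v.1 := by
        have h5 : -v.1 - s • u + s • u = v.1 + s • u := by rw [h1]
        rw [sub_add_cancel] at h5
        rw [h5]; abel
      rw [h4]
      have : v.1 = -v.1 - v.1 + (v.1 + v.1 + v.1) := by abel
      rw [h3, add_zero] at this
      exact this
    have hQ : a = s * s * Q u := by
      rw [← v.2, h2, QuadraticMap.map_smul, smul_eq_mul]
    rcases zmod3_cases' s with h0 | h0 | h0
    · exfalso; apply ha; rw [hQ, h0]; simp
    · rw [h0] at hQ h2
      refine ⟨by rw [hQ]; simp, Or.inl (by rw [h2, one_smul])⟩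
    · rw [h0] at hQ h2
      refine ⟨by rw [hQ]; simp, Or.inr (by rw [h2, neg_smul, one_smul])⟩
  · rintro ⟨-, h | h⟩
    · apply Subtype.ext
      rw [tau_apply, h, Matrix.mulVec_neg, refl_self Q hu, neg_neg]
    · apply Subtype.ext
      rw [tau_apply, h, neg_neg, refl_self Q hu]

theorem sign_tau_of_ne {a : ZMod 3} (ha : a ≠ 0) (u : Fin n → ZMod 3) (hu : Q u ≠ 0)
    (hua : Q u ≠ a) :
    Equiv.Perm.sign (tau Q a u hu) = (-1) ^ (Fintype.card (NormSet Q a) / 2) := by
  rw [Equiv.Perm.sign_of_pow_two_eq_one (tau_sq Q a u hu)]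
  have : IsEmpty (Function.fixedPoints (tau Q a u hu)) := by
    constructor
    rintro ⟨v, hv⟩
    exact hua ((tau_fix_iff Q ha u hu v).1 hv).1
  rw [Fintype.card_eq_zero_iff.2 this, Nat.sub_zero]

theorem sign_tau_of_eq {a : ZMod 3} (ha : a ≠ 0) (u : Fin n → ZMod 3) (hu : Q u ≠ 0)
    (hua : Q u = a) :
    Equiv.Perm.sign (tau Q a u hu) = (-1) ^ ((Fintype.card (NormSet Q a) - 2) / 2) ∧
      2 ≤ Fintype.card (NormSet Q a) := by
  rw [Equiv.Perm.sign_of_pow_two_eq_one (tau_sq Q a u hu)]
  have hu0 : u ≠ 0 := by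
    intro h; apply hu; rw [h, QuadraticMap.map_zero]
  have hc2 : Fintype.card (Function.fixedPoints (tau Q a u hu)) = 2 := by
    rw [← Nat.card_eq_fintype_card, Nat.card_eq_two_iff]
    refine ⟨⟨⟨u, hua⟩, (tau_fix_iff Q ha u hu _).2 ⟨hua, Or.inl rfl⟩⟩,
      ⟨⟨-u, by rw [QuadraticMap.map_neg]; exact hua⟩,
        (tau_fix_iff Q ha u hu _).2 ⟨hua, Or.inr rfl⟩⟩, ?_, ?_⟩
    · intro h
      have : u = -u := congrArg (fun x => x.1.1) h
      exact neg_ne_self hu0 this.symm
    · ext ⟨v, hv⟩
      simp only [Set.mem_insert_iff, Set.mem_singleton_iff, Set.mem_univ, iff_true]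
      rcases ((tau_fix_iff Q ha u hu v).1 hv).2 with h | h
      · left; exact Subtype.ext (Subtype.ext h)
      · right; exact Subtype.ext (Subtype.ext h)
  refine ⟨by rw [hc2], ?_⟩
  calc 2 = Fintype.card (Function.fixedPoints (tau Q a u hu)) := hc2.symm
    _ ≤ Fintype.card (NormSet Q a) := Fintype.card_subtype_le _

theorem chi_reflG {a : ZMod 3} (ha : a ≠ 0) (u : Fin n → ZMod 3) (hu : Q u ≠ 0) :
    chi Q a (reflG Q u hu) = if Q u = a then -1 else 1 := by
  have hσ : normPerm Q a (reflG Q u hu) = tau Q a u hu * negPerm Q a := by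
    unfold tau
    rw [mul_assoc, ← pow_two, negPerm_sq, mul_one]
  show Equiv.Perm.sign (normPerm Q a (reflG Q u hu)) = _
  rw [hσ, map_mul, sign_negPerm Q ha]
  split_ifs with h
  · obtain ⟨h1, h2⟩ := sign_tau_of_eq Q ha u hu h
    rw [h1, ← pow_add]
    apply Odd.neg_one_pow
    rw [Nat.odd_iff]
    omega
  · rw [sign_tau_of_ne Q ha u hu h, ← mul_pow]
    simp


theorem ne_neg3 : ∀ c : ZMod 3, c ≠ 0 → c ≠ -c := by decide
theorem eq_or_eq_neg3 : ∀ c q : ZMod 3, c ≠ 0 → q ≠ 0 → q = c ∨ q = -c := by decide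
theorem negneg0 : ∀ c : ZMod 3, -c + -c + 0 = c := by decide
theorem negneg0' : ∀ c : ZMod 3, -c + -c + -0 = c := by decide

theorem reflG_mul_self (x : Fin n → ZMod 3) (hx : Q x ≠ 0) : reflG Q x hx * reflG Q x hx = 1 :=
  sq_eq_one hx rfl

/-- the product of two reflections of norm `-c` in orthogonal vectors is a product of two
reflections of norm `c` -/
theorem reflG_mul_reflG_mem_of_orth {c : ZMod 3} (hc : c ≠ 0) {x y : Fin n → ZMod 3}
    (hx : Q x = -c) (hy : Q y = -c) (hxy : polar (⇑Q) x y = 0) :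
    reflG Q x (hx ▸ neg_ne_zero.2 hc) * reflG Q y (hy ▸ neg_ne_zero.2 hc) ∈
      reflectionSubgroup (⇑Q) c := by
  have hnc : -c ≠ 0 := neg_ne_zero.2 hc
  have hp : Q (x + y) = c := by
    rw [QuadraticMap.map_add Q, hx, hy, hxy]; exact negneg0 c
  have hm : Q (x - y) = c := by
    rw [sub_eq_add_neg, QuadraticMap.map_add Q, QuadraticMap.map_neg, polar_neg_right, hx, hy, hxy]
    exact negneg0' c
  have h1 : reflG Q x (hx ▸ hnc) * reflG Q y (hy ▸ hnc) =
      reflG Q (x + y) (hp ▸ hc) * reflG Q (x - y) (hm ▸ hc) := by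
    apply mat_injective Q
    rw [mat_mul, mat_mul, mat_reflG, mat_reflG, mat_reflG, mat_reflG]
    exact refl_mul_refl_of_orth Q hnc hx hy hxy
  rw [h1]
  exact mul_mem (Subgroup.subset_closure ⟨x + y, hp, rfl⟩) (Subgroup.subset_closure ⟨x - y, hm, rfl⟩)

/-- the product of any two reflections of norm `-c` lies in the group generated by the reflections
of norm `c` -/
theorem reflG_mul_reflG_mem (hn : 5 ≤ n) (hQ : (QuadraticMap.polarBilin Q).Nondegenerate)
    {c : ZMod 3} (hc : c ≠ 0) {u v : Fin n → ZMod 3} (hu : Q u = -c) (hv : Q v = -c) :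
    reflG Q u (hu ▸ neg_ne_zero.2 hc) * reflG Q v (hv ▸ neg_ne_zero.2 hc) ∈
      reflectionSubgroup (⇑Q) c := by
  have hnc : -c ≠ 0 := neg_ne_zero.2 hc
  obtain ⟨w, hw, huw, hvw⟩ := exists_perp_both Q hn hQ hnc hu hv
  have h1 : reflG Q u (hu ▸ hnc) * reflG Q v (hv ▸ hnc) =
      (reflG Q u (hu ▸ hnc) * reflG Q w (hw ▸ hnc)) * (reflG Q w (hw ▸ hnc) * reflG Q v (hv ▸ hnc)) := by
    rw [mul_assoc, ← mul_assoc (reflG Q w (hw ▸ hnc)), reflG_mul_self, one_mul]
  rw [h1]
  exact mul_mem (reflG_mul_reflG_mem_of_orth Q hc hu hw huw)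
    (reflG_mul_reflG_mem_of_orth Q hc hw hv (by rw [polar_comm]; exact hvw))

/-- **Index 2.** Over `F_3`, in dimension at least 5, the reflections of a given non-zero norm
generate a subgroup of index 2 of the isometry group of a non-degenerate quadratic form. -/
theorem index_reflectionSubgroup (hn : 5 ≤ n) (hQ : (QuadraticMap.polarBilin Q).Nondegenerate)
    {c : ZMod 3} (hc : c ≠ 0) : (reflectionSubgroup (⇑Q) c).index = 2 := by
  have hnc : -c ≠ 0 := neg_ne_zero.2 hc
  have hcc : c ≠ -c := ne_neg3 c hc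
  obtain ⟨u0, hu0⟩ := exists_norm Q (by omega) hQ hnc
  have hu0' : Q u0 ≠ 0 := hu0 ▸ hnc
  have hKn : (reflectionSubgroup (⇑Q) c).Normal := normal_reflectionSubgroup Q c
  have r0sq : reflG Q u0 hu0' * reflG Q u0 hu0' = 1 := reflG_mul_self Q u0 hu0'
  have r0inv : (reflG Q u0 hu0')⁻¹ = reflG Q u0 hu0' := inv_eq_of_mul_eq_one_left r0sq
  -- K ≤ ker chi
  have hKchi : ∀ k ∈ reflectionSubgroup (⇑Q) c, chi Q (-c) k = 1 := by
    intro k hk
    unfold reflectionSubgroup at hk
    induction hk using Subgroup.closure_induction with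
    | mem x hx =>
      obtain ⟨v, hv, hxv⟩ := hx
      have hx' : x = reflG Q v (hv ▸ hc) := mat_injective Q hxv
      rw [hx', chi_reflG Q hnc, if_neg (by rw [hv]; exact hcc)]
    | one => exact map_one _
    | mul x y _ _ hx hy => rw [map_mul, hx, hy, one_mul]
    | inv x _ hx => rw [map_inv, hx, inv_one]
  have hr0 : chi Q (-c) (reflG Q u0 hu0') = -1 := by rw [chi_reflG Q hnc, if_pos hu0]
  have hr0K : reflG Q u0 hu0' ∉ reflectionSubgroup (⇑Q) c := fun h => by
    have := hKchi _ h
    rw [hr0] at this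
    exact absurd this (by decide)
  -- every isometry is in K or in K r0
  have hP' : ∀ (l : List (Fin n → ZMod 3)), (∀ w ∈ l, Q w ≠ 0) →
      ∀ b : ↥(isometryGroup (ZMod 3) (⇑Q)),
        mat Q b = (l.map (reflectionMatrix (⇑Q))).prod →
          b ∈ reflectionSubgroup (⇑Q) c ∨ b * reflG Q u0 hu0' ∈ reflectionSubgroup (⇑Q) c := by
    intro l
    induction l with
    | nil =>
      intro _ b hb
      left
      have : b = 1 := mat_injective Q (by rw [hb, List.map_nil, List.prod_nil, mat_one])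
      rw [this]
      exact Subgroup.one_mem _
    | cons w l ih =>
      intro hl b hb
      have hw : Q w ≠ 0 := hl w List.mem_cons_self
      have hl' : ∀ x ∈ l, Q x ≠ 0 := fun x hx => hl x (List.mem_cons_of_mem _ hx)
      have hb' : mat Q (reflG Q w hw * b) = (l.map (reflectionMatrix (⇑Q))).prod := by
        rw [mat_mul, mat_reflG, hb, List.map_cons, List.prod_cons, ← mul_assoc, refl_mul_self Q hw,
          one_mul]
      have hbb' : b = reflG Q w hw * (reflG Q w hw * b) := by
        rw [← mul_assoc, reflG_mul_self, one_mul]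
      rcases eq_or_eq_neg3 c (Q w) hc hw with hwc | hwc
      · have hwK : reflG Q w hw ∈ reflectionSubgroup (⇑Q) c :=
          Subgroup.subset_closure ⟨w, hwc, rfl⟩
        rcases ih hl' _ hb' with h | h
        · left; rw [hbb']; exact Subgroup.mul_mem _ hwK h
        · right; rw [hbb', mul_assoc]; exact Subgroup.mul_mem _ hwK h
      · have hk1 : reflG Q w hw * reflG Q u0 hu0' ∈ reflectionSubgroup (⇑Q) c :=
          reflG_mul_reflG_mem Q hn hQ hc hwc hu0
        rcases ih hl' _ hb' with h | h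
        · right
          have h2 : b * reflG Q u0 hu0' = (reflG Q w hw * reflG Q u0 hu0') *
              (reflG Q u0 hu0' * (reflG Q w hw * b) * (reflG Q u0 hu0')⁻¹) := by
            rw [r0inv]
            simp only [mul_assoc]
            rw [← mul_assoc (reflG Q u0 hu0') (reflG Q u0 hu0'), r0sq, one_mul,
              ← mul_assoc (reflG Q w hw) (reflG Q w hw), reflG_mul_self, one_mul]
          rw [h2]
          exact Subgroup.mul_mem _ hk1 (hKn.conj_mem _ h _)
        · left
          have h2 : b = (reflG Q w hw * reflG Q u0 hu0') *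
              (reflG Q u0 hu0' * ((reflG Q w hw * b) * reflG Q u0 hu0') * (reflG Q u0 hu0')⁻¹) := by
            rw [r0inv]
            simp only [mul_assoc]
            rw [r0sq, mul_one, ← mul_assoc (reflG Q u0 hu0') (reflG Q u0 hu0'), r0sq, one_mul,
              ← mul_assoc (reflG Q w hw) (reflG Q w hw), reflG_mul_self, one_mul]
          rw [h2]
          exact Subgroup.mul_mem _ hk1 (hKn.conj_mem _ h _)
  have hP : ∀ b : ↥(isometryGroup (ZMod 3) (⇑Q)),
      b ∈ reflectionSubgroup (⇑Q) c ∨ b * reflG Q u0 hu0' ∈ reflectionSubgroup (⇑Q) c := by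
    intro b
    obtain ⟨l, hl, hbl⟩ := Cfsg.Agent.S0792.matrix_cd (by decide) Q hQ (mat Q b) (mat_preserves Q b)
    exact hP' l hl b hbl
  rw [Subgroup.index_eq_two_iff]
  refine ⟨reflG Q u0 hu0', fun b => ?_⟩
  rcases hP b with h | h
  · right
    refine ⟨h, fun h' => hr0K ?_⟩
    have := Subgroup.mul_mem _ (Subgroup.inv_mem _ h) h'
    rwa [inv_mul_cancel_left] at this
  · left
    refine ⟨h, fun h' => hr0K ?_⟩
    have := Subgroup.mul_mem _ (Subgroup.inv_mem _ h') h
    rwa [inv_mul_cancel_left] at this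

end Cfsg.Agent.Helper88.ReflIndex
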