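import Mathlib
import Cfsg.Agent.Lib.Helper88.ReflIndex
import Cfsg.Agent.Lib.Helper88.TTPrim

set_option autoImplicit false

namespace Cfsg.Agent.Helper88.ReflPrim

open Cfsg QuadraticMap Cfsg.Agent.S5357 Cfsg.Agent.Helper88 Matrix

variable {n : ℕ} (Q : QuadraticForm (ZMod 3) (Fin n → ZMod 3))

theorem refl_ne_of {x y t : Fin n → ZMod 3} (hy : Q y ≠ 0) (h1 : polar (⇑Q) x t = 0)
    (h2 : polar (⇑Q) y t ≠ 0) : reflectionMatrix (⇑Q) x ≠ reflectionMatrix (⇑Q) y := by
  intro h
  have h3 : reflectionMatrix (⇑Q) x *ᵥ t = reflectionMatrix (⇑Q) y *ᵥ t := by rw [h]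
  rw [Cfsg.Agent.Helper13.reflectionMatrix_mulVec, Cfsg.Agent.Helper13.reflectionMatrix_mulVec, h1, mul_zero,
    zero_smul, sub_zero] at h3
  have h4 : ((Q y)⁻¹ * polar (⇑Q) y t) • y = 0 := by
    have := h3
    rw [eq_comm, sub_eq_self] at this
    exact this
  rcases smul_eq_zero.1 h4 with h5 | h5
  · exact (mul_ne_zero (inv_ne_zero hy) h2) h5
  · apply hy; rw [h5, QuadraticMap.map_zero]

theorem zmod3_a : ∀ e c : ZMod 3, e ≠ 0 → c ≠ 0 → (-(e * c)) * (-(e * c)) = 1 := by decide
theorem zmod3_b : ∀ p c q : ZMod 3, p ≠ 0 → q + ((c - q) * p) * p = c := by decide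
theorem zmod3_c : ∀ a c : ZMod 3, c ≠ 0 → a + (a * c) * (2 • c) = 0 := by decide

/-- a reflection of norm `c` commuting with `r_u` but not with `r_v` -/
theorem exists_sep (hn : 5 ≤ n) (hQ : (QuadraticMap.polarBilin Q).Nondegenerate) {c : ZMod 3}
    (hc : c ≠ 0) {u v : Fin n → ZMod 3} (hu : Q u = c) (hv : Q v = c)
    (hne : reflectionMatrix (⇑Q) u ≠ reflectionMatrix (⇑Q) v) :
    ∃ w, Q w = c ∧ polar (⇑Q) u w = 0 ∧ polar (⇑Q) v w ≠ 0 ∧
      reflectionMatrix (⇑Q) w ≠ reflectionMatrix (⇑Q) v := by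
  have h2c : (2 • c : ZMod 3) ≠ 0 := two_smul_ne_zero hc
  by_cases huv : polar (⇑Q) u v = 0
  · -- orthogonal case
    have horth2 : ∀ i j : Fin 2, i ≠ j → polar (⇑Q) (![u, v] i) (![u, v] j) = 0 := by
      intro i j hij
      fin_cases i <;> fin_cases j
      · exact absurd rfl hij
      · simpa using huv
      · simp only [Fin.mk_one, Fin.isValue, Matrix.cons_val_one, Matrix.cons_val_fin_one,
          Fin.zero_eta, Matrix.cons_val_zero]
        rw [polar_comm]; exact huv
      · exact absurd rfl hij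
    have hani2 : ∀ i : Fin 2, Q (![u, v] i) ≠ 0 := by
      intro i
      fin_cases i
      · simpa [hu] using hc
      · simpa [hv] using hc
    obtain ⟨y₁, hy₁, hy₁q⟩ := exists_norm_orth Q (k := 2) (by omega) hQ ![u, v] horth2 hani2 hc
    have hy₁u : polar (⇑Q) u y₁ = 0 := by simpa using hy₁ 0
    have hy₁v : polar (⇑Q) v y₁ = 0 := by simpa using hy₁ 1
    have horth3 : ∀ i j : Fin 3, i ≠ j → polar (⇑Q) (![u, v, y₁] i) (![u, v, y₁] j) = 0 := by
      intro i j hij
      fin_cases i <;> fin_cases j <;> simp at hij ⊢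
      · exact huv
      · exact hy₁u
      · rw [polar_comm]; exact huv
      · exact hy₁v
      · rw [polar_comm]; exact hy₁u
      · rw [polar_comm]; exact hy₁v
    have hani3 : ∀ i : Fin 3, Q (![u, v, y₁] i) ≠ 0 := by
      intro i
      fin_cases i
      · simpa [hu] using hc
      · simpa [hv] using hc
      · simpa [hy₁q] using hc
    obtain ⟨y₂, hy₂, hy₂q⟩ := exists_norm_orth Q (k := 3) (by omega) hQ ![u, v, y₁] horth3 hani3
      (neg_ne_zero.2 hc)
    have hy₂u : polar (⇑Q) u y₂ = 0 := by simpa using hy₂ 0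
    have hy₂v : polar (⇑Q) v y₂ = 0 := by simpa using hy₂ 1
    have hy₂y : polar (⇑Q) y₁ y₂ = 0 := by simpa using hy₂ 2
    refine ⟨v + (y₁ + y₂), ?_, ?_, ?_, ?_⟩
    · rw [QuadraticMap.map_add Q, QuadraticMap.map_add Q, polar_add_right, hv, hy₁q, hy₂q, hy₂y, hy₁v, hy₂v]
      ring
    · rw [polar_add_right, polar_add_right, huv, hy₁u, hy₂u]; ring
    · rw [polar_add_right, polar_add_right, polar_self, hv, hy₁v, hy₂v, add_zero, add_zero]
      exact h2c
    · apply (refl_ne_of Q (y := v + (y₁ + y₂)) (x := v) (t := y₁) ?_ hy₁v ?_).symm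
      · rw [QuadraticMap.map_add Q, QuadraticMap.map_add Q, polar_add_right, hv, hy₁q, hy₂q, hy₂y, hy₁v, hy₂v]
        ring_nf
        exact hc
      · rw [polar_add_left, polar_add_left, hy₁v, polar_self, hy₁q, polar_comm (⇑Q) y₂ y₁, hy₂y, zero_add,
          add_zero]
        exact h2c
  · -- non-orthogonal case
    set e : ZMod 3 := polar (⇑Q) u v with he
    set z : Fin n → ZMod 3 := v + (e * c) • u with hz
    have hvz : v = z - (e * c) • u := by rw [hz]; abel
    have huz : polar (⇑Q) u z = 0 := by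
      rw [hz, polar_add_right, polar_smul_right, polar_self, hu, ← he, smul_eq_mul]
      exact Cfsg.Agent.Helper88.ReflIndex.s1 e c hc
    have hQz : Q z = 0 := by
      rw [hz, QuadraticMap.map_add Q, QuadraticMap.map_smul, polar_smul_right, hu, hv,
        polar_comm, ← he, smul_eq_mul, smul_eq_mul]
      exact Cfsg.Agent.Helper88.ReflIndex.s2 e c huv hc
    have hz0 : z ≠ 0 := by
      intro h0
      apply hne
      have : v = (-(e * c)) • u := by
        rw [hvz, h0, zero_sub, neg_smul]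
      rw [this, refl_smul Q (zmod3_a e c huv hc)]
    -- a vector pairing nontrivially with `z`
    obtain ⟨z₀, hz₀⟩ : ∃ z₀, polar (⇑Q) z z₀ ≠ 0 := by
      by_contra hcon
      push Not at hcon
      apply hz0
      apply hQ.1 z
      intro y
      exact hcon y
    set z₁ : Fin n → ZMod 3 := z₀ + (polar (⇑Q) u z₀ * c) • u with hz₁
    have huz₁ : polar (⇑Q) u z₁ = 0 := by
      rw [hz₁, polar_add_right, polar_smul_right, polar_self, hu, smul_eq_mul]
      exact zmod3_c _ c hc
    have hzz₁ : polar (⇑Q) z z₁ = polar (⇑Q) z z₀ := by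
      rw [hz₁, polar_add_right, polar_smul_right, polar_comm (⇑Q) z u, huz, smul_zero, add_zero]
    set p : ZMod 3 := polar (⇑Q) z z₀ with hp
    set w : Fin n → ZMod 3 := z₁ + ((c - Q z₁) * p) • z with hw
    have hQw : Q w = c := by
      rw [hw, QuadraticMap.map_add Q, QuadraticMap.map_smul, hQz, polar_smul_right, polar_comm (⇑Q) z₁ z, hzz₁,
        smul_zero, add_zero, smul_eq_mul]
      exact zmod3_b p c (Q z₁) hz₀
    have huw : polar (⇑Q) u w = 0 := by
      rw [hw, polar_add_right, polar_smul_right, huz₁, huz, smul_zero, add_zero]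
    have hzw : polar (⇑Q) z w = p := by
      rw [hw, polar_add_right, polar_smul_right, polar_self, hQz, hzz₁]
      simp
    have hvw : polar (⇑Q) v w = p := by
      rw [hvz, polar_sub_left, polar_smul_left, huw, smul_zero, sub_zero, hzw]
    refine ⟨w, hQw, huw, ?_, ?_⟩
    · rw [hvw]; exact hz₀
    · apply refl_ne_of Q (x := w) (y := v) (t := u) (hv ▸ hc)
      · rw [polar_comm]; exact huw
      · rw [polar_comm]; exact huv

end Cfsg.Agent.Helper88.ReflPrim
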