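import Mathlib
import Cfsg.Agent.Lib.Helper88.ReflSep

set_option autoImplicit false

namespace Cfsg.Agent.Helper88.ReflPrim

open Cfsg QuadraticMap Cfsg.Agent.S5357 Cfsg.Agent.Helper88 Matrix
  Cfsg.Agent.Helper88.TTStruct Cfsg.Agent.Helper88.TTPrim Cfsg.Agent.Helper88.TTBlock

universe u

/-- if any two members of `D` are separated by a third commuting with exactly one of them, then
`O_2(G)` and `O_3(G)` are central -/
theorem cores_central_of_separated (h : Cfsg.Agent.Helper20.ZStarHyp.{u}) {G : Type u} [Group G]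
    [Finite G] {D : Set G} (hD : IsThreeTranspositionClass D) (hD2 : ∃ a ∈ D, ∃ b ∈ D, a ≠ b)
    (hsep : ∀ a ∈ D, ∀ b ∈ D, a ≠ b → ∃ e ∈ D, e ≠ a ∧ Commute a e ∧ ¬ Commute b e) :
    pCore 2 G ≤ Subgroup.center G ∧ pCore 3 G ≤ Subgroup.center G := by
  have hT : TT D := TT.of_class hD
  constructor
  · apply le_center_of_forall_commute hD.2.2
    intro d hd g hg
    have hS := Cfsg.Agent.S5349.result hD hD2 hd
    have hgB : g * d * g⁻¹ ∈ {v : G | v ∈ D ∧ ∀ e ∈ D, Commute v e ↔ Commute d e} := by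
      rw [hS.2]; exact ⟨g, hg, rfl⟩
    have heq : g * d * g⁻¹ = d := by
      by_contra hne
      obtain ⟨e, he, -, hde, hve⟩ := hsep d hd _ hgB.1 (fun hh => hne hh.symm)
      exact hve ((hgB.2 e he).2 hde)
    show d * g = g * d
    calc d * g = (g * d * g⁻¹) * g := by rw [heq]
      _ = g * d := by group
  · apply le_center_of_forall_commute hD.2.2
    intro d hd g hg
    have hS := Cfsg.Agent.Helper49.theta_class_of_zstar h hD hd
    have hgB : g * d * g⁻¹ ∈ {w : G | w ∈ D ∧ {y : G | y ∈ D ∧ y ≠ d ∧ Commute d y} =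
        {y : G | y ∈ D ∧ y ≠ w ∧ Commute w y}} := by
      rw [hS.2]; exact ⟨g, hg, rfl⟩
    have heq : g * d * g⁻¹ = d := by
      by_contra hne
      obtain ⟨e, he, hed, hde, hve⟩ := hsep d hd _ hgB.1 (fun hh => hne hh.symm)
      have h1 : e ∈ {y : G | y ∈ D ∧ y ≠ d ∧ Commute d y} := ⟨he, hed, hde⟩
      rw [hgB.2] at h1
      exact hve h1.2.2
    show d * g = g * d
    calc d * g = (g * d * g⁻¹) * g := by rw [heq]
      _ = g * d := by group

variable {n : ℕ} (Q : QuadraticForm (ZMod 3) (Fin n → ZMod 3))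

/-- the statement of S5360, from the `Z*`-hypothesis -/
theorem refl_structure (h : Cfsg.Agent.Helper20.ZStarHyp.{0}) (hn : 5 ≤ n)
    (hQ : (QuadraticMap.polarBilin Q).Nondegenerate) (c : ZMod 3) (hc : c ≠ 0) :
    Cfsg.IsQuasisimple (commutator ↥(Cfsg.reflectionSubgroup (⇑Q) c)) ∧
      (commutator ↥(Cfsg.reflectionSubgroup (⇑Q) c)).index ≤ 2 ∧
      Cfsg.generalizedFittingSubgroup ↥(Cfsg.reflectionSubgroup (⇑Q) c) =
        Subgroup.center ↥(Cfsg.reflectionSubgroup (⇑Q) c) ⊔ commutator ↥(Cfsg.reflectionSubgroup (⇑Q) c) ∧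
      Cfsg.IsPrimitiveUnderConj {g : ↥(Cfsg.reflectionSubgroup (⇑Q) c) |
        (g : ↥(Cfsg.isometryGroup (ZMod 3) (⇑Q))) ∈ Cfsg.reflectionsOfNorm (⇑Q) c} := by
  set D : Set ↥(Cfsg.reflectionSubgroup (⇑Q) c) := {g : ↥(Cfsg.reflectionSubgroup (⇑Q) c) |
        (g : ↥(Cfsg.isometryGroup (ZMod 3) (⇑Q))) ∈ Cfsg.reflectionsOfNorm (⇑Q) c} with hDdef
  have hD : IsThreeTranspositionClass D := Cfsg.Agent.S5357.result n hn Q hQ c hc
  have hT : TT D := TT.of_class hD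
  have : Finite ↥(Cfsg.reflectionSubgroup (⇑Q) c) := inferInstance
  -- the reflection of a vector of norm `c` as a member of `D`
  have hmk : ∀ w : Fin n → ZMod 3, Q w = c → ∃ e ∈ D,
      mat Q (e : ↥(Cfsg.isometryGroup (ZMod 3) (⇑Q))) = reflectionMatrix (⇑Q) w := by
    intro w hw
    have hw0 : Q w ≠ 0 := hw ▸ hc
    have hrmem : reflG Q w hw0 ∈ Cfsg.reflectionSubgroup (⇑Q) c :=
      Subgroup.subset_closure ⟨w, hw, rfl⟩
    exact ⟨⟨reflG Q w hw0, hrmem⟩, ⟨w, hw, rfl⟩, rfl⟩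
  have hmat_inj : ∀ a b : ↥(Cfsg.reflectionSubgroup (⇑Q) c),
      mat Q (a : ↥(Cfsg.isometryGroup (ZMod 3) (⇑Q))) = mat Q (b : ↥(Cfsg.isometryGroup (ZMod 3) (⇑Q))) →
      a = b := fun a b hab => Subtype.ext (mat_injective Q hab)
  -- commuting criterion
  have hcomm : ∀ a b : ↥(Cfsg.reflectionSubgroup (⇑Q) c), ∀ u v : Fin n → ZMod 3,
      mat Q (a : ↥(Cfsg.isometryGroup (ZMod 3) (⇑Q))) = reflectionMatrix (⇑Q) u →
      mat Q (b : ↥(Cfsg.isometryGroup (ZMod 3) (⇑Q))) = reflectionMatrix (⇑Q) v →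
      polar (⇑Q) u v = 0 → Commute a b := by
    intro a b u v hau hbv hf
    have h1 : (a : ↥(Cfsg.isometryGroup (ZMod 3) (⇑Q))) * b * (a : ↥(Cfsg.isometryGroup (ZMod 3) (⇑Q)))⁻¹ = b :=
      conj_eq_of_orth hau hbv hf
    have h2 : a * b * a⁻¹ = b := Subtype.ext h1
    show a * b = b * a
    calc a * b = (a * b * a⁻¹) * a := by group
      _ = b * a := by rw [h2]
  have hncomm : ∀ a b : ↥(Cfsg.reflectionSubgroup (⇑Q) c), ∀ u v : Fin n → ZMod 3, Q u = c → Q v = c →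
      mat Q (a : ↥(Cfsg.isometryGroup (ZMod 3) (⇑Q))) = reflectionMatrix (⇑Q) u →
      mat Q (b : ↥(Cfsg.isometryGroup (ZMod 3) (⇑Q))) = reflectionMatrix (⇑Q) v →
      polar (⇑Q) u v ≠ 0 → a ≠ b → ¬ Commute a b := by
    intro a b u v hu hv hau hbv hf hab hc'
    have h1 : (a : ↥(Cfsg.isometryGroup (ZMod 3) (⇑Q))) * b * (a : ↥(Cfsg.isometryGroup (ZMod 3) (⇑Q)))⁻¹ =
        b * a * (b : ↥(Cfsg.isometryGroup (ZMod 3) (⇑Q)))⁻¹ :=
      conj_eq_conj_of_not_orth (hu.trans hv.symm) (hu ▸ hc) hau hbv hf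
    have h2 : a * b * a⁻¹ = b * a * b⁻¹ := Subtype.ext h1
    apply hab
    have e1 : a * b * a⁻¹ = b := by rw [hc'.eq]; group
    have e2 : b * a * b⁻¹ = a := by rw [← hc'.eq]; group
    rw [e1, e2] at h2
    exact h2.symm
  -- separation
  have hsep : ∀ a ∈ D, ∀ b ∈ D, a ≠ b → ∃ e ∈ D, e ≠ a ∧ Commute a e ∧ ¬ Commute b e := by
    rintro a ⟨u, hu, hau⟩ b ⟨v, hv, hbv⟩ hab
    have hne : reflectionMatrix (⇑Q) u ≠ reflectionMatrix (⇑Q) v := by
      intro hh
      apply hab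
      apply hmat_inj
      show mat Q _ = mat Q _
      rw [show mat Q (a : ↥(Cfsg.isometryGroup (ZMod 3) (⇑Q))) = reflectionMatrix (⇑Q) u from hau,
        show mat Q (b : ↥(Cfsg.isometryGroup (ZMod 3) (⇑Q))) = reflectionMatrix (⇑Q) v from hbv, hh]
    obtain ⟨w, hw, huw, hvw, hwv⟩ := exists_sep Q hn hQ hc hu hv hne
    obtain ⟨e, he, hew⟩ := hmk w hw
    have h2c : (2 • c : ZMod 3) ≠ 0 := two_smul_ne_zero hc
    refine ⟨e, he, ?_, hcomm a e u w hau hew huw, ?_⟩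
    · intro hea
      have : reflectionMatrix (⇑Q) u = reflectionMatrix (⇑Q) w := by
        rw [← hew, hea]; exact hau.symm
      refine refl_ne_of Q (x := u) (y := w) (t := w) (hw ▸ hc) huw ?_ this
      rw [polar_self, hw]; exact h2c
    · apply hncomm b e v w hv hw hbv hew hvw
      intro hbe
      apply hwv
      rw [← hew, ← hbe]; exact hbv
  -- two distinct members
  have hD2 : ∃ a ∈ D, ∃ b ∈ D, a ≠ b := by
    obtain ⟨u, hu⟩ := exists_norm Q (by omega) hQ hc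
    obtain ⟨w, hw, huw, -⟩ := Cfsg.Agent.Helper88.ReflIndex.exists_perp_both Q hn hQ hc hu hu
    obtain ⟨a, ha, hau⟩ := hmk u hu
    obtain ⟨e, he, hew⟩ := hmk w hw
    have h2c : (2 • c : ZMod 3) ≠ 0 := two_smul_ne_zero hc
    refine ⟨a, ha, e, he, ?_⟩
    intro hae
    have : reflectionMatrix (⇑Q) u = reflectionMatrix (⇑Q) w := by
      rw [← hew, ← hae]; exact hau.symm
    refine refl_ne_of Q (x := u) (y := w) (t := w) (hw ▸ hc) huw ?_ this
    rw [polar_self, hw]; exact h2c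
  obtain ⟨h2, h3⟩ := cores_central_of_separated h hD hD2 hsep
  -- connectedness
  have hconn : (commutingGraph D).Connected := by
    obtain ⟨a₀, ha₀, -⟩ := hD2
    rw [SimpleGraph.connected_iff]
    refine ⟨?_, ⟨⟨a₀, ha₀⟩⟩⟩
    rintro ⟨a, ⟨u, hu, hau⟩⟩ ⟨b, ⟨v, hv, hbv⟩⟩
    obtain ⟨w, hw, huw, hvw⟩ := Cfsg.Agent.Helper88.ReflIndex.exists_perp_both Q hn hQ hc hu hv
    obtain ⟨e, he, hew⟩ := hmk w hw
    have h2c : (2 • c : ZMod 3) ≠ 0 := two_smul_ne_zero hc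
    have hne : ∀ (x : ↥(Cfsg.reflectionSubgroup (⇑Q) c)) (t : Fin n → ZMod 3),
        mat Q (x : ↥(Cfsg.isometryGroup (ZMod 3) (⇑Q))) = reflectionMatrix (⇑Q) t →
        polar (⇑Q) t w = 0 → x ≠ e := by
      intro x t hxt htw hxe
      have : reflectionMatrix (⇑Q) t = reflectionMatrix (⇑Q) w := by
        rw [← hew, ← hxe]; exact hxt.symm
      refine refl_ne_of Q (x := t) (y := w) (t := w) (hw ▸ hc) htw ?_ this
      rw [polar_self, hw]; exact h2c
    have h1 : (commutingGraph D).Adj ⟨a, ⟨u, hu, hau⟩⟩ ⟨e, he⟩ := by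
      rw [commutingGraph_adj]
      exact ⟨fun hh => hne a u hau huw (congrArg Subtype.val hh), hcomm a e u w hau hew huw⟩
    have h2' : (commutingGraph D).Adj ⟨e, he⟩ ⟨b, ⟨v, hv, hbv⟩⟩ := by
      rw [commutingGraph_adj]
      exact ⟨fun hh => hne b v hbv hvw (congrArg Subtype.val hh).symm,
        (hcomm b e v w hbv hew hvw).symm⟩
    exact h1.reachable.trans h2'.reachable
  obtain ⟨L, hLn, hL, hCL, hlay⟩ := exists_component h hD hD2 h2 h3
  obtain ⟨d, hd, -⟩ := hD.2.1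
  have hsup := sup_eq_top_of_forall_mem hD.2.2 (mem_of_connected hD hL hconn hd)
  have hcl : commutator ↥(Cfsg.reflectionSubgroup (⇑Q) c) = L := by
    apply le_antisymm
    · exact Subgroup.Normal.commutator_le_of_self_sup_commutative_eq_top hsup inferInstance
    · have h1 := Cfsg.Agent.Helper22.IsQuasisimple.commutator_eq hL.2
      rw [commutator_def, ← h1]
      exact Subgroup.commutator_mono le_top le_top
  have hidx : L.index ≤ 2 := index_le_two_of_sup (hT.sq d hd) hsup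
  rw [hcl]
  refine ⟨hL.2, hidx, ?_, primitive_of_index_le_two hD hD2 h2 hL hCL hidx⟩
  rw [Cfsg.Agent.Helper22.generalizedFittingSubgroup_eq, hlay, fitting_eq_center hD h2 h3, sup_comm]

end Cfsg.Agent.Helper88.ReflPrim
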