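import Mathlib

/-!
# The Coxeter presentation of the symmetric group of degree five

Four involutions satisfying the Coxeter relations of type `A₄` are the images of the
transpositions `(0 1), (1 2), (2 3), (3 4)` under a homomorphism from the symmetric group of
degree five, which is injective when the first two are different.
-/

set_option autoImplicit false

namespace Cfsg.Agent.Helper88.S5Cox

variable {G : Type*} [Group G]

/-- Coxeter relations of type `A₄` -/
structure Rel (a b c d : G) : Prop where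
  aa : a * a = 1
  bb : b * b = 1
  cc : c * c = 1
  dd : d * d = 1
  ca : c * a = a * c
  da : d * a = a * d
  db : d * b = b * d
  bab : b * (a * b) = a * (b * a)
  cbc : c * (b * c) = b * (c * b)
  dcd : d * (c * d) = c * (d * c)

/-- the 120 normal forms -/
def W (a b c d : G) : Fin 120 → G :=
  ![1, d, d * (c), d * (c * (b)), d * (c * (b * (a))), c, c * (d), c * (d * (c)), c * (d * (c * (b))), c * (d * (c * (b * (a)))), c * (b), c * (b * (d)), c * (b * (d * (c))), c * (b * (d * (c * (b)))), c * (b * (d * (c * (b * (a))))), c * (b * (a)), c * (b * (a * (d))), c * (b * (a * (d * (c)))), c * (b * (a * (d * (c * (b))))), c * (b * (a * (d * (c * (b * (a)))))), b, b * (d), b * (d * (c)), b * (d * (c * (b))), b * (d * (c * (b * (a)))), b * (c), b * (c * (d)), b * (c * (d * (c))), b * (c * (d * (c * (b)))), b * (c * (d * (c * (b * (a))))), b * (c * (b)), b * (c * (b * (d))), b * (c * (b * (d * (c)))), b * (c * (b * (d * (c * (b))))), b * (c * (b * (d * (c * (b * (a)))))),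 b * (c * (b * (a))), b * (c * (b * (a * (d)))), b * (c * (b * (a * (d * (c))))), b * (c * (b * (a * (d * (c * (b)))))), b * (c * (b * (a * (d * (c * (b * (a))))))), b * (a), b * (a * (d)), b * (a * (d * (c))), b * (a * (d * (c * (b)))), b * (a * (d * (c * (b * (a))))), b * (a * (c)), b * (a * (c * (d))), b * (a * (c * (d * (c)))), b * (a * (c * (d * (c * (b))))), b * (a * (c * (d * (c * (b * (a)))))), b * (a * (c * (b))), b * (a * (c * (b * (d)))), b * (a * (c * (b * (d * (c))))), b * (a * (c * (b * (d * (c * (b)))))), b * (a * (c * (b * (d * (c * (b * (a))))))), b * (a * (c * (b * (a)))), b * (a * (c * (b * (a * (d))))), b * (a * (c * (b * (a * (d * (c)))))), b * (a * (c * (b * (a * (d * (c * (b))))))), b * (a * (c * (b * (a * (d * (c * (b * (a)))))))), a, a * (d), a * (d * (c)), a * (d * (c * (b))), a * (d * (c * (b * (a)))), a * (c), a * (c * (d)), a * (c * (d * (c))), a * (c * (d * (c * (b)))), a * (c * (d * (c * (b * (a))))), a * (c * (b)), a * (c * (b * (d))),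 a * (c * (b * (d * (c)))), a * (c * (b * (d * (c * (b))))), a * (c * (b * (d * (c * (b * (a)))))), a * (c * (b * (a))), a * (c * (b * (a * (d)))), a * (c * (b * (a * (d * (c))))), a * (c * (b * (a * (d * (c * (b)))))), a * (c * (b * (a * (d * (c * (b * (a))))))), a * (b), a * (b * (d)), a * (b * (d * (c))), a * (b * (d * (c * (b)))), a * (b * (d * (c * (b * (a))))), a * (b * (c)), a * (b * (c * (d))), a * (b * (c * (d * (c)))), a * (b * (c * (d * (c * (b))))), a * (b * (c * (d * (c * (b * (a)))))), a * (b * (c * (b))), a * (b * (c * (b * (d)))), a * (b * (c * (b * (d * (c))))), a * (b * (c * (b * (d * (c * (b)))))), a * (b * (c * (b * (d * (c * (b * (a))))))), a * (b * (c * (b * (a)))), a * (b * (c * (b * (a * (d))))), a * (b * (c * (b * (a * (d * (c)))))), a * (b * (c * (b * (a * (d * (c * (b))))))), a * (b * (c * (b * (a * (d * (c * (b * (a)))))))), a * (b * (a)), a * (b * (a * (d))), a * (b * (a * (d * (c)))), a * (b * (a * (d * (c * (b))))), a * (b * (a * (d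 * (c * (b * (a)))))), a * (b * (a * (c))), a * (b * (a * (c * (d)))), a * (b * (a * (c * (d * (c))))), a * (b * (a * (c * (d * (c * (b)))))), a * (b * (a * (c * (d * (c * (b * (a))))))), a * (b * (a * (c * (b)))), a * (b * (a * (c * (b * (d))))), a * (b * (a * (c * (b * (d * (c)))))), a * (b * (a * (c * (b * (d * (c * (b))))))), a * (b * (a * (c * (b * (d * (c * (b * (a)))))))), a * (b * (a * (c * (b * (a))))), a * (b * (a * (c * (b * (a * (d)))))), a * (b * (a * (c * (b * (a * (d * (c))))))), a * (b * (a * (c * (b * (a * (d * (c * (b)))))))), a * (b * (a * (c * (b * (a * (d * (c * (b * (a)))))))))]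

def gen (a b c d : G) : Fin 4 → G := ![a, b, c, d]

/-- left multiplication table on the normal forms -/
def tbl : Fin 4 → Fin 120 → Fin 120 :=
  ![![60, 61, 62, 63, 64, 65, 66, 67, 68, 69, 70, 71, 72, 73, 74, 75, 76, 77, 78, 79, 80, 81, 82, 83, 84, 85, 86, 87, 88, 89, 90, 91, 92, 93, 94, 95, 96, 97, 98, 99, 100, 101, 102, 103, 104, 105, 106, 107, 108, 109, 110, 111, 112, 113, 114, 115, 116, 117, 118, 119, 0, 1, 2, 3, 4, 5, 6, 7, 8, 9, 10, 11, 12, 13, 14, 15, 16, 17, 18, 19, 20, 21, 22, 23, 24, 25, 26, 27, 28, 29, 30, 31, 32, 33, 34, 35, 36, 37, 38, 39, 40, 41, 42, 43, 44, 45, 46, 47, 48, 49, 50, 51, 52, 53, 54, 55, 56, 57, 58, 59], ![20, 21, 22, 23, 24, 25, 26, 27, 28, 29, 30, 31, 32, 33, 34, 35, 36, 37, 38, 39, 0, 1, 2, 3, 4, 5, 6, 7, 8, 9, 10, 11, 12, 13, 14, 15, 16, 17, 18, 19, 60, 61, 62, 63, 64, 65, 66, 67, 68, 69, 70, 71, 72, 73, 74, 75, 76, 77, 78, 79, 40, 41, 42, 43, 44, 45, 46, 47, 48, 49, 50, 51, 52, 53, 54, 55, 56, 57, 58, 59, 100, 101, 102, 103, 104,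 105, 106, 107, 108, 109, 110, 111, 112, 113, 114, 115, 116, 117, 118, 119, 80, 81, 82, 83, 84, 85, 86, 87, 88, 89, 90, 91, 92, 93, 94, 95, 96, 97, 98, 99], ![5, 6, 7, 8, 9, 0, 1, 2, 3, 4, 20, 21, 22, 23, 24, 40, 41, 42, 43, 44, 10, 11, 12, 13, 14, 30, 31, 32, 33, 34, 25, 26, 27, 28, 29, 45, 46, 47, 48, 49, 15, 16, 17, 18, 19, 35, 36, 37, 38, 39, 55, 56, 57, 58, 59, 50, 51, 52, 53, 54, 65, 66, 67, 68, 69, 60, 61, 62, 63, 64, 80, 81, 82, 83, 84, 100, 101, 102, 103, 104, 70, 71, 72, 73, 74, 90, 91, 92, 93, 94, 85, 86, 87, 88, 89, 105, 106, 107, 108, 109, 75, 76, 77, 78, 79, 95, 96, 97, 98, 99, 115, 116, 117, 118, 119, 110, 111, 112, 113, 114], ![1, 0, 5, 10, 15, 2, 7, 6, 11, 16, 3, 8, 13, 12, 17, 4, 9, 14, 19, 18, 21, 20, 25, 30, 35, 22, 27, 26, 31, 36, 23, 28, 33, 32, 37, 24, 29, 34, 39, 38, 41, 40, 45, 50, 55, 42, 47, 46, 51, 56, 43, 48, 53, 52, 57, 44, 49, 54, 59, 58, 61, 60, 65, 70, 75, 62, 67, 66, 71, 76, 63, 68, 73, 72, 77, 64, 69, 74, 79, 78, 81, 80, 85, 90,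 95, 82, 87, 86, 91, 96, 83, 88, 93, 92, 97, 84, 89, 94, 99, 98, 101, 100, 105, 110, 115, 102, 107, 106, 111, 116, 103, 108, 113, 112, 117, 104, 109, 114, 119, 118]]

set_option maxHeartbeats 4000000 in
set_option maxRecDepth 4000 in
theorem step {a b c d : G} (h : Rel a b c d) (i : Fin 4) (j : Fin 120) :
    gen a b c d i * W a b c d j = W a b c d (tbl i j) := by
  have aa := h.aa
  have bb := h.bb
  have cc := h.cc
  have dd := h.dd
  have ca := h.ca
  have da := h.da
  have db := h.db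
  have bab := h.bab
  have cbc := h.cbc
  have dcd := h.dcd
  have aa' : ∀ x, a * (a * x) = x := fun x => by rw [← mul_assoc, aa, one_mul]
  have bb' : ∀ x, b * (b * x) = x := fun x => by rw [← mul_assoc, bb, one_mul]
  have cc' : ∀ x, c * (c * x) = x := fun x => by rw [← mul_assoc, cc, one_mul]
  have dd' : ∀ x, d * (d * x) = x := fun x => by rw [← mul_assoc, dd, one_mul]
  have ca' : ∀ x, c * (a * x) = a * (c * x) := fun x => by rw [← mul_assoc, ca, mul_assoc]
  have da' : ∀ x, d * (a * x) = a * (d * x) := fun x => by rw [← mul_assoc, da, mul_assoc]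
  have db' : ∀ x, d * (b * x) = b * (d * x) := fun x => by rw [← mul_assoc, db, mul_assoc]
  have bab' : ∀ x, b * (a * (b * x)) = a * (b * (a * x)) := fun x => by
    rw [← mul_assoc a b x, ← mul_assoc b (a * b) x, bab]; simp only [mul_assoc]
  have cbc' : ∀ x, c * (b * (c * x)) = b * (c * (b * x)) := fun x => by
    rw [← mul_assoc b c x, ← mul_assoc c (b * c) x, cbc]; simp only [mul_assoc]
  have dcd' : ∀ x, d * (c * (d * x)) = c * (d * (c * x)) := fun x => by
    rw [← mul_assoc c d x, ← mul_assoc d (c * d) x, dcd]; simp only [mul_assoc]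
  have cbac : c * (b * (a * c)) = b * (c * (b * a)) := by
    rw [← ca, cbc']
  have cbac' : ∀ x, c * (b * (a * (c * x))) = b * (c * (b * (a * x))) := fun x => by
    rw [← ca', cbc']
  have dcbd : d * (c * (b * d)) = c * (d * (c * b)) := by
    rw [← db, dcd']
  have dcbd' : ∀ x, d * (c * (b * (d * x))) = c * (d * (c * (b * x))) := fun x => by
    rw [← db', dcd']
  have dcbad : d * (c * (b * (a * d))) = c * (d * (c * (b * a))) := by
    rw [← da, dcbd']
  have dcbad' : ∀ x, d * (c * (b * (a * (d * x)))) = c * (d * (c * (b * (a * x)))) := fun x => by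
    rw [← da', dcbd']
  fin_cases i <;> fin_cases j <;>
    simp only [gen, W, tbl, Fin.reduceFinMk, Fin.isValue, Matrix.cons_val, mul_one, aa, bb, cc, dd,
      ca, da, db, bab, cbc, dcd, aa', bb', cc', dd', ca', da', db', bab', cbc', dcd', cbac, cbac',
      dcbd, dcbd', dcbad, dcbad']

open Equiv

theorem relS : Rel (swap (0 : Fin 5) 1) (swap (1 : Fin 5) 2) (swap (2 : Fin 5) 3)
    (swap (3 : Fin 5) 4) := by
  constructor <;> decide

theorem gen_eq (i : Fin 4) : swap (i.castSucc : Fin 5) i.succ =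
    gen (swap (0 : Fin 5) 1) (swap (1 : Fin 5) 2) (swap (2 : Fin 5) 3) (swap (3 : Fin 5) 4) i := by
  fin_cases i <;> rfl

theorem W_zero (a b c d : G) : W a b c d 0 = 1 := by
  simp [W]

theorem W_surj : Function.Surjective
    (W (swap (0 : Fin 5) 1) (swap (1 : Fin 5) 2) (swap (2 : Fin 5) 3) (swap (3 : Fin 5) 4)) := by
  set s0 : Perm (Fin 5) := swap 0 1 with hs0
  set s1 : Perm (Fin 5) := swap 1 2 with hs1
  set s2 : Perm (Fin 5) := swap 2 3 with hs2
  set s3 : Perm (Fin 5) := swap 3 4 with hs3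
  have key : ∀ τ : Perm (Fin 5), ∀ j, ∃ j', W s0 s1 s2 s3 j' = τ * W s0 s1 s2 s3 j := by
    intro τ
    have hτ : τ ∈ Submonoid.closure
        (Set.range fun i : Fin 4 => swap (i.castSucc : Fin 5) i.succ) := by
      rw [Equiv.Perm.mclosure_swap_castSucc_succ]; trivial
    induction hτ using Submonoid.closure_induction with
    | mem x hx =>
      obtain ⟨i, rfl⟩ := hx
      intro j
      refine ⟨tbl i j, ?_⟩
      simp only [gen_eq]
      rw [step relS]
    | one => intro j; exact ⟨j, by rw [one_mul]⟩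
    | mul x y _ _ hx hy =>
      intro j
      obtain ⟨j₁, h₁⟩ := hy j
      obtain ⟨j₂, h₂⟩ := hx j₁
      exact ⟨j₂, by rw [h₂, h₁, mul_assoc]⟩
  intro σ
  obtain ⟨j, hj⟩ := key σ 0
  exact ⟨j, by rw [hj, W_zero, mul_one]⟩

theorem W_bij : Function.Bijective
    (W (swap (0 : Fin 5) 1) (swap (1 : Fin 5) 2) (swap (2 : Fin 5) 3) (swap (3 : Fin 5) 4)) := by
  rw [Fintype.bijective_iff_surjective_and_card]
  refine ⟨W_surj, ?_⟩
  rw [Fintype.card_fin, Fintype.card_perm, Fintype.card_fin]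
  rfl

theorem main {a b c d : G} (h : Rel a b c d) (hab : a ≠ b) :
    ∃ φ : Perm (Fin 5) →* G, Function.Injective φ ∧ φ (swap 0 1) = a ∧ φ (swap 1 2) = b ∧
      φ (swap 2 3) = c ∧ φ (swap 3 4) = d := by
  classical
  set s0 : Perm (Fin 5) := swap 0 1 with hs0
  set s1 : Perm (Fin 5) := swap 1 2 with hs1
  set s2 : Perm (Fin 5) := swap 2 3 with hs2
  set s3 : Perm (Fin 5) := swap 3 4 with hs3
  let E : Fin 120 ≃ Perm (Fin 5) := Equiv.ofBijective (W s0 s1 s2 s3) W_bij
  have hE : ∀ j, E j = W s0 s1 s2 s3 j := fun _ => rfl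
  let f : Perm (Fin 5) → G := fun σ => W a b c d (E.symm σ)
  have hf : ∀ i σ, f (gen s0 s1 s2 s3 i * σ) = gen a b c d i * f σ := by
    intro i σ
    have h1 : gen s0 s1 s2 s3 i * σ = E (tbl i (E.symm σ)) := by
      rw [hE, ← step relS, ← hE, Equiv.apply_symm_apply]
    show W a b c d (E.symm (gen s0 s1 s2 s3 i * σ)) = gen a b c d i * W a b c d (E.symm σ)
    rw [h1, Equiv.symm_apply_apply, step h]
  have hE0 : E 0 = 1 := by
    rw [hE, W_zero]
  have hf1 : f 1 = 1 := by
    show W a b c d (E.symm 1) = 1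
    rw [← hE0, Equiv.symm_apply_apply, W_zero]
  have hfgen : ∀ i, f (gen s0 s1 s2 s3 i) = gen a b c d i := by
    intro i
    have := hf i 1
    rwa [mul_one, hf1, mul_one] at this
  have hmul : ∀ τ σ : Perm (Fin 5), f (τ * σ) = f τ * f σ := by
    intro τ
    have hτ : τ ∈ Submonoid.closure
        (Set.range fun i : Fin 4 => swap (i.castSucc : Fin 5) i.succ) := by
      rw [Equiv.Perm.mclosure_swap_castSucc_succ]; trivial
    induction hτ using Submonoid.closure_induction with
    | mem x hx =>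
      obtain ⟨i, rfl⟩ := hx
      intro σ
      simp only [gen_eq]
      rw [hf, hfgen]
    | one => intro σ; rw [one_mul, hf1, one_mul]
    | mul x y _ _ hx hy =>
      intro σ
      rw [mul_assoc, hx, hy, hx, mul_assoc]
  let φ : Perm (Fin 5) →* G := MonoidHom.mk' f hmul
  have hφ0 : φ s0 = a := hfgen 0
  have hφ1 : φ s1 = b := hfgen 1
  have hφ2 : φ s2 = c := hfgen 2
  have hφ3 : φ s3 = d := hfgen 3
  refine ⟨φ, ?_, hφ0, hφ1, hφ2, hφ3⟩
  rw [← MonoidHom.ker_eq_bot_iff]
  by_contra hne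
  have hnt : Nontrivial φ.ker := (Subgroup.nontrivial_iff_ne_bot _).2 hne
  have hle : alternatingGroup (Fin 5) ≤ φ.ker :=
    Equiv.Perm.alternatingGroup_le_of_normal (by simp) hnt
  have hmem : s0 * s1 ∈ alternatingGroup (Fin 5) := by
    rw [Equiv.Perm.mem_alternatingGroup]
    decide
  have h1 := hle hmem
  rw [MonoidHom.mem_ker, map_mul, hφ0, hφ1] at h1
  apply hab
  have h2 : a = b⁻¹ := eq_inv_of_mul_eq_one_left h1
  rw [h2]
  exact inv_eq_of_mul_eq_one_left h.bb

end Cfsg.Agent.Helper88.S5Cox
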