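import Mathlib
import Cfsg.Agent.Lib.Helper62.SLN0
import Cfsg.Agent.Lib.Helper26.SLN_R
import Cfsg.Agent.Lib.Helper49.SLN_G7

/-!
# SLN piece S8, core (helper62's server for S2332): `dim C_V(Q) = dim C_V(U_0)`
-/

set_option autoImplicit false

namespace Cfsg.Agent.Helper88.SLN

open Matrix Module Cfsg.Agent.Helper93.U2 Cfsg.Agent.Helper62.SLN

section Core

variable {F : Type*} [Field F] {κ : Type} [Fintype κ] [DecidableEq κ]
  {V : Type*} [AddCommGroup V] [Module ℂ V] [FiniteDimensional ℂ V]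

/-- `qEl j t` only depends on `update t j 0` -/
theorem h88_qEl_update (j : κ) (t : κ → F) : qEl j (Function.update t j 0) = qEl j t := by
  unfold qEl
  congr 1
  apply Subtype.ext
  rw [tvEl_val, tvEl_val, Function.update_idem]

/-- `Q` is the conjugate of `U_0` by the swap element -/
theorem h88_Qset_eq (j : κ) (s : SpecialLinearGroup (Unit ⊕ κ) F)
    (hs : ∀ u : κ → F, u j = 0 → s * uEl u * s⁻¹ = qEl j u) :
    Qset (F := F) j = (fun g => s * g * s⁻¹) '' (U0set (F := F) j) := by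
  ext g
  constructor
  · rintro ⟨t, rfl⟩
    refine ⟨uEl (Function.update t j 0), ⟨Function.update t j 0, by simp, rfl⟩, ?_⟩
    show s * uEl (Function.update t j 0) * s⁻¹ = qEl j t
    rw [hs _ (by simp), h88_qEl_update]
  · rintro ⟨g0, ⟨u, huj, rfl⟩, rfl⟩
    exact ⟨u, (hs u huj).symm⟩

/-- `dim C_V(Q) = dim C_V(U_0)` -/
theorem h88_finrank_fix_Q_eq (ρ : Representation ℂ (SpecialLinearGroup (Unit ⊕ κ) F) V) (j : κ) :
    finrank ℂ (fixSp ρ (Qset (F := F) j)) = finrank ℂ (fixSp ρ (U0set (F := F) j)) := by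
  obtain ⟨s, hs⟩ := Cfsg.Agent.Helper49.SLN.exists_swap (F := F) j
  rw [h88_Qset_eq j s hs]
  exact Cfsg.Agent.Helper26.SLN.finrank_fixSp_conj ρ s _

end Core

end Cfsg.Agent.Helper88.SLN
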