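import Mathlib
import Cfsg.Agent.Lib.Helper98.SPE0

/-!
# SPE project (S2333): private base lemmas of helper88 (own proofs of the small FORM facts
needed by the pieces K6, K6b), names prefixed `h88_` to avoid clashes with the FORM pieces.
-/

set_option autoImplicit false

namespace Cfsg.Agent.Helper88.SPE

open Matrix Cfsg.Agent.Helper98.SPE

variable {F : Type*} [Field F] {n : ℕ}

theorem h88_bv_eq_sum (S : Matrix (Fin n) (Fin n) F) (x y : Fin n → F) :
    bv S x y = ∑ i, ∑ j, if i ≤ j then S i j * (x i * y j + y i * x j) else 0 := by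
  unfold bv qv
  rw [← Finset.sum_sub_distrib, ← Finset.sum_sub_distrib]
  refine Finset.sum_congr rfl fun i _ => ?_
  rw [← Finset.sum_sub_distrib, ← Finset.sum_sub_distrib]
  refine Finset.sum_congr rfl fun j _ => ?_
  by_cases h : i ≤ j
  · simp only [if_pos h, Pi.add_apply]
    ring
  · simp only [if_neg h, sub_zero]

theorem h88_bv_add_left (S : Matrix (Fin n) (Fin n) F) (x x' y : Fin n → F) :
    bv S (x + x') y = bv S x y + bv S x' y := by
  rw [h88_bv_eq_sum, h88_bv_eq_sum, h88_bv_eq_sum, ← Finset.sum_add_distrib]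
  refine Finset.sum_congr rfl fun i _ => ?_
  rw [← Finset.sum_add_distrib]
  refine Finset.sum_congr rfl fun j _ => ?_
  by_cases h : i ≤ j
  · simp only [if_pos h, Pi.add_apply]
    ring
  · simp only [if_neg h, add_zero]

theorem h88_bv_smul_left (S : Matrix (Fin n) (Fin n) F) (c : F) (x y : Fin n → F) :
    bv S (c • x) y = c * bv S x y := by
  rw [h88_bv_eq_sum, h88_bv_eq_sum, Finset.mul_sum]
  refine Finset.sum_congr rfl fun i _ => ?_
  rw [Finset.mul_sum]
  refine Finset.sum_congr rfl fun j _ => ?_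
  by_cases h : i ≤ j
  · simp only [if_pos h, Pi.smul_apply, smul_eq_mul]
    ring
  · simp only [if_neg h, mul_zero]

theorem h88_bv_add_right (S : Matrix (Fin n) (Fin n) F) (x y y' : Fin n → F) :
    bv S x (y + y') = bv S x y + bv S x y' := by
  rw [bv_symm, h88_bv_add_left, bv_symm S y x, bv_symm S y' x]

theorem h88_bv_smul_right (S : Matrix (Fin n) (Fin n) F) (c : F) (x y : Fin n → F) :
    bv S x (c • y) = c * bv S x y := by
  rw [bv_symm, h88_bv_smul_left, bv_symm S y x]

theorem h88_bv_self (S : Matrix (Fin n) (Fin n) F) (x : Fin n → F) :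
    bv S x x = 2 * qv S x := by
  rw [h88_bv_eq_sum]
  unfold qv
  rw [Finset.mul_sum]
  refine Finset.sum_congr rfl fun i _ => ?_
  rw [Finset.mul_sum]
  refine Finset.sum_congr rfl fun j _ => ?_
  by_cases h : i ≤ j
  · simp only [if_pos h]
    ring
  · simp only [if_neg h, mul_zero]

theorem h88_bv_self_char2 (h2 : (2 : F) = 0) (S : Matrix (Fin n) (Fin n) F) (x : Fin n → F) :
    bv S x x = 0 := by
  rw [h88_bv_self, h2, zero_mul]

theorem h88_bv_zero_left (S : Matrix (Fin n) (Fin n) F) (y : Fin n → F) :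
    bv S 0 y = 0 := by
  have := h88_bv_smul_left S 0 (0 : Fin n → F) y
  rwa [zero_smul, zero_mul] at this

theorem h88_bv_zero_right (S : Matrix (Fin n) (Fin n) F) (x : Fin n → F) :
    bv S x 0 = 0 := by
  rw [bv_symm, h88_bv_zero_left]

end Cfsg.Agent.Helper88.SPE
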