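import Mathlib
import Cfsg.Agent.Lib.Helper98.SPE0

/-!
# SPE project (S2333): piece K6a `card_annihilator_pair`
-/

set_option autoImplicit false

namespace Cfsg.Agent.Helper88.SPE

open Matrix Cfsg.Agent.Helper93.U2 Cfsg.Agent.Helper98.SPE

section CNT

variable {F : Type*} [Field F] [Fintype F] {q : ℕ} (hq : Fintype.card F = q) {n : ℕ}

include hq in
/-- piece K6a. -/
theorem card_annihilator_pair (x y : Fin n → F) (h : LinearIndependent F ![x, y]) :
    q ^ 2 * {φ : Fin n → F | φ ⬝ᵥ x = 0 ∧ φ ⬝ᵥ y = 0}.ncard = q ^ n := by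
  classical
  let M : Matrix (Fin 2) (Fin n) F := Matrix.of ![x, y]
  have hrank : M.rank = 2 := by
    have := LinearIndependent.rank_matrix (M := M) (show LinearIndependent F ![x, y] from h)
    simpa using this
  have hsurj : Function.Surjective M.mulVecLin := by
    rw [← LinearMap.range_eq_top]
    apply Submodule.eq_top_of_finrank_eq
    rw [show Module.finrank F (LinearMap.range M.mulVecLin) = M.rank from rfl, hrank]
    simp
  have hker : {φ : Fin n → F | φ ⬝ᵥ x = 0 ∧ φ ⬝ᵥ y = 0}
      = (LinearMap.ker M.mulVecLin : Set (Fin n → F)) := by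
    ext φ
    simp only [Set.mem_ofPred_eq, SetLike.mem_coe, LinearMap.mem_ker, Matrix.mulVecLin_apply]
    constructor
    · rintro ⟨h1, h2⟩
      ext i
      fin_cases i
      · simpa [M, Matrix.mulVec, dotProduct_comm] using h1
      · simpa [M, Matrix.mulVec, dotProduct_comm] using h2
    · intro h0
      constructor
      · have := congrFun h0 0
        simpa [M, Matrix.mulVec, dotProduct_comm] using this
      · have := congrFun h0 1
        simpa [M, Matrix.mulVec, dotProduct_comm] using this
  have h1 := Submodule.card_eq_card_quotient_mul_card (LinearMap.ker M.mulVecLin)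
  have e := (M.mulVecLin.quotKerEquivOfSurjective hsurj).toEquiv
  rw [Nat.card_congr e] at h1
  rw [hker, ← Nat.card_coe_set_eq]
  have h3 : Nat.card (Fin n → F) = q ^ n := by
    rw [Nat.card_eq_fintype_card, Fintype.card_fun, hq, Fintype.card_fin]
  have h4 : Nat.card (Fin 2 → F) = q ^ 2 := by
    rw [Nat.card_eq_fintype_card, Fintype.card_fun, hq, Fintype.card_fin]
  rw [h3, h4] at h1
  rw [h1, mul_comm]
  rfl

end CNT

end Cfsg.Agent.Helper88.SPE
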