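import Mathlib
import Cfsg.Agent.Lib.Helper98.SPE0
import Cfsg.Agent.Lib.Helper88.SPEBase

/-!
# SPE project (S2333): piece K6b `linearIndependent_of_bv_ne_zero`
-/

set_option autoImplicit false

namespace Cfsg.Agent.Helper88.SPE

open Matrix Cfsg.Agent.Helper93.U2 Cfsg.Agent.Helper98.SPE

section CNT

variable {F : Type*} [Field F] [Fintype F] {q : ℕ} (hq : Fintype.card F = q) {n : ℕ}

/-- piece K6b. -/
theorem linearIndependent_of_bv_ne_zero (h2 : (2 : F) = 0) (S : Matrix (Fin n) (Fin n) F)
    (x y : Fin n → F) (hb : bv S x y ≠ 0) : LinearIndependent F ![x, y] := by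
  rw [LinearIndependent.pair_iff]
  intro s t hst
  have h1 : bv S (s • x + t • y) y = s * bv S x y := by
    rw [h88_bv_add_left, h88_bv_smul_left, h88_bv_smul_left, h88_bv_self_char2 h2, mul_zero,
      add_zero]
  have h2' : bv S x (s • x + t • y) = t * bv S x y := by
    rw [h88_bv_add_right, h88_bv_smul_right, h88_bv_smul_right, h88_bv_self_char2 h2, mul_zero,
      zero_add]
  rw [hst, h88_bv_zero_left] at h1
  rw [hst, h88_bv_zero_right] at h2'
  constructor
  · rcases mul_eq_zero.mp h1.symm with h | h
    · exact h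
    · exact absurd h hb
  · rcases mul_eq_zero.mp h2'.symm with h | h
    · exact h
    · exact absurd h hb

end CNT

end Cfsg.Agent.Helper88.SPE
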