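import Mathlib
import Cfsg.Agent.Lib.Helper98.SPE0
import Cfsg.Agent.Lib.Helper88.SPEBase
import Cfsg.Agent.Lib.Helper88.SPEK6a
import Cfsg.Agent.Lib.Helper88.SPEK6b
import Cfsg.Agent.Lib.Helper22.SPEQ6
import Cfsg.Agent.Lib.Helper22.SPEQ7

/-!
# SPE project (S2333): piece K6 `count_lower`
-/

set_option autoImplicit false

namespace Cfsg.Agent.Helper88.SPE

open Matrix Cfsg.Agent.Helper93.U2 Cfsg.Agent.Helper98.SPE
open Cfsg.Agent.Helper22.SPE (qv_congQ bv_congQ)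

section Aux

variable {F : Type*} [Field F] {n : ℕ}

/-- the unipotent matrix `1 + x φᵀ + y φ'ᵀ` -/
def h88_hm (x y φ φ' : Fin n → F) : Matrix (Fin n) (Fin n) F :=
  1 + vecMulVec x φ + vecMulVec y φ'

theorem h88_hm_mulVec (x y φ φ' z : Fin n → F) :
    h88_hm x y φ φ' *ᵥ z = z + (φ ⬝ᵥ z) • x + (φ' ⬝ᵥ z) • y := by
  unfold h88_hm
  rw [Matrix.add_mulVec, Matrix.add_mulVec, Matrix.one_mulVec, vecMulVec_mulVec,
    vecMulVec_mulVec, op_smul_eq_smul, op_smul_eq_smul]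

theorem h88_hm_mul_neg (x y φ φ' : Fin n → F) (h1 : φ ⬝ᵥ x = 0) (h2 : φ ⬝ᵥ y = 0)
    (h3 : φ' ⬝ᵥ x = 0) (h4 : φ' ⬝ᵥ y = 0) :
    h88_hm x y φ φ' * h88_hm x y (-φ) (-φ') = 1 := by
  rw [Matrix.ext_iff_mulVec]
  intro z
  rw [← Matrix.mulVec_mulVec, h88_hm_mulVec x y (-φ) (-φ'), h88_hm_mulVec, Matrix.one_mulVec]
  have hw1 : φ ⬝ᵥ (z + (-φ ⬝ᵥ z) • x + (-φ' ⬝ᵥ z) • y) = φ ⬝ᵥ z := by
    rw [dotProduct_add, dotProduct_add, dotProduct_smul, dotProduct_smul, h1, h2, smul_zero,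
      smul_zero, add_zero, add_zero]
  have hw2 : φ' ⬝ᵥ (z + (-φ ⬝ᵥ z) • x + (-φ' ⬝ᵥ z) • y) = φ' ⬝ᵥ z := by
    rw [dotProduct_add, dotProduct_add, dotProduct_smul, dotProduct_smul, h3, h4, smul_zero,
      smul_zero, add_zero, add_zero]
  rw [hw1, hw2, neg_dotProduct, neg_dotProduct, neg_smul, neg_smul]
  abel

end Aux

section CNT

variable {F : Type*} [Field F] [Fintype F] {q : ℕ} (hq : Fintype.card F = q) {n : ℕ}

include hq in
/-- piece K6. -/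
theorem count_lower (h2 : (2 : F) = 0) (O : Set (Matrix (Fin n) (Fin n) F))
    (hcl : ∀ g : GL (Fin n) F, ∀ S ∈ O, congQ (g : Matrix (Fin n) (Fin n) F) S ∈ O)
    (S₁ : Matrix (Fin n) (Fin n) F) (hS₁ : S₁ ∈ O) (x y : Fin n → F) (hb : bv S₁ x y ≠ 0) :
    q ^ (2 * n) ≤ q ^ 4 * {S' ∈ O | qv S' x = qv S₁ x ∧ qv S' y = qv S₁ y ∧
      bv S' x y = bv S₁ x y}.ncard := by
  classical
  set Φ : Set (Fin n → F) := {φ : Fin n → F | φ ⬝ᵥ x = 0 ∧ φ ⬝ᵥ y = 0} with hΦ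
  set T : Set (Matrix (Fin n) (Fin n) F) := {S' ∈ O | qv S' x = qv S₁ x ∧ qv S' y = qv S₁ y ∧
      bv S' x y = bv S₁ x y} with hT
  have hli : LinearIndependent F ![x, y] := linearIndependent_of_bv_ne_zero h2 S₁ x y hb
  have hcard : q ^ 2 * Φ.ncard = q ^ n := card_annihilator_pair hq x y hli
  -- the map
  let f : (Fin n → F) × (Fin n → F) → Matrix (Fin n) (Fin n) F :=
    fun p => congQ (h88_hm x y p.1 p.2) S₁
  have hfix : ∀ p ∈ Φ ×ˢ Φ, h88_hm x y p.1 p.2 *ᵥ x = x ∧ h88_hm x y p.1 p.2 *ᵥ y = y := by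
    rintro ⟨φ, φ'⟩ ⟨⟨h1, h2'⟩, ⟨h3, h4⟩⟩
    constructor
    · rw [h88_hm_mulVec]
      simp only [h1, h3, zero_smul, add_zero]
    · rw [h88_hm_mulVec]
      simp only [h2', h4, zero_smul, add_zero]
  have hmaps : ∀ p ∈ Φ ×ˢ Φ, f p ∈ T := by
    rintro ⟨φ, φ'⟩ hp
    obtain ⟨hx, hy⟩ := hfix _ hp
    obtain ⟨⟨h1, h2'⟩, ⟨h3, h4⟩⟩ := hp
    simp only at h1 h2' h3 h4 hx hy
    have hneg1 : (-φ) ⬝ᵥ x = 0 := by rw [neg_dotProduct, h1, neg_zero]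
    have hneg2 : (-φ) ⬝ᵥ y = 0 := by rw [neg_dotProduct, h2', neg_zero]
    have hneg3 : (-φ') ⬝ᵥ x = 0 := by rw [neg_dotProduct, h3, neg_zero]
    have hneg4 : (-φ') ⬝ᵥ y = 0 := by rw [neg_dotProduct, h4, neg_zero]
    have e1 := h88_hm_mul_neg x y φ φ' h1 h2' h3 h4
    have e2 := h88_hm_mul_neg x y (-φ) (-φ') hneg1 hneg2 hneg3 hneg4
    rw [neg_neg, neg_neg] at e2
    let g : GL (Fin n) F := ⟨h88_hm x y φ φ', h88_hm x y (-φ) (-φ'), e1, e2⟩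
    refine ⟨hcl g S₁ hS₁, ?_, ?_, ?_⟩
    · change qv (congQ (h88_hm x y φ φ') S₁) x = _
      rw [qv_congQ, hx]
    · change qv (congQ (h88_hm x y φ φ') S₁) y = _
      rw [qv_congQ, hy]
    · change bv (congQ (h88_hm x y φ φ') S₁) x y = _
      rw [bv_congQ, hx, hy]
  have hinj : Set.InjOn f (Φ ×ˢ Φ) := by
    rintro ⟨φ, φ'⟩ hp ⟨ψ, ψ'⟩ hp' hEq
    obtain ⟨hx, hy⟩ := hfix _ hp
    obtain ⟨hx', hy'⟩ := hfix _ hp'
    simp only at hx hy hx' hy'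
    change congQ (h88_hm x y φ φ') S₁ = congQ (h88_hm x y ψ ψ') S₁ at hEq
    have key1 : ∀ z, φ' ⬝ᵥ z = ψ' ⬝ᵥ z := by
      intro z
      have : bv (congQ (h88_hm x y φ φ') S₁) z x = bv (congQ (h88_hm x y ψ ψ') S₁) z x := by
        rw [hEq]
      rw [bv_congQ, bv_congQ, hx, hx', h88_hm_mulVec, h88_hm_mulVec] at this
      simp only [h88_bv_add_left, h88_bv_smul_left, h88_bv_self_char2 h2, mul_zero,
        add_zero] at this
      have hb' : bv S₁ y x ≠ 0 := by rwa [bv_symm]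
      have := add_left_cancel this
      exact mul_right_cancel₀ hb' this
    have key2 : ∀ z, φ ⬝ᵥ z = ψ ⬝ᵥ z := by
      intro z
      have : bv (congQ (h88_hm x y φ φ') S₁) z y = bv (congQ (h88_hm x y ψ ψ') S₁) z y := by
        rw [hEq]
      rw [bv_congQ, bv_congQ, hy, hy', h88_hm_mulVec, h88_hm_mulVec] at this
      simp only [h88_bv_add_left, h88_bv_smul_left, h88_bv_self_char2 h2, mul_zero,
        add_zero] at this
      have := add_left_cancel this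
      exact mul_right_cancel₀ hb this
    have e1 : φ = ψ := dotProduct_eq _ _ key2
    have e2 : φ' = ψ' := dotProduct_eq _ _ key1
    rw [e1, e2]
  have hle : (Φ ×ˢ Φ).ncard ≤ T.ncard :=
    Set.ncard_le_ncard_of_injOn f hmaps hinj (Set.toFinite T)
  rw [Set.ncard_prod] at hle
  calc q ^ (2 * n) = (q ^ n) ^ 2 := by rw [← pow_mul, mul_comm]
    _ = (q ^ 2 * Φ.ncard) ^ 2 := by rw [hcard]
    _ = q ^ 4 * (Φ.ncard * Φ.ncard) := by ring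
    _ ≤ q ^ 4 * T.ncard := Nat.mul_le_mul_left _ hle

end CNT

end Cfsg.Agent.Helper88.SPE
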