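import Mathlib
import Cfsg.Agent.Lib.Helper98.SPE0

/-!
# SPE project (S2333): piece K7 `exists_gl_pair`
-/

set_option autoImplicit false

namespace Cfsg.Agent.Helper88.SPE

open Matrix Cfsg.Agent.Helper93.U2 Cfsg.Agent.Helper98.SPE

section CNT

variable {F : Type*} [Field F] [Fintype F] {q : ℕ} (hq : Fintype.card F = q) {n : ℕ}

/-- piece K7. -/
theorem exists_gl_pair (x y x₀ y₀ : Fin n → F) (h : LinearIndependent F ![x, y])
    (h₀ : LinearIndependent F ![x₀, y₀]) :
    ∃ g : GL (Fin n) F, (g : Matrix (Fin n) (Fin n) F) *ᵥ x = x₀ ∧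
      (g : Matrix (Fin n) (Fin n) F) *ᵥ y = y₀ := by
  classical
  let f := h.linearCombinationEquiv.symm ≪≫ₗ h₀.linearCombinationEquiv
  have : FiniteDimensional F (Submodule.span F (Set.range ![x, y])) :=
    FiniteDimensional.span_of_finite F (Set.finite_range _)
  obtain ⟨g, hg⟩ := Submodule.exists_linearEquiv_restrict_eq f
  have qx : ((h.linearCombinationEquiv (Finsupp.single 0 1) :
      Submodule.span F (Set.range ![x, y])) : Fin n → F) = x := by simp
  have qy : ((h.linearCombinationEquiv (Finsupp.single 1 1) :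
      Submodule.span F (Set.range ![x, y])) : Fin n → F) = y := by simp
  have qx₀ : ((h₀.linearCombinationEquiv (Finsupp.single 0 1) :
      Submodule.span F (Set.range ![x₀, y₀])) : Fin n → F) = x₀ := by simp
  have qy₀ : ((h₀.linearCombinationEquiv (Finsupp.single 1 1) :
      Submodule.span F (Set.range ![x₀, y₀])) : Fin n → F) = y₀ := by simp
  have gx : g x = x₀ := by
    have := hg (h.linearCombinationEquiv (Finsupp.single 0 1))
    rw [qx] at this
    rw [← this]
    refine Eq.trans ?_ qx₀
    simp [f]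
  have gy : g y = y₀ := by
    have := hg (h.linearCombinationEquiv (Finsupp.single 1 1))
    rw [qy] at this
    rw [← this]
    refine Eq.trans ?_ qy₀
    simp [f]
  refine ⟨⟨LinearMap.toMatrix' g.toLinearMap, LinearMap.toMatrix' g.symm.toLinearMap, ?_, ?_⟩,
    ?_, ?_⟩
  · rw [← LinearMap.toMatrix'_comp, ← LinearMap.toMatrix'_id]
    congr 1
    ext v : 1
    simp
  · rw [← LinearMap.toMatrix'_comp, ← LinearMap.toMatrix'_id]
    congr 1
    ext v : 1
    simp
  · change LinearMap.toMatrix' g.toLinearMap *ᵥ x = x₀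
    rw [LinearMap.toMatrix'_mulVec]
    exact gx
  · change LinearMap.toMatrix' g.toLinearMap *ᵥ y = y₀
    rw [LinearMap.toMatrix'_mulVec]
    exact gy

end CNT

end Cfsg.Agent.Helper88.SPE
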