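import Mathlib
import Cfsg.Agent.Lib.Helper2.SS0
import Cfsg.Agent.Lib.Helper88.SSY4p

/-!
# SS project (S2411, helper2 server): piece (Y12a) `seed_odd` (helper88)
-/

set_option autoImplicit false

namespace Cfsg.Agent.Helper88.SS

open Matrix Cfsg Cfsg.Agent.Helper13 Cfsg.Agent.Helper84.SpRoot Cfsg.Agent.Helper5.SpAut
open Cfsg.Agent.Helper2.SR Cfsg.Agent.Helper2.SS

section Y
variable {F : Type*} [Field F] {m : ℕ}

/-- (Y12a) odd characteristic. -/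
theorem seed_odd {H : Subgroup (Matrix.symplecticGroup (Fin (m + 2)) F)} {ξ κ : F}
    (h2 : (2 : F) ≠ 0) (hc : cEl m F ∈ H) (hy : yEl 2 1 ξ ∈ H)
    (hκ : sympT (be (m := m) 0) κ ∈ H) (hκ0 : κ ≠ 0) :
    ∃ a : F, a ≠ 0 ∧ a • be 1 ∈ QQ H (be (m := m) 0) := by
  have h1 : sympT (be (m := m) 1) κ ∈ H := by
    have := h88_tv_orbit hc hκ
    rwa [h88_c_e0] at this
  have hd : sympT (dV (m := m) 2 1 ξ) κ ∈ H := by
    have := h88_tv_orbit hy h1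
    rwa [(Cfsg.Agent.Helper41.SS.y_act 2 1 ξ).2.1] at this
  have hyd : sympT ((yEl (m := m) 2 1 ξ).val *ᵥ dV 2 1 ξ) κ ∈ H := h88_tv_orbit hy hd
  rw [h88_y_d 2 1 ξ 0 (by ring)] at hyd
  have hv : (0 : F) • dV (m := m) 2 1 ξ - be 1 + (2 - 0 : F) • be 0 =
      (-1 : F) • (be 1 + (-2 : F) • be 0) := by
    module
  rw [hv, sympT_smul] at hyd
  have hyd' : sympT (be (m := m) 1 + (-2 : F) • be 0) κ ∈ H := by
    have h : κ * (-1 : F) ^ 2 = κ := by ring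
    rwa [h] at hyd
  refine ⟨κ * (-2), mul_ne_zero hκ0 (neg_ne_zero.2 h2), ?_⟩
  exact Cfsg.Agent.Helper58.SS.seed_gen h88_e1_e0 hyd' h1

end Y

end Cfsg.Agent.Helper88.SS
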