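import Mathlib
import Cfsg.Agent.Lib.Helper12.SUOT0

/-!
# SUOT (S2282, helper12 sub-server): core of piece (T7b) `frame_v_uuv` (helper88).
The facts T1-T4 about `Nm`, `Am`, `uEl` enter as explicit hypotheses.
-/

set_option autoImplicit false

namespace Cfsg.Agent.Helper88.SUOT

open Matrix Cfsg Cfsg.Agent.Helper13 Cfsg.Agent.Helper87.PsuA Cfsg.Agent.Helper12.SUOT

variable {F : Type*} [Field F] [Fintype F] {q n : ℕ}

theorem h88_frame_core (hF : Fintype.card F = q ^ 2) {b : Fin n → Fin n → F} (hb : HB q b)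
    (hn : 5 ≤ n) (al : F) (hal : al ^ q ≠ al) (hal0 : al ≠ 0)
    (i0 i1 i2 i3 : Fin n) (h0 : i0.val = 0) (h1 : i1.val = 1) (h2 : i2.val = 2) (h3 : i3.val = 3)
    (hNsucc : ∀ i j : Fin n, i.val + 1 = j.val → Nm q b *ᵥ b j = b i)
    (hcoN : ∀ (x : Fin n → F) (i j : Fin n), i.val + 1 = j.val →
      co q b (Nm q b *ᵥ x) i = co q b x j)
    (hcoNlast : ∀ (x : Fin n → F) (i : Fin n), i.val + 1 = n → co q b (Nm q b *ᵥ x) i = 0)
    (hAmv : ∀ (c : F) (x : Fin n → F), Am q b c *ᵥ x = x + c • (Nm q b *ᵥ x))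
    (hAadj : ∀ (c : F) (x y : Fin n → F),
      Cfsg.hermForm n F q (Am q b c *ᵥ x) y = Cfsg.hermForm n F q x (Am q b (c ^ q) *ᵥ y))
    (hAdet : ∀ c : F, (Am q b c).det = 1)
    (hAcomm : ∀ c d : F, Am q b c * Am q b d = Am q b d * Am q b c)
    (hkey : ∀ z : Fin n → F,
      actv (uEl q b al) (z + al ^ q • (Nm q b *ᵥ z)) = z + al • (Nm q b *ᵥ z)) :
    Cfsg.hermForm n F q (b (Fin.rev i0) + al ^ q • b (Fin.rev i1))
      (actv (uEl q b al) (actv (uEl q b al) (b (Fin.rev i0) + al ^ q • b (Fin.rev i1)))) ≠ 0 := by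
  have hβq : (al ^ q) ^ q = al := frob_frob hF al
  have hβ0 : al ^ q ≠ 0 := pow_ne_zero _ hal0
  have e10 : (Fin.rev i1).val + 1 = (Fin.rev i0).val := by
    rw [Fin.val_rev, Fin.val_rev, h0, h1]; omega
  have e21 : (Fin.rev i2).val + 1 = (Fin.rev i1).val := by
    rw [Fin.val_rev, Fin.val_rev, h1, h2]; omega
  have e32 : (Fin.rev i3).val + 1 = (Fin.rev i2).val := by
    rw [Fin.val_rev, Fin.val_rev, h2, h3]; omega
  have hB : ∀ i j : Fin n, i.val + 1 = j.val →
      Am q b (al ^ q) *ᵥ b j = b j + al ^ q • b i := by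
    intro i j hij; rw [hAmv, hNsucc i j hij]
  have hB0 := hB _ _ e10
  have hB1 := hB _ _ e21
  have hB2 := hB _ _ e32
  -- `u v = A b_(n-1)`
  have huv : actv (uEl q b al) (b (Fin.rev i0) + al ^ q • b (Fin.rev i1)) =
      Am q b al *ᵥ b (Fin.rev i0) := by
    have h := hkey (b (Fin.rev i0))
    rw [hNsucc _ _ e10] at h
    rw [h, hAmv, hNsucc _ _ e10]
  -- `y = B⁻¹ b_(n-1)`
  have hunit : IsUnit (Am q b (al ^ q)).det := by rw [hAdet]; exact isUnit_one
  obtain ⟨y, hBy⟩ : ∃ y : Fin n → F, Am q b (al ^ q) *ᵥ y = b (Fin.rev i0) := by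
    refine ⟨(Am q b (al ^ q))⁻¹ *ᵥ b (Fin.rev i0), ?_⟩
    rw [Matrix.mulVec_mulVec, Matrix.mul_nonsing_inv _ hunit, Matrix.one_mulVec]
  -- `u (u v) = A (A y)`
  have huuv : actv (uEl q b al) (Am q b al *ᵥ b (Fin.rev i0)) =
      Am q b al *ᵥ (Am q b al *ᵥ y) := by
    have h1' : Am q b al *ᵥ b (Fin.rev i0) =
        (Am q b al *ᵥ y) + al ^ q • (Nm q b *ᵥ (Am q b al *ᵥ y)) := by
      rw [← hAmv, ← hBy, Matrix.mulVec_mulVec, Matrix.mulVec_mulVec, hAcomm]
    rw [h1', hkey, ← hAmv]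
  have hmove : ∀ x w : Fin n → F, Cfsg.hermForm n F q x (Am q b al *ᵥ w) =
      Cfsg.hermForm n F q (Am q b (al ^ q) *ᵥ x) w := by
    intro x w
    rw [hAadj, hβq]
  have hB3 : Am q b (al ^ q) *ᵥ (Am q b (al ^ q) *ᵥ (Am q b (al ^ q) *ᵥ b (Fin.rev i0))) =
      b (Fin.rev i0) + (3 * al ^ q) • b (Fin.rev i1) + (3 * (al ^ q) ^ 2) • b (Fin.rev i2)
        + ((al ^ q) ^ 3) • b (Fin.rev i3) := by
    simp only [hB0, hB1, hB2, Matrix.mulVec_add, Matrix.mulVec_smul]
    module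
  rw [huv, huuv, hmove, hmove, ← hB0, hB3]
  -- coordinates of `y`
  have hco : ∀ i j : Fin n, i.val + 1 = j.val → co q b y i = -(al ^ q) * co q b y j := by
    intro i j hij
    have h := congrArg (fun x => co q b x i) hBy
    simp only [hAmv, co_add, co_smul] at h
    rw [hcoN y i j hij, co_b hb] at h
    have hne : i ≠ Fin.rev i0 := by
      intro he
      have h' := congrArg Fin.val he
      rw [Fin.val_rev, h0] at h'
      have := j.isLt
      omega
    rw [if_neg hne] at h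
    linear_combination h
  have hlast : ∀ i : Fin n, i.val + 1 = n → co q b y i = 1 := by
    intro i hi
    have h := congrArg (fun x => co q b x i) hBy
    simp only [hAmv, co_add, co_smul] at h
    rw [hcoNlast y i hi, co_b hb] at h
    have he : i = Fin.rev i0 := by
      apply Fin.ext
      rw [Fin.val_rev, h0]
      omega
    rw [if_pos he] at h
    linear_combination h
  have hnz : ∀ k : ℕ, ∀ i : Fin n, i.val + k + 1 = n → co q b y i ≠ 0 := by
    intro k
    induction k with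
    | zero =>
      intro i hi
      rw [hlast i (by omega)]
      exact one_ne_zero
    | succ k ih =>
      intro i hi
      have hj : i.val + 1 < n := by omega
      rw [hco i ⟨i.val + 1, hj⟩ rfl]
      exact mul_ne_zero (neg_ne_zero.2 hβ0) (ih ⟨i.val + 1, hj⟩ (by show i.val + 1 + k + 1 = n; omega))
  have hc3 : co q b y i3 ≠ 0 := hnz (n - 4) i3 (by rw [h3]; omega)
  have c2 := hco i2 i3 (by rw [h2, h3])
  have c1 := hco i1 i2 (by rw [h1, h2])
  have c0 := hco i0 i1 (by rw [h0, h1])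
  have key : Cfsg.hermForm n F q (b (Fin.rev i0) + (3 * al ^ q) • b (Fin.rev i1)
      + (3 * (al ^ q) ^ 2) • b (Fin.rev i2) + ((al ^ q) ^ 3) • b (Fin.rev i3)) y =
      (al ^ q - al) ^ 3 * (co q b y i3) ^ q := by
    rw [hermForm_add_left, hermForm_add_left, hermForm_add_left, hermForm_smul_left,
      hermForm_smul_left, hermForm_smul_left, H_b_right hF, H_b_right hF, H_b_right hF,
      H_b_right hF, Fin.rev_rev, Fin.rev_rev, Fin.rev_rev, Fin.rev_rev, c0, c1, c2]
    simp only [mul_pow, frob_neg hF, hβq]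
    ring
  rw [key]
  exact mul_ne_zero (pow_ne_zero _ (sub_ne_zero.2 hal)) (pow_ne_zero _ hc3)

end Cfsg.Agent.Helper88.SUOT
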