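import Mathlib
import Cfsg.Agent.Lib.Helper12.SUOT0
import Cfsg.Agent.Lib.Helper12.SUOT_T14
import Cfsg.Agent.Lib.Helper88.SUOT_T7bCore

/-!
# SUOT (S2282, helper12 sub-server): piece (T7b) `frame_v_uuv`, verbatim (helper88).
-/

set_option autoImplicit false

namespace Cfsg.Agent.Helper88.SUOT

open Matrix Cfsg Cfsg.Agent.Helper13 Cfsg.Agent.Helper87.PsuA Cfsg.Agent.Helper12.SUOT

variable {F : Type*} [Field F] [Fintype F] {q n : ℕ}

/-- the hard one: `H v (u² v) = ((al - al^q)^3 * y_3)^q ≠ 0`, `y = A(al^q)⁻¹ b_(n-1)` -/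
theorem frame_v_uuv (hF : Fintype.card F = q ^ 2) {b : Fin n → Fin n → F} (hb : HB q b)
    (hn : 5 ≤ n) (al : F) (hal : al ^ q ≠ al) (hal0 : al ≠ 0) :
    Cfsg.hermForm n F q (vV q b al hn)
      (actv (uEl q b al) (actv (uEl q b al) (vV q b al hn))) ≠ 0 :=
  h88_frame_core hF hb hn al hal hal0 ⟨0, by omega⟩ ⟨1, by omega⟩ ⟨2, by omega⟩ ⟨3, by omega⟩
    rfl rfl rfl rfl
    (fun i j hij => Nm_b_succ hF hb i j hij)
    (fun x i j hij => co_Nm_succ hF hb x i j hij)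
    (fun x i hi => co_Nm_last hF hb x i hi)
    (fun c x => Am_mulVec c x)
    (fun c x y => Am_adj hF hb c x y)
    (fun c => Am_det hF hb c)
    (fun c d => Am_comm c d)
    (fun z => uEl_key hF hb al z)

end Cfsg.Agent.Helper88.SUOT
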