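import Mathlib
import Cfsg.Agent.S1017
import Cfsg.Agent.Lib.Helper17.Simple
import Cfsg.Agent.Lib.Helper17.Burnside
import Cfsg.Agent.Lib.Helper49.CyclicSylow

/-!
# Order 5460, part A (helper88): no elements of order 4; counting elements of order `p * r`.
-/

set_option autoImplicit false

namespace Cfsg.Agent.Helper88.SV

open Cfsg MulAction

universe u

/-- A simple group of order `4 * m`, `m` odd, `m ≠ 1`, has no element of order 4 (otherwise a Sylow
2-subgroup is cyclic and Burnside's transfer applies). -/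
theorem h88_no_order_four {G : Type u} [Group G] [Finite G] [IsSimpleGroup G] (m : ℕ)
    (hm : ¬ 2 ∣ m) (hm1 : m ≠ 1) (hG : Nat.card G = 2 ^ 2 * m) (x : G) : orderOf x ≠ 4 := by
  intro hx
  haveI : Fact (Nat.Prime 2) := ⟨Nat.prime_two⟩
  have hpg : IsPGroup 2 (Subgroup.zpowers x) :=
    IsPGroup.of_card (n := 2) (by rw [Nat.card_zpowers, hx]; norm_num)
  obtain ⟨P, hP⟩ := hpg.exists_le_sylow
  have hPc : Nat.card (P : Subgroup G) = 4 := by
    have h0 := Cfsg.Agent.Helper17.sylow_card_eq P hG hm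
    simpa using h0
  have hPeq : Subgroup.zpowers x = (P : Subgroup G) :=
    Subgroup.eq_of_le_of_card_ge hP (by rw [hPc, Nat.card_zpowers, hx])
  have hcyc : IsCyclic ↥(P : Subgroup G) := by
    rw [← hPeq]; infer_instance
  have hx4 : x ^ 4 = 1 := by rw [← hx]; exact pow_orderOf_eq_one x
  have hx2 : x ^ 2 ≠ 1 := by
    intro h
    have := orderOf_dvd_of_pow_eq_one h
    rw [hx] at this
    omega
  have hzP : x ^ 2 ∈ (P : Subgroup G) := by
    rw [← hPeq]; exact Subgroup.pow_mem _ (Subgroup.mem_zpowers x) 2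
  have hfix : ∀ g ∈ Subgroup.normalizer ((P : Subgroup G) : Set G), g * x ^ 2 * g⁻¹ = x ^ 2 := by
    intro g hg
    have hmem : g * x ^ 2 * g⁻¹ ∈ (P : Subgroup G) :=
      (Subgroup.mem_normalizer_iff.mp hg (x ^ 2)).mp hzP
    rw [← hPeq, ← mem_powers_iff_mem_zpowers] at hmem
    obtain ⟨j, hj⟩ := hmem
    have hj' : x ^ (j % 4) = g * x ^ 2 * g⁻¹ := by
      rw [← hj, ← hx, pow_mod_orderOf]
    have hsq : (g * x ^ 2 * g⁻¹) ^ 2 = 1 := by
      rw [conj_pow, ← pow_mul]
      simp [hx4]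
    have hne : g * x ^ 2 * g⁻¹ ≠ 1 := by
      intro h
      apply hx2
      have : x ^ 2 = g⁻¹ * (g * x ^ 2 * g⁻¹) * g := by group
      rw [this, h]; group
    have hlt : j % 4 < 4 := Nat.mod_lt _ (by norm_num)
    rw [← hj'] at hsq hne ⊢
    interval_cases (j % 4)
    · exact absurd (pow_zero x) hne
    · exfalso; rw [pow_one] at hsq; exact hx2 hsq
    · rfl
    · exfalso
      rw [← pow_mul] at hsq
      apply hx2
      have : x ^ (3 * 2) = x ^ 4 * x ^ 2 := by rw [← pow_add]
      rw [this, hx4, one_mul] at hsq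
      exact hsq
  have hNC := Cfsg.Agent.Helper49.normalizer_le_centralizer_of_cyclic_sylow P hcyc (x ^ 2) hzP hx2 hfix
  refine Cfsg.Agent.Helper17.not_normalizer_le_centralizer P ?_ ?_ hNC
  · rw [hPc]; norm_num
  · rw [hPc, hG]
    intro h
    have : m = 1 := by omega
    exact hm1 this

end Cfsg.Agent.Helper88.SV
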