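import Mathlib
import Cfsg.Agent.S1017
import Cfsg.Agent.Lib.Helper17.SylowLink

/-!
# Order 5460, part C (helper88): `|N(P13)| = 52` and no elements of order 4 force `|C(P13)| ≠ 13`.
-/

set_option autoImplicit false

namespace Cfsg.Agent.Helper88.SV

open Cfsg MulAction

universe u

theorem h88_sq_mod13 (k : ℕ) (hk : k < 13) (h : k * k % 13 = 1) : k = 1 ∨ k = 12 := by
  interval_cases k <;> omega

theorem h88_c13 {G : Type u} [Group G] [Finite G] (hno4 : ∀ x : G, orderOf x ≠ 4)
    (P : Sylow 13 G) (hP : Nat.card (P : Subgroup G) = 13)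
    (hN : Nat.card (Subgroup.normalizer ((P : Subgroup G) : Set G)) = 52) :
    Nat.card (Subgroup.centralizer ((P : Subgroup G) : Set G)) ≠ 13 := by
  intro hC
  haveI : Fact (Nat.Prime 2) := ⟨Nat.prime_two⟩
  haveI : Fact (Nat.Prime 13) := ⟨by norm_num⟩
  set N : Subgroup G := Subgroup.normalizer ((P : Subgroup G) : Set G) with hNdef
  set C : Subgroup G := Subgroup.centralizer ((P : Subgroup G) : Set G) with hCdef
  obtain ⟨T, hTN, hTc⟩ := Cfsg.Agent.Helper17.exists_subgroup_le_card N 2 2 (by rw [hN]; norm_num)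
  have hTc4 : Nat.card T = 4 := by rw [hTc]; norm_num
  -- elements of `T` square to one
  have hsq : ∀ s ∈ T, s ^ 2 = 1 := by
    intro s hs
    have h1 : orderOf s ∣ 4 := by
      have := Subgroup.orderOf_dvd_natCard T hs
      rwa [hTc4] at this
    have h2 : orderOf s ≤ 4 := Nat.le_of_dvd (by norm_num) h1
    have h3 := hno4 s
    have h4 : 0 < orderOf s := orderOf_pos s
    have h5 : orderOf s ∣ 2 := by
      interval_cases (orderOf s)
      · norm_num
      · norm_num
      · exfalso; revert h1; norm_num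
      · exact absurd rfl h3
    exact orderOf_dvd_iff_pow_eq_one.mp h5
  -- a generator of `P`
  obtain ⟨a, haP, ha1⟩ : ∃ a ∈ (P : Subgroup G), a ≠ 1 := by
    by_contra hcon
    push Not at hcon
    have hbot : (P : Subgroup G) = ⊥ := (Subgroup.eq_bot_iff_forall _).mpr hcon
    rw [hbot, Subgroup.card_bot] at hP
    omega
  have hao : orderOf a = 13 := by
    have h1 : orderOf a ∣ 13 := by
      have := Subgroup.orderOf_dvd_natCard (P : Subgroup G) haP
      rwa [hP] at this
    rcases (Nat.dvd_prime (by norm_num : Nat.Prime 13)).mp h1 with h | h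
    · exact absurd (orderOf_eq_one_iff.mp h) ha1
    · exact h
  have hPz : Subgroup.zpowers a = (P : Subgroup G) :=
    Subgroup.eq_of_le_of_card_ge (Subgroup.zpowers_le.mpr haP) (by rw [hP, Nat.card_zpowers, hao])
  have ha13 : a ^ 13 = 1 := by rw [← hao]; exact pow_orderOf_eq_one a
  -- commuting with `a` means centralizing `P`
  have hcent : ∀ w : G, w * a = a * w → w ∈ C := by
    intro w hw
    rw [hCdef, Subgroup.mem_centralizer_iff]
    intro h hh
    have hh' : h ∈ Subgroup.zpowers a := by rw [hPz]; exact hh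
    obtain ⟨k, rfl⟩ := Subgroup.mem_zpowers_iff.mp hh'
    have hc : Commute a w := hw.symm
    exact (hc.zpow_left k).eq
  -- elements of `C` have order dividing 13
  have hC13 : ∀ w ∈ C, w ^ 13 = 1 := by
    intro w hw
    have := Subgroup.orderOf_dvd_natCard C hw
    rw [hC] at this
    exact orderOf_dvd_iff_pow_eq_one.mp this
  -- a nontrivial element of `T` inverts `a`
  have hinv : ∀ s ∈ T, s ≠ 1 → s * a * s⁻¹ = a⁻¹ := by
    intro s hs hs1
    have hs2 := hsq s hs
    have hsinv : s⁻¹ = s := by
      have : s * s = 1 := by rw [← pow_two]; exact hs2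
      exact inv_eq_of_mul_eq_one_left this
    have hsN : s ∈ N := hTN hs
    have hb : s * a * s⁻¹ ∈ (P : Subgroup G) := (Subgroup.mem_normalizer_iff.mp hsN a).mp haP
    rw [← hPz, ← mem_powers_iff_mem_zpowers] at hb
    obtain ⟨j, hj⟩ := hb
    have hj' : a ^ (j % 13) = s * a * s⁻¹ := by rw [← hj, ← hao, pow_mod_orderOf]
    set k := j % 13 with hk
    have hklt : k < 13 := Nat.mod_lt _ (by norm_num)
    -- conjugating twice
    have h2 : s * (s * a * s⁻¹) * s⁻¹ = a := by
      rw [hsinv]
      have : s * (s * a * s) * s = (s * s) * a * (s * s) := by group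
      rw [this, ← pow_two, hs2, one_mul, mul_one]
    have h3 : s * (a ^ k) * s⁻¹ = (a ^ k) ^ k := by
      rw [← conj_pow, ← hj']
    have h4 : a ^ (k * k) = a ^ 1 := by
      rw [pow_mul, ← h3, hj', h2, pow_one]
    have h5 : k * k ≡ 1 [MOD 13] := by
      rw [← hao]; exact pow_eq_pow_iff_modEq.mp h4
    have h6 : k = 1 ∨ k = 12 := h88_sq_mod13 k hklt (by unfold Nat.ModEq at h5; simpa using h5)
    rcases h6 with h6 | h6
    · exfalso
      rw [h6, pow_one] at hj'
      have hcomm : s * a = a * s := by
        have : s * a = (s * a * s⁻¹) * s := by group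
        rw [this, ← hj']
      have hsC := hC13 s (hcent s hcomm)
      have : orderOf s ∣ Nat.gcd 2 13 :=
        Nat.dvd_gcd (orderOf_dvd_of_pow_eq_one hs2) (orderOf_dvd_of_pow_eq_one hsC)
      have h1 : Nat.gcd 2 13 = 1 := by norm_num
      rw [h1] at this
      exact hs1 (orderOf_eq_one_iff.mp (Nat.dvd_one.mp this))
    · rw [← hj', h6]
      have : a ^ 12 * a = 1 := by rw [← pow_succ]; exact ha13
      exact eq_inv_of_mul_eq_one_left this
  -- two distinct nontrivial elements of `T`
  obtain ⟨s, hs, hs1⟩ : ∃ s ∈ T, s ≠ 1 := by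
    by_contra hcon
    push Not at hcon
    have hbot : T = ⊥ := (Subgroup.eq_bot_iff_forall _).mpr hcon
    rw [hbot, Subgroup.card_bot] at hTc4
    omega
  obtain ⟨s', hs', hs'1, hss'⟩ : ∃ s' ∈ T, s' ≠ 1 ∧ s' ≠ s := by
    by_contra hcon
    push Not at hcon
    classical
    -- then `T ⊆ {1, s}`
    have hinj : Function.Injective (fun t : ↥T => decide ((t : G) = 1)) := by
      intro t₁ t₂ h
      have h' : decide ((t₁ : G) = 1) = decide ((t₂ : G) = 1) := h
      by_cases h1 : (t₁ : G) = 1
      · have h2 : (t₂ : G) = 1 := by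
          have : decide ((t₂ : G) = 1) = true := by rw [← h']; exact decide_eq_true h1
          exact of_decide_eq_true this
        exact Subtype.ext (h1.trans h2.symm)
      · have h2 : ¬ (t₂ : G) = 1 := by
          intro h2
          have : decide ((t₁ : G) = 1) = true := by rw [h']; exact decide_eq_true h2
          exact h1 (of_decide_eq_true this)
        have e1 := hcon t₁ t₁.2 h1
        have e2 := hcon t₂ t₂.2 h2
        exact Subtype.ext (e1.trans e2.symm)
    have := Nat.card_le_card_of_injective _ hinj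
    rw [hTc4] at this
    simp at this
  -- the product centralizes `P`
  have hw : (s * s') * a = a * (s * s') := by
    have h1 := hinv s hs hs1
    have h2 := hinv s' hs' hs'1
    have h3 : s' * a = a⁻¹ * s' := by
      have : s' * a = (s' * a * s'⁻¹) * s' := by group
      rw [this, h2]
    have h4 : s * a⁻¹ = a * s := by
      have h5 : s * a⁻¹ * s⁻¹ = a := by
        have : s * a⁻¹ * s⁻¹ = (s * a * s⁻¹)⁻¹ := by group
        rw [this, h1, inv_inv]
      have : s * a⁻¹ = (s * a⁻¹ * s⁻¹) * s := by group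
      rw [this, h5]
    calc (s * s') * a = s * (s' * a) := by group
      _ = s * (a⁻¹ * s') := by rw [h3]
      _ = (s * a⁻¹) * s' := by group
      _ = (a * s) * s' := by rw [h4]
      _ = a * (s * s') := by group
  have hwC := hC13 (s * s') (hcent _ hw)
  have hwT := hsq (s * s') (T.mul_mem hs hs')
  have hw1 : s * s' = 1 := by
    have : orderOf (s * s') ∣ Nat.gcd 2 13 :=
      Nat.dvd_gcd (orderOf_dvd_of_pow_eq_one hwT) (orderOf_dvd_of_pow_eq_one hwC)
    have h1 : Nat.gcd 2 13 = 1 := by norm_num
    rw [h1] at this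
    exact orderOf_eq_one_iff.mp (Nat.dvd_one.mp this)
  apply hss'
  have h2 : s * s = 1 := by rw [← pow_two]; exact hsq s hs
  have : s' = s⁻¹ := eq_inv_of_mul_eq_one_right hw1
  rw [this]
  exact inv_eq_of_mul_eq_one_left h2

end Cfsg.Agent.Helper88.SV
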