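import Mathlib
import Cfsg.Agent.S1017
import Cfsg.Agent.Lib.Helper17.Sieve
import Cfsg.Agent.Lib.Helper17.SylowLink
import Cfsg.Agent.Lib.Helper17.IndexNormalizer
import Cfsg.Agent.Lib.Helper17.Counting
import Cfsg.Agent.Lib.Helper75.FixKill
import Cfsg.Agent.Lib.Helper88.SV5460A
import Cfsg.Agent.Lib.Helper88.SV5460B
import Cfsg.Agent.Lib.Helper88.SV5460C

/-!
# No simple group of order 5460 = 2^2 * 3 * 5 * 7 * 13 (helper88, for helper17's S0983 sieve)
-/

set_option autoImplicit false

namespace Cfsg.Agent.Helper88.SV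

open Cfsg MulAction Cfsg.Agent.Helper17 Cfsg.Agent.Helper17.Sieve

universe u

theorem h88_cand13 : ∀ d ∈ List.range 421, d ∣ 420 → d % 13 = 1 →
    ¬ Bad (13 ^ 1 * 420) 13 1 420 d → d = 105 := by decide +kernel

theorem h88_cand7 : ∀ d ∈ List.range 781, d ∣ 780 → d % 7 = 1 →
    ¬ Bad (7 ^ 1 * 780) 7 1 780 d → d = 15 ∨ d = 78 ∨ d = 260 := by decide +kernel

theorem h88_cand5 : ∀ d ∈ List.range 1093, d ∣ 1092 → d % 5 = 1 →
    ¬ Bad (5 ^ 1 * 1092) 5 1 1092 d → d = 26 ∨ d = 91 ∨ d = 546 := by decide +kernel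

theorem h88_cand3 : ∀ d ∈ List.range 1821, d ∣ 1820 → d % 3 = 1 →
    ¬ Bad (3 ^ 1 * 1820) 3 1 1820 d → d = 13 ∨ d = 70 ∨ d = 91 ∨ d = 130 ∨ d = 910 := by
  decide +kernel

/-- generic structure of `N(P)`, `C(P)` for a Sylow subgroup of prime order in a simple group of order 5460 -/
theorem h88_struct {G : Type u} [Group G] [Finite G] [IsSimpleGroup G] (hn0 : Nat.card G = 5460)
    {p : ℕ} [hp : Fact p.Prime] (hp5460 : p ≠ 5460) (hP : ∀ P : Sylow p G, Nat.card (P : Subgroup G) = p)
    (P : Sylow p G) :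
    ∃ k c : ℕ, k ∣ p - 1 ∧ k ≠ 1 ∧
      Nat.card (Subgroup.centralizer ((P : Subgroup G) : Set G)) = p * c ∧
      Nat.card (Subgroup.normalizer ((P : Subgroup G) : Set G)) = k * (p * c) ∧
      Nat.card (Sylow p G) * (k * (p * c)) = 5460 := by
  obtain ⟨k, c, hk, hk1, hC, hN⟩ :=
    Cfsg.Agent.S1017.normalizer_structure P (hP P) (by rw [hn0]; exact fun h => hp5460 h.symm)
  refine ⟨k, c, hk, hk1, hC, hN, ?_⟩
  have hmul := Cfsg.Agent.S1017.card_sylow_mul_card_normalizer P
  rw [hN, hn0] at hmul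
  exact hmul

theorem no_5460.{v} : NoSimple.{v} 5460 := by
  intro G _ _ _ hna hn0
  have : Fact (Nat.Prime 2) := ⟨by norm_num⟩
  have : Fact (Nat.Prime 3) := ⟨by norm_num⟩
  have : Fact (Nat.Prime 5) := ⟨by norm_num⟩
  have : Fact (Nat.Prime 7) := ⟨by norm_num⟩
  have : Fact (Nat.Prime 13) := ⟨by norm_num⟩
  have h13 : Nat.card G = 13 ^ 1 * 420 := by rw [hn0]; norm_num
  have h7 : Nat.card G = 7 ^ 1 * 780 := by rw [hn0]; norm_num
  have h5 : Nat.card G = 5 ^ 1 * 1092 := by rw [hn0]; norm_num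
  have h3 : Nat.card G = 3 ^ 1 * 1820 := by rw [hn0]; norm_num
  -- Sylow orders
  have hP13 : ∀ P : Sylow 13 G, Nat.card (P : Subgroup G) = 13 := fun P => by
    simpa using sylow_card_eq P h13 (by norm_num)
  have hP7 : ∀ P : Sylow 7 G, Nat.card (P : Subgroup G) = 7 := fun P => by
    simpa using sylow_card_eq P h7 (by norm_num)
  have hP5 : ∀ P : Sylow 5 G, Nat.card (P : Subgroup G) = 5 := fun P => by
    simpa using sylow_card_eq P h5 (by norm_num)
  have hP3 : ∀ P : Sylow 3 G, Nat.card (P : Subgroup G) = 3 := fun P => by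
    simpa using sylow_card_eq P h3 (by norm_num)
  -- Sylow numbers
  have hn13 : Nat.card (Sylow 13 G) = 105 := by
    obtain ⟨hd, hmod⟩ := sylow_count (G := G) h13 (by norm_num)
    have hb := Cfsg.Agent.Helper75.FixKill.not_bad hna 13 1 420 (by norm_num) (by norm_num) h13
      (by norm_num)
    exact h88_cand13 _ (List.mem_range.mpr (Nat.lt_succ_of_le (Nat.le_of_dvd (by norm_num) hd)))
      hd hmod hb
  have hn7 : Nat.card (Sylow 7 G) = 15 ∨ Nat.card (Sylow 7 G) = 78 ∨ Nat.card (Sylow 7 G) = 260 := by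
    obtain ⟨hd, hmod⟩ := sylow_count (G := G) h7 (by norm_num)
    have hb := Cfsg.Agent.Helper75.FixKill.not_bad hna 7 1 780 (by norm_num) (by norm_num) h7
      (by norm_num)
    exact h88_cand7 _ (List.mem_range.mpr (Nat.lt_succ_of_le (Nat.le_of_dvd (by norm_num) hd)))
      hd hmod hb
  have hn5 : Nat.card (Sylow 5 G) = 26 ∨ Nat.card (Sylow 5 G) = 91 ∨ Nat.card (Sylow 5 G) = 546 := by
    obtain ⟨hd, hmod⟩ := sylow_count (G := G) h5 (by norm_num)
    have hb := Cfsg.Agent.Helper75.FixKill.not_bad hna 5 1 1092 (by norm_num) (by norm_num) h5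
      (by norm_num)
    exact h88_cand5 _ (List.mem_range.mpr (Nat.lt_succ_of_le (Nat.le_of_dvd (by norm_num) hd)))
      hd hmod hb
  have hn3 : Nat.card (Sylow 3 G) = 13 ∨ Nat.card (Sylow 3 G) = 70 ∨ Nat.card (Sylow 3 G) = 91 ∨
      Nat.card (Sylow 3 G) = 130 ∨ Nat.card (Sylow 3 G) = 910 := by
    obtain ⟨hd, hmod⟩ := sylow_count (G := G) h3 (by norm_num)
    have hb := Cfsg.Agent.Helper75.FixKill.not_bad hna 3 1 1820 (by norm_num) (by norm_num) h3
      (by norm_num)
    exact h88_cand3 _ (List.mem_range.mpr (Nat.lt_succ_of_le (Nat.le_of_dvd (by norm_num) hd)))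
      hd hmod hb
  -- no elements of order 4
  have hno4 : ∀ x : G, orderOf x ≠ 4 :=
    h88_no_order_four 1365 (by norm_num) (by norm_num) (by rw [hn0]; norm_num)
  -- p = 13
  have hC13 : ∀ P : Sylow 13 G, Nat.card (Subgroup.centralizer ((P : Subgroup G) : Set G)) = 26 := by
    intro P
    obtain ⟨k, c, hk, hk1, hC, hN, hmul⟩ := h88_struct hn0 (by norm_num) hP13 P
    rw [hn13] at hmul
    have hkle : k ≤ 12 := Nat.le_of_dvd (by norm_num) hk
    have hc1 : c ≠ 1 := by
      rintro rfl
      have hN52 : Nat.card (Subgroup.normalizer ((P : Subgroup G) : Set G)) = 52 := by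
        rw [hN]; interval_cases k <;> omega
      exact h88_c13 hno4 P (hP13 P) hN52 (by rw [hC])
    rw [hC]
    interval_cases k <;> omega
  have hN13 : ∀ P : Sylow 13 G, Nat.card (Subgroup.normalizer ((P : Subgroup G) : Set G)) = 52 := by
    intro P
    have hmul := Cfsg.Agent.S1017.card_sylow_mul_card_normalizer P
    rw [hn13, hn0] at hmul
    omega
  -- links
  have link : ∀ {p q : ℕ} [Fact p.Prime] [Fact q.Prime]
      (_ : ∀ P : Sylow p G, Nat.card (P : Subgroup G) = p)
      (_ : ∀ Q : Sylow q G, Nat.card (Q : Subgroup G) = q) (P : Sylow p G),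
      q ∣ Nat.card (Subgroup.centralizer ((P : Subgroup G) : Set G)) →
      ∃ Q : Sylow q G, p ∣ Nat.card (Subgroup.centralizer ((Q : Subgroup G) : Set G)) :=
    fun hP hQ P h => sylow_link hP hQ P h
  -- n_7 = 260
  have hn7' : Nat.card (Sylow 7 G) = 260 := by
    rcases hn7 with h | h | h
    · exfalso
      obtain ⟨P⟩ : Nonempty (Sylow 7 G) := inferInstance
      obtain ⟨k, c, hk, hk1, hC, hN, hmul⟩ := h88_struct hn0 (by norm_num) hP7 P
      rw [h] at hmul
      have hkle : k ≤ 6 := Nat.le_of_dvd (by norm_num) hk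
      have hC182 : Nat.card (Subgroup.centralizer ((P : Subgroup G) : Set G)) = 182 := by
        rw [hC]; interval_cases k <;> omega
      obtain ⟨Q, hQ⟩ := link hP7 hP13 P (by rw [hC182]; norm_num)
      rw [hC13 Q] at hQ
      revert hQ; norm_num
    · exfalso
      obtain ⟨P⟩ : Nonempty (Sylow 7 G) := inferInstance
      obtain ⟨k, c, hk, hk1, hC, hN, hmul⟩ := h88_struct hn0 (by norm_num) hP7 P
      rw [h] at hmul
      have hkle : k ≤ 6 := Nat.le_of_dvd (by norm_num) hk
      have hC35 : Nat.card (Subgroup.centralizer ((P : Subgroup G) : Set G)) = 35 := by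
        rw [hC]; interval_cases k <;> omega
      obtain ⟨Q, hQ⟩ := link hP7 hP5 P (by rw [hC35]; norm_num)
      obtain ⟨k', c', hk', hk1', hC', hN', hmul'⟩ := h88_struct hn0 (by norm_num) hP5 Q
      have hkle' : k' ≤ 4 := Nat.le_of_dvd (by norm_num) hk'
      rw [hC'] at hQ
      rcases hn5 with h5' | h5' | h5'
      · -- n_5 = 26: fixed points of an element of order 7 in C(P5)
        rw [h5'] at hmul'
        have hC105 : Nat.card (Subgroup.centralizer ((Q : Subgroup G) : Set G)) = 105 := by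
          rw [hC']; interval_cases k' <;> omega
        obtain ⟨f, m', hfix⟩ := Cfsg.Agent.Helper75.FixKill.exists_fix (G := G) (by rw [hn0]; norm_num)
          (p := 5) (r := 7) (by norm_num) Q (hP5 Q) (by rw [h5']; norm_num) (by rw [hC105]; norm_num)
        unfold Cfsg.Agent.Helper75.FixKill.FixOK at hfix
        rw [h5'] at hfix
        obtain ⟨-, hf1, hf2, -, hf3, -⟩ := hfix
        omega
      · rw [h5'] at hmul'
        interval_cases k' <;> omega
      · rw [h5'] at hmul'
        interval_cases k' <;> omega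
    · exact h
  have hC7 : ∀ P : Sylow 7 G, Nat.card (Subgroup.centralizer ((P : Subgroup G) : Set G)) = 7 := by
    intro P
    obtain ⟨k, c, hk, hk1, hC, hN, hmul⟩ := h88_struct hn0 (by norm_num) hP7 P
    rw [hn7'] at hmul
    have hkle : k ≤ 6 := Nat.le_of_dvd (by norm_num) hk
    rw [hC]; interval_cases k <;> omega
  -- n_5 ≠ 26
  have hn5' : Nat.card (Sylow 5 G) = 91 ∨ Nat.card (Sylow 5 G) = 546 := by
    rcases hn5 with h5' | h5' | h5'
    · exfalso
      obtain ⟨Q⟩ : Nonempty (Sylow 5 G) := inferInstance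
      obtain ⟨k', c', hk', hk1', hC', hN', hmul'⟩ := h88_struct hn0 (by norm_num) hP5 Q
      have hkle' : k' ≤ 4 := Nat.le_of_dvd (by norm_num) hk'
      rw [h5'] at hmul'
      have hC105 : Nat.card (Subgroup.centralizer ((Q : Subgroup G) : Set G)) = 105 := by
        rw [hC']; interval_cases k' <;> omega
      obtain ⟨f, m', hfix⟩ := Cfsg.Agent.Helper75.FixKill.exists_fix (G := G) (by rw [hn0]; norm_num)
        (p := 5) (r := 7) (by norm_num) Q (hP5 Q) (by rw [h5']; norm_num) (by rw [hC105]; norm_num)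
      unfold Cfsg.Agent.Helper75.FixKill.FixOK at hfix
      rw [h5'] at hfix
      obtain ⟨-, hf1, hf2, -, hf3, -⟩ := hfix
      omega
    · exact Or.inl h5'
    · exact Or.inr h5'
  -- n_3 ∈ {91, 910}
  have hn3' : Nat.card (Sylow 3 G) = 91 ∨ Nat.card (Sylow 3 G) = 910 := by
    rcases hn3 with h | h | h | h | h
    · exfalso
      obtain ⟨P3⟩ : Nonempty (Sylow 3 G) := inferInstance
      obtain ⟨P⟩ : Nonempty (Sylow 13 G) := inferInstance
      set H : Subgroup G := Subgroup.normalizer ((P3 : Subgroup G) : Set G) with hH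
      have hidx : H.index = 13 := by rw [← h]; exact P3.card_eq_index_normalizer.symm
      have hHtop : H ≠ ⊤ := by
        intro htop
        rw [htop, Subgroup.index_top] at hidx
        omega
      have := two_mul_card_normalizer_dvd_of_index hna (by norm_num) P (hP13 P) H hHtop (Or.inl hidx)
      rw [hN13 P] at this
      revert this; norm_num
    · exfalso
      obtain ⟨P⟩ : Nonempty (Sylow 3 G) := inferInstance
      obtain ⟨k, c, hk, hk1, hC, hN, hmul⟩ := h88_struct hn0 (by norm_num) hP3 P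
      rw [h] at hmul
      have hkle : k ≤ 2 := Nat.le_of_dvd (by norm_num) hk
      have hC39 : Nat.card (Subgroup.centralizer ((P : Subgroup G) : Set G)) = 39 := by
        rw [hC]; interval_cases k <;> omega
      obtain ⟨Q, hQ⟩ := link hP3 hP13 P (by rw [hC39]; norm_num)
      rw [hC13 Q] at hQ
      revert hQ; norm_num
    · exact Or.inl h
    · exfalso
      obtain ⟨P⟩ : Nonempty (Sylow 3 G) := inferInstance
      obtain ⟨k, c, hk, hk1, hC, hN, hmul⟩ := h88_struct hn0 (by norm_num) hP3 P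
      rw [h] at hmul
      have hkle : k ≤ 2 := Nat.le_of_dvd (by norm_num) hk
      have hC21 : Nat.card (Subgroup.centralizer ((P : Subgroup G) : Set G)) = 21 := by
        rw [hC]; interval_cases k <;> omega
      obtain ⟨Q, hQ⟩ := link hP3 hP7 P (by rw [hC21]; norm_num)
      rw [hC7 Q] at hQ
      revert hQ; norm_num
    · exact Or.inr h
  -- centralizers for p = 3, 5
  have hC3 : ∀ P : Sylow 3 G, (Nat.card (Sylow 3 G) = 91 →
      Nat.card (Subgroup.centralizer ((P : Subgroup G) : Set G)) = 30) ∧ (Nat.card (Sylow 3 G) = 910 →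
      Nat.card (Subgroup.centralizer ((P : Subgroup G) : Set G)) = 3) := by
    intro P
    obtain ⟨k, c, hk, hk1, hC, hN, hmul⟩ := h88_struct hn0 (by norm_num) hP3 P
    have hkle : k ≤ 2 := Nat.le_of_dvd (by norm_num) hk
    constructor
    · intro h; rw [h] at hmul; rw [hC]; interval_cases k <;> omega
    · intro h; rw [h] at hmul; rw [hC]; interval_cases k <;> omega
  have hC5 : ∀ P : Sylow 5 G, (Nat.card (Sylow 5 G) = 91 →
      (Nat.card (Subgroup.centralizer ((P : Subgroup G) : Set G)) = 30 ∨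
       Nat.card (Subgroup.centralizer ((P : Subgroup G) : Set G)) = 15)) ∧ (Nat.card (Sylow 5 G) = 546 →
      Nat.card (Subgroup.centralizer ((P : Subgroup G) : Set G)) = 5) := by
    intro P
    obtain ⟨k, c, hk, hk1, hC, hN, hmul⟩ := h88_struct hn0 (by norm_num) hP5 P
    have hkle : k ≤ 4 := Nat.le_of_dvd (by norm_num) hk
    constructor
    · intro h; rw [h] at hmul; rw [hC]; interval_cases k <;> omega
    · intro h; rw [h] at hmul; rw [hC]; interval_cases k <;> omega
  -- counting
  have c13 := h88_card_orderOf_ge (G := G) hP13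
  have c7 := h88_card_orderOf_ge (G := G) hP7
  have c5 := h88_card_orderOf_ge (G := G) hP5
  have c3 := h88_card_orderOf_ge (G := G) hP3
  rw [hn13] at c13
  rw [hn7'] at c7
  rcases hn5' with h5' | h5' <;> rcases hn3' with h3' | h3'
  · -- (91, 91): the final count
    have c26 := h88_card_orderOf_mul_ge (G := G) (p := 13) (r := 2) (by norm_num) (by norm_num) hP13
      (fun P => by rw [hC13 P]; norm_num)
    have c15 := h88_card_orderOf_mul_ge (G := G) (p := 5) (r := 3) (by norm_num) (by norm_num) hP5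
      (fun P => by rcases (hC5 P).1 h5' with h | h <;> rw [h] <;> norm_num)
    have c6 := h88_card_orderOf_mul_ge (G := G) (p := 3) (r := 2) (by norm_num) (by norm_num) hP3
      (fun P => by rw [(hC3 P).1 h3']; norm_num)
    rw [hn13] at c26
    rw [h5'] at c15 c5
    rw [h3'] at c6 c3
    have hsum := sum_card_orderOf_le (G := G) ({3, 5, 6, 7, 13, 15, 26} : Finset ℕ)
    rw [Finset.sum_insert (by decide), Finset.sum_insert (by decide), Finset.sum_insert (by decide),
      Finset.sum_insert (by decide), Finset.sum_insert (by decide), Finset.sum_insert (by decide),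
      Finset.sum_singleton, hn0] at hsum
    norm_num at c26 c15 c6 c13 c7 c5 c3
    omega
  · -- (91, 910): 3 ∣ |C(P5)|, so 5 ∣ |C(P3)| = 3
    exfalso
    obtain ⟨P⟩ : Nonempty (Sylow 5 G) := inferInstance
    obtain ⟨Q, hQ⟩ := link hP5 hP3 P (by rcases (hC5 P).1 h5' with h | h <;> rw [h] <;> norm_num)
    rw [(hC3 Q).2 h3'] at hQ
    revert hQ; norm_num
  · -- (546, 91): 5 ∣ |C(P3)| = 30, so 3 ∣ |C(P5)| = 5
    exfalso
    obtain ⟨P⟩ : Nonempty (Sylow 3 G) := inferInstance
    obtain ⟨Q, hQ⟩ := link hP3 hP5 P (by rw [(hC3 P).1 h3']; norm_num)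
    rw [(hC5 Q).2 h5'] at hQ
    revert hQ; norm_num
  · -- (546, 910): too many elements
    rw [h5'] at c5
    rw [h3'] at c3
    have hsum := sum_card_orderOf_le (G := G) ({3, 5, 7, 13} : Finset ℕ)
    rw [Finset.sum_insert (by decide), Finset.sum_insert (by decide), Finset.sum_insert (by decide),
      Finset.sum_singleton, hn0] at hsum
    norm_num at c13 c7 c5 c3
    omega

end Cfsg.Agent.Helper88.SV
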