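import Mathlib

/-!
# The discriminant `μ² + 4 (k - μ)` for powers of three
-/

set_option autoImplicit false

namespace Cfsg.Agent.Helper88.Srg

theorem sq_mod_three (t : ℕ) : t * t % 3 ≠ 2 := by
  have : t % 3 = 0 ∨ t % 3 = 1 ∨ t % 3 = 2 := by omega
  rcases this with h | h | h <;> simp [Nat.mul_mod, h]

theorem three_dvd_of_sq {t n : ℕ} (h : 3 * n = t * t) : ∃ u, t = 3 * u := by
  have h3 : 3 ∣ t * t := ⟨n, h.symm⟩
  rcases (Nat.Prime.dvd_mul Nat.prime_three).1 h3 with h | h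
  · exact h
  · exact h

theorem not_isSquare_three_pow_mul : ∀ (j M : ℕ), M % 3 = 2 → ¬ IsSquare (3 ^ j * M)
  | 0, M, hM => by
    rintro ⟨t, ht⟩
    rw [pow_zero, one_mul] at ht
    exact sq_mod_three t (ht ▸ hM)
  | 1, M, hM => by
    rintro ⟨t, ht⟩
    rw [pow_one] at ht
    obtain ⟨u, rfl⟩ := three_dvd_of_sq ht
    have : M = 3 * (u * u) := by nlinarith
    omega
  | (j + 2), M, hM => by
    rintro ⟨t, ht⟩
    have h1 : 3 * (3 ^ (j + 1) * M) = t * t := by rw [← ht]; ring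
    obtain ⟨u, rfl⟩ := three_dvd_of_sq h1
    apply not_isSquare_three_pow_mul j M hM
    refine ⟨u, ?_⟩
    have : 9 * (3 ^ j * M) = 9 * (u * u) := by
      calc 9 * (3 ^ j * M) = 3 ^ (j + 2) * M := by ring
        _ = 3 * u * (3 * u) := ht
        _ = 9 * (u * u) := by ring
    omega

/-- the discriminant is not a square -/
theorem not_isSquare_disc {m j : ℕ} (hm : 2 ≤ m) (hj : j < m) :
    ¬ IsSquare ((3 ^ j) ^ 2 + 4 * (3 ^ m - 3 ^ j)) := by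
  obtain ⟨i, rfl⟩ : ∃ i, m = j + 1 + i := ⟨m - j - 1, by omega⟩
  have hpow : 3 ^ (j + 1 + i) = 3 ^ j * (3 * 3 ^ i) := by ring
  have hle : 3 ^ j ≤ 3 ^ (j + 1 + i) := Nat.pow_le_pow_right (by norm_num) (by omega)
  rcases Nat.eq_zero_or_pos j with hj0 | hj0
  · subst hj0
    -- `4 * 3^(1+i) - 3 = 3 * (4 * 3^i - 1)` with `i ≥ 1`
    obtain ⟨i', rfl⟩ : ∃ i', i = i' + 1 := ⟨i - 1, by omega⟩
    have e : (3 ^ 0) ^ 2 + 4 * (3 ^ (0 + 1 + (i' + 1)) - 3 ^ 0) = 3 ^ 1 * (12 * 3 ^ i' - 1) := by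
      have h1 : 3 ^ (0 + 1 + (i' + 1)) = 9 * 3 ^ i' := by ring
      have h2 : 1 ≤ 3 ^ i' := Nat.one_le_pow _ _ (by norm_num)
      rw [h1]
      simp only [pow_zero, one_pow, pow_one]
      omega
    rw [e]
    apply not_isSquare_three_pow_mul
    have h2 : 1 ≤ 3 ^ i' := Nat.one_le_pow _ _ (by norm_num)
    omega
  · obtain ⟨j', rfl⟩ : ∃ j', j = j' + 1 := ⟨j - 1, by omega⟩
    have e : (3 ^ (j' + 1)) ^ 2 + 4 * (3 ^ (j' + 1 + 1 + i) - 3 ^ (j' + 1)) =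
        3 ^ (j' + 1) * (3 * 3 ^ j' + 12 * 3 ^ i - 4) := by
      have h1 : 3 ^ (j' + 1 + 1 + i) = 3 ^ (j' + 1) * (3 * 3 ^ i) := by ring
      have h2 : 1 ≤ 3 ^ i := Nat.one_le_pow _ _ (by norm_num)
      have h3 : 1 ≤ 3 ^ j' := Nat.one_le_pow _ _ (by norm_num)
      rw [h1]
      have h4 : 3 ^ (j' + 1) * (3 * 3 ^ i) - 3 ^ (j' + 1) = 3 ^ (j' + 1) * (3 * 3 ^ i - 1) := by
        rw [Nat.mul_sub, mul_one]
      rw [h4]
      have h5 : (3 ^ (j' + 1)) ^ 2 = 3 ^ (j' + 1) * (3 * 3 ^ j') := by ring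
      rw [h5, ← mul_assoc 4, mul_comm 4, mul_assoc, ← mul_add]
      congr 1
      omega
    rw [e]
    apply not_isSquare_three_pow_mul
    have h2 : 1 ≤ 3 ^ i := Nat.one_le_pow _ _ (by norm_num)
    have h3 : 1 ≤ 3 ^ j' := Nat.one_le_pow _ _ (by norm_num)
    omega

theorem irrational_disc {m j : ℕ} (hm : 2 ≤ m) (hj : j < m) :
    Irrational (Real.sqrt ((((3 ^ j : ℕ) : ℝ)) ^ 2 + 4 * ((((3 ^ m : ℕ)) : ℝ) - ((3 ^ j : ℕ) : ℝ)))) := by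
  have hle : 3 ^ j ≤ 3 ^ m := Nat.pow_le_pow_right (by norm_num) hj.le
  have e : ((((3 ^ j : ℕ) : ℝ)) ^ 2 + 4 * ((((3 ^ m : ℕ)) : ℝ) - ((3 ^ j : ℕ) : ℝ))) =
      (((3 ^ j) ^ 2 + 4 * (3 ^ m - 3 ^ j) : ℕ) : ℝ) := by
    push_cast [Nat.cast_sub hle]
    ring
  rw [e]
  exact irrational_sqrt_natCast_iff.2 (not_isSquare_disc hm hj)

end Cfsg.Agent.Helper88.Srg
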