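import Mathlib

/-!
# An integrality condition for strongly regular graphs

If `A` is the adjacency matrix of a triangle-free strongly regular graph with valency `k` and `μ`
common neighbours of non-adjacent vertices, and `μ² + 4 (k - μ)` is not a perfect square, then
`μ (v - 1) = 2 k`.
-/

set_option autoImplicit false

namespace Cfsg.Agent.Helper88.Srg

open Matrix

variable {V : Type*} [Fintype V]

/-- the all-ones matrix -/
def JJ (V : Type*) [Fintype V] : Matrix V V ℝ := Matrix.of fun _ _ => 1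

theorem JJ_mul_JJ : JJ V * JJ V = (Fintype.card V : ℝ) • JJ V := by
  ext i j
  simp [JJ, Matrix.mul_apply]

theorem trace_JJ : (JJ V).trace = (Fintype.card V : ℝ) := by
  simp [JJ, Matrix.trace]

variable [DecidableEq V]

/-- an idempotent real matrix has natural trace -/
theorem trace_idem (E : Matrix V V ℝ) (hE : E * E = E) : ∃ r : ℕ, E.trace = r := by
  have h1 : IsIdempotentElem (Matrix.toLin' E) := by
    unfold IsIdempotentElem
    rw [Module.End.mul_eq_comp, ← Matrix.toLin'_mul, hE]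
  have h2 := (LinearMap.IsIdempotentElem.isProj_range _ h1).trace
  refine ⟨Module.finrank ℝ ↥(LinearMap.range (Matrix.toLin' E)), ?_⟩
  rw [← h2, Matrix.trace_toLin'_eq]

/-- the integrality condition -/
theorem half_case [Nonempty V] (A : Matrix V V ℝ) (k μ : ℕ)
    (hAJ : A * JJ V = (k : ℝ) • JJ V) (hJA : JJ V * A = (k : ℝ) • JJ V)
    (hAA : A * A = ((k : ℝ) - μ) • (1 : Matrix V V ℝ) - (μ : ℝ) • A + (μ : ℝ) • JJ V)
    (htr : A.trace = 0)
    (hΔ : Irrational (Real.sqrt ((μ : ℝ) ^ 2 + 4 * ((k : ℝ) - μ)))) :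
    (μ : ℝ) * ((Fintype.card V : ℝ) - 1) = 2 * k := by
  set v : ℝ := (Fintype.card V : ℝ) with hv
  have hv0 : v ≠ 0 := by
    rw [hv]
    exact_mod_cast Fintype.card_ne_zero
  set J := JJ V with hJ
  have hJJ : J * J = v • J := JJ_mul_JJ
  set Δ : ℝ := (μ : ℝ) ^ 2 + 4 * ((k : ℝ) - μ) with hΔdef
  set s : ℝ := Real.sqrt Δ with hs
  have hs0 : s ≠ 0 := by
    intro h
    rw [h] at hΔ
    exact hΔ ⟨0, by simp⟩
  have hΔ0 : 0 ≤ Δ := by
    by_contra h
    push Not at h
    apply hs0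
    rw [hs]
    exact Real.sqrt_eq_zero_of_nonpos h.le
  have hss : s * s = Δ := Real.mul_self_sqrt hΔ0
  -- the relation between the parameters
  have hJne : J ≠ 0 := by
    intro h
    obtain ⟨i⟩ := ‹Nonempty V›
    have := congrFun (congrFun h i) i
    simp [hJ, JJ] at this
  have hrel : (μ : ℝ) * v = (k : ℝ) ^ 2 + μ * k - k + μ := by
    have h1 : A * A * J = ((k : ℝ) ^ 2) • J := by
      rw [Matrix.mul_assoc, hAJ, Matrix.mul_smul, hAJ, smul_smul, pow_two]
    have h2 : A * A * J = (((k : ℝ) - μ) - μ * k + μ * v) • J := by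
      rw [hAA, Matrix.add_mul, Matrix.sub_mul, Matrix.smul_mul, Matrix.smul_mul, Matrix.smul_mul,
        Matrix.one_mul, hAJ, hJJ, smul_smul, smul_smul, ← sub_smul, ← add_smul]
    rw [h1] at h2
    have h3 : ((k : ℝ) ^ 2 - (((k : ℝ) - μ) - μ * k + μ * v)) • J = 0 := by
      rw [sub_smul, h2, sub_self]
    rcases smul_eq_zero.1 h3 with h | h
    · linarith
    · exact absurd h hJne
  set a : ℝ := (2 * (k : ℝ) + μ) / v with ha
  have hav : a * v = 2 * k + μ := by
    rw [ha]; field_simp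
  set F : Matrix V V ℝ := 1 - v⁻¹ • J with hF
  set C : Matrix V V ℝ := (2 : ℝ) • A + (μ : ℝ) • (1 : Matrix V V ℝ) - a • J with hC
  have hCJ : C * J = 0 := by
    rw [hC, Matrix.sub_mul, Matrix.add_mul, Matrix.smul_mul, Matrix.smul_mul, Matrix.smul_mul,
      Matrix.one_mul, hAJ, hJJ, smul_smul, smul_smul, ← add_smul, ← sub_smul]
    have : (2 * (k : ℝ) + μ - a * v) = 0 := by rw [hav]; ring
    rw [this, zero_smul]
  have hJC : J * C = 0 := by
    rw [hC, Matrix.mul_sub, Matrix.mul_add, Matrix.mul_smul, Matrix.mul_smul, Matrix.mul_smul,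
      Matrix.mul_one, hJA, hJJ, smul_smul, smul_smul, ← add_smul, ← sub_smul]
    have : (2 * (k : ℝ) + μ - a * v) = 0 := by rw [hav]; ring
    rw [this, zero_smul]
  have hFF : F * F = F := by
    rw [hF, Matrix.sub_mul, Matrix.mul_sub, Matrix.mul_sub, Matrix.one_mul, Matrix.mul_one,
      Matrix.one_mul, Matrix.smul_mul, Matrix.mul_smul, hJJ, smul_smul, smul_smul]
    have : v⁻¹ * v⁻¹ * v = v⁻¹ := by field_simp
    rw [this]
    abel
  have hFC : F * C = C := by
    rw [hF, Matrix.sub_mul, Matrix.one_mul, Matrix.smul_mul, hJC, smul_zero, sub_zero]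
  have hCF : C * F = C := by
    rw [hF, Matrix.mul_sub, Matrix.mul_one, Matrix.mul_smul, hCJ, smul_zero, sub_zero]
  have hcoef : 4 * (μ : ℝ) - a * (2 * k + μ) = -(Δ * v⁻¹) := by
    rw [ha, hΔdef]
    field_simp
    linarith [hrel]
  have hCA : C * A = (2 : ℝ) • (A * A) + (μ : ℝ) • A - (a * k) • J := by
    rw [hC, Matrix.sub_mul, Matrix.add_mul, Matrix.smul_mul, Matrix.smul_mul, Matrix.smul_mul,
      Matrix.one_mul, hJA, smul_smul]
  have hCC : C * C = Δ • F := by
    have h1 : C * C = (2 : ℝ) • (C * A) + (μ : ℝ) • C := by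
      have : C * C = C * ((2 : ℝ) • A + (μ : ℝ) • (1 : Matrix V V ℝ) - a • J) := by rw [← hC]
      rw [this, Matrix.mul_sub, Matrix.mul_add, Matrix.mul_smul, Matrix.mul_smul, Matrix.mul_smul,
        Matrix.mul_one, hCJ, smul_zero, sub_zero]
    rw [h1, hCA, hAA, hC, hF]
    ext i j
    simp only [Matrix.add_apply, Matrix.sub_apply, Matrix.smul_apply, smul_eq_mul,
      Matrix.one_apply]
    have hJij : J i j = 1 := by simp [hJ, JJ]
    rw [hJij]
    split_ifs
    · linear_combination hcoef - hΔdef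
    · linear_combination hcoef
  -- the idempotent
  set E : Matrix V V ℝ := (1 / 2 : ℝ) • (F + s⁻¹ • C) with hE
  have hEE : E * E = E := by
    rw [hE, Matrix.smul_mul, Matrix.mul_smul, smul_smul, Matrix.add_mul, Matrix.mul_add,
      Matrix.mul_add, hFF, Matrix.smul_mul, Matrix.mul_smul, Matrix.smul_mul, Matrix.mul_smul,
      hFC, hCF, hCC, smul_smul, smul_smul]
    have h1 : s⁻¹ * s⁻¹ * Δ = 1 := by
      rw [← hss]; field_simp
    rw [h1, one_smul]
    rw [show (1 / 2 : ℝ) * (1 / 2) = 1 / 4 by norm_num]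
    ext i j
    simp only [Matrix.add_apply, Matrix.smul_apply, smul_eq_mul]
    ring
  obtain ⟨r, hr⟩ := trace_idem E hEE
  have htrF : F.trace = v - 1 := by
    rw [hF, Matrix.trace_sub, Matrix.trace_one, Matrix.trace_smul, trace_JJ, smul_eq_mul]
    rw [← hv, inv_mul_cancel₀ hv0]
  have htrC : C.trace = μ * (v - 1) - 2 * k := by
    rw [hC, Matrix.trace_sub, Matrix.trace_add, Matrix.trace_smul, Matrix.trace_smul,
      Matrix.trace_smul, htr, Matrix.trace_one, trace_JJ, smul_eq_mul, smul_eq_mul, smul_eq_mul,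
      ← hv, hav]
    ring
  have htrE : E.trace = (1 / 2 : ℝ) * ((v - 1) + s⁻¹ * (μ * (v - 1) - 2 * k)) := by
    rw [hE, Matrix.trace_smul, Matrix.trace_add, Matrix.trace_smul, htrF, htrC, smul_eq_mul,
      smul_eq_mul]
  by_contra hne
  have hne' : (μ : ℝ) * (v - 1) - 2 * k ≠ 0 := sub_ne_zero.2 hne
  rw [htrE] at hr
  -- `s` is rational
  have hq : s⁻¹ * ((μ : ℝ) * (v - 1) - 2 * k) = 2 * r - (v - 1) := by linarith
  have hq0 : (2 * (r : ℝ) - (v - 1)) ≠ 0 := by
    rw [← hq]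
    exact mul_ne_zero (inv_ne_zero hs0) hne'
  have hsval : s = ((μ : ℝ) * (v - 1) - 2 * k) / (2 * r - (v - 1)) := by
    rw [eq_div_iff hq0, ← hq]
    field_simp
  apply hΔ
  refine ⟨((μ : ℚ) * ((Fintype.card V : ℚ) - 1) - 2 * k) / (2 * r - ((Fintype.card V : ℚ) - 1)), ?_⟩
  rw [hsval, hv]
  push_cast
  rfl

/-- the counting relation between the parameters -/
theorem srg_rel [Nonempty V] (A : Matrix V V ℝ) (k μ : ℕ)
    (hAJ : A * JJ V = (k : ℝ) • JJ V)
    (hAA : A * A = ((k : ℝ) - μ) • (1 : Matrix V V ℝ) - (μ : ℝ) • A + (μ : ℝ) • JJ V) :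
    (μ : ℝ) * (Fintype.card V : ℝ) = (k : ℝ) ^ 2 + μ * k - k + μ := by
  set v : ℝ := (Fintype.card V : ℝ) with hv
  set J := JJ V with hJ
  have hJJ : J * J = v • J := JJ_mul_JJ
  have hJne : J ≠ 0 := by
    intro h
    obtain ⟨i⟩ := ‹Nonempty V›
    have := congrFun (congrFun h i) i
    simp [hJ, JJ] at this
  have h1 : A * A * J = ((k : ℝ) ^ 2) • J := by
    rw [Matrix.mul_assoc, hAJ, Matrix.mul_smul, hAJ, smul_smul, pow_two]
  have h2 : A * A * J = (((k : ℝ) - μ) - μ * k + μ * v) • J := by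
    rw [hAA, Matrix.add_mul, Matrix.sub_mul, Matrix.smul_mul, Matrix.smul_mul, Matrix.smul_mul,
      Matrix.one_mul, hAJ, hJJ, smul_smul, smul_smul, ← sub_smul, ← add_smul]
  rw [h1] at h2
  have h3 : ((k : ℝ) ^ 2 - (((k : ℝ) - μ) - μ * k + μ * v)) • J = 0 := by
    rw [sub_smul, h2, sub_self]
  rcases smul_eq_zero.1 h3 with h | h
  · linarith
  · exact absurd h hJne

end Cfsg.Agent.Helper88.Srg
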