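import Mathlib
import Cfsg.Agent.Lib.Helper88.TTStruct

set_option autoImplicit false

/-!
# A transfer-style averaging lemma and the minimal case of the complement theorem (helper88)
-/

namespace Cfsg.Agent.Helper88.TTPerp

open Cfsg Cfsg.Agent.Helper88

/-- averaging over an involution on the index set -/
theorem avg_lemma {V : Type*} [CommGroup V] {ι : Type*} [Fintype ι] [DecidableEq ι]
    (B : Subgroup V) (w : V) (hw2 : w * w ∈ B) (hodd : Odd (Fintype.card ι)) (t : ι → V)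
    (σ : ι → ι) (hσ : ∀ i, σ (σ i) = i) (hfix : ∀ i, σ i = i → t i * w⁻¹ ∈ B)
    (hpair : ∀ i, t i * t (σ i) ∈ B) (hprod : ∏ i, t i ∈ B) : w ∈ B := by
  set W : V ⧸ B := (w : V ⧸ B) with hW
  have hW2 : W * W = 1 := by
    rw [hW, ← QuotientGroup.mk_mul]; exact (QuotientGroup.eq_one_iff _).mpr hw2
  have hWi : W⁻¹ = W := inv_eq_of_mul_eq_one_left hW2
  let g : ι → V ⧸ B := fun i => (t i : V ⧸ B) * W⁻¹
  have hgfix : ∀ i, σ i = i → g i = 1 := by
    intro i hi
    show (t i : V ⧸ B) * W⁻¹ = 1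
    rw [hW, ← QuotientGroup.mk_inv, ← QuotientGroup.mk_mul]
    exact (QuotientGroup.eq_one_iff _).mpr (hfix i hi)
  have h1 : ∏ i, g i = 1 := by
    apply Finset.prod_involution (fun i _ => σ i)
    · intro i _
      show (t i : V ⧸ B) * W⁻¹ * ((t (σ i) : V ⧸ B) * W⁻¹) = 1
      have h2 : ((t i * t (σ i) : V) : V ⧸ B) = 1 := (QuotientGroup.eq_one_iff _).mpr (hpair i)
      rw [QuotientGroup.mk_mul] at h2
      calc (t i : V ⧸ B) * W⁻¹ * ((t (σ i) : V ⧸ B) * W⁻¹)
          = ((t i : V ⧸ B) * (t (σ i) : V ⧸ B)) * (W⁻¹ * W⁻¹) := by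
            rw [mul_mul_mul_comm]
        _ = 1 := by rw [h2, hWi, hW2, one_mul]
    · intro i _ hgi hfix'
      exact hgi (hgfix i hfix')
    · intro i _; exact Finset.mem_univ _
    · intro i _; exact hσ i
  have h2 : ∏ i, g i = (∏ i, (t i : V ⧸ B)) * (W⁻¹) ^ Fintype.card ι := by
    rw [Finset.prod_mul_distrib, Finset.prod_const, Finset.card_univ]
  have h3 : ∏ i, (t i : V ⧸ B) = 1 := by
    have : ((∏ i, t i : V) : V ⧸ B) = ∏ i, (t i : V ⧸ B) := map_prod (QuotientGroup.mk' B) t _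
    rw [← this]
    exact (QuotientGroup.eq_one_iff _).mpr hprod
  rw [h2, h3, one_mul, hWi] at h1
  obtain ⟨m, hm⟩ := hodd
  rw [hm, pow_succ, pow_mul, pow_two, hW2, one_pow, one_mul] at h1
  exact (QuotientGroup.eq_one_iff _).mp h1

section lemmaB

variable {G : Type*} [Group G] [Finite G]

/-- a Sylow `3`-subgroup covering the normal `3`-subgroup `A` of index at most two in `G ⧸ N` -/
theorem exists_sylow_cover (N : Subgroup G) [hNn : N.Normal] (A : Subgroup (G ⧸ N))
    [hAn : A.Normal] (hA3 : IsPGroup 3 A) {d : G} (hdd : d * d = 1)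
    (hAd : ∀ q : G ⧸ N, q ∈ A ∨ q * (d : G ⧸ N) ∈ A) :
    ∃ P₀ : Sylow 3 G, (P₀ : Subgroup G).map (QuotientGroup.mk' N) = A := by
  have : Fact (Nat.Prime 3) := ⟨Nat.prime_three⟩
  have hdd' : (d : G ⧸ N) * (d : G ⧸ N) = 1 := by rw [← QuotientGroup.mk_mul, hdd]; rfl
  have hsup : A ⊔ Subgroup.zpowers (d : G ⧸ N) = ⊤ := by
    rw [eq_top_iff]
    intro q _
    rcases hAd q with h | h
    · exact Subgroup.mem_sup_left h
    · have : q = (q * (d : G ⧸ N)) * (d : G ⧸ N)⁻¹ := by group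
      rw [this]
      exact Subgroup.mul_mem _ (Subgroup.mem_sup_left h)
        (Subgroup.mem_sup_right (Subgroup.inv_mem _ (Subgroup.mem_zpowers _)))
  have hidx : A.index ≤ 2 := TTStruct.index_le_two_of_sup hdd' hsup
  have hidx0 : A.index ≠ 0 := Subgroup.index_ne_zero_of_finite
  have h3 : ¬ 3 ∣ A.index := by
    intro h
    have := Nat.le_of_dvd (Nat.pos_of_ne_zero hidx0) h
    omega
  let PA : Sylow 3 (G ⧸ N) := hA3.toSylow h3
  have hPA : (PA : Subgroup (G ⧸ N)) = A := IsPGroup.toSylow_coe hA3 h3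
  have : (PA : Subgroup (G ⧸ N)).Normal := by rw [hPA]; exact hAn
  obtain ⟨P₀⟩ : Nonempty (Sylow 3 G) := Sylow.nonempty
  let P' : Sylow 3 (G ⧸ N) := P₀.mapSurjective (QuotientGroup.mk'_surjective N)
  obtain ⟨q, hq⟩ := MulAction.exists_smul_eq (G ⧸ N) PA P'
  rw [Sylow.smul_eq_of_normal] at hq
  refine ⟨P₀, ?_⟩
  rw [← hPA, hq]
  rfl

theorem normalizer_sup_eq_top_of_cover (N : Subgroup G) [hNn : N.Normal] (A : Subgroup (G ⧸ N))
    [hAn : A.Normal] (P₀ : Sylow 3 G)
    (hP₀ : (P₀ : Subgroup G).map (QuotientGroup.mk' N) = A) :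
    Subgroup.normalizer ((P₀ : Subgroup G) : Set G) ⊔ N = ⊤ := by
  have : Fact (Nat.Prime 3) := ⟨Nat.prime_three⟩
  have hMeq : A.comap (QuotientGroup.mk' N) = (P₀ : Subgroup G) ⊔ N := by
    rw [← hP₀, Subgroup.comap_map_eq, QuotientGroup.ker_mk']
  have : (A.comap (QuotientGroup.mk' N)).Normal := hAn.comap _
  have hle : (P₀ : Subgroup G) ≤ A.comap (QuotientGroup.mk' N) := by rw [hMeq]; exact le_sup_left
  have h1 := Sylow.normalizer_sup_eq_top' P₀ hle
  rw [hMeq, ← sup_assoc] at h1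
  rw [eq_top_iff, ← h1]
  refine sup_le (sup_le ?_ ?_) le_sup_right
  · exact le_sup_left
  · exact le_trans Subgroup.le_normalizer le_sup_left

open scoped IsMulCommutative in
/-- the averaging step: `w` is a "coboundary" -/
theorem exists_coboundary (N : Subgroup G) [hNn : N.Normal]
    (hNab : ∀ x ∈ N, ∀ y ∈ N, x * y = y * x) (P₀ : Sylow 3 G) {d u w : G}
    (hu : u ∈ Subgroup.normalizer ((P₀ : Subgroup G) : Set G)) (hw : w ∈ N) (huw : u * w = d)
    (hdd : d * d = 1) (huu : u * u = 1)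
    (hNP : ∀ x ∈ N, x ∈ Subgroup.normalizer ((P₀ : Subgroup G) : Set G) → x = 1)
    (hfus : ∀ g : G, (g * d * g⁻¹) * d ∈ N → ∃ v ∈ N, g * d * g⁻¹ = v * d * v⁻¹) :
    ∃ v ∈ N, (u⁻¹ * v⁻¹ * u) * v = w := by
  classical
  have : Fact (Nat.Prime 3) := ⟨Nat.prime_three⟩
  have hui : u⁻¹ = u := inv_eq_self_of_mul_self huu
  have huwu : u * w * u = w⁻¹ := by
    have h1 : u * w * (u * w) = 1 := by rw [huw]; exact hdd
    have h2 : u * w * u * w = 1 := by rw [← h1]; group
    exact eq_inv_of_mul_eq_one_left h2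
  have hconj' : ∀ x ∈ N, u * x * u ∈ N := by
    intro x hx
    have := hNn.conj_mem x hx u
    rwa [hui] at this
  have : IsMulCommutative ↥N := ⟨⟨fun x y => Subtype.ext (hNab x x.2 y y.2)⟩⟩
  have : Fintype ↥(P₀ : Subgroup G) := Fintype.ofFinite _
  -- the homomorphism `v ↦ (u v⁻¹ u) v`
  let ψ : ↥N →* ↥N := MonoidHom.mk'
    (fun v => ⟨(u * (v : G)⁻¹ * u) * v, N.mul_mem (hconj' _ (N.inv_mem v.2)) v.2⟩) (by
      intro a b
      apply Subtype.ext
      show (u * ((a : G) * (b : G))⁻¹ * u) * ((a : G) * (b : G))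
        = ((u * (a : G)⁻¹ * u) * a) * ((u * (b : G)⁻¹ * u) * b)
      have e1 : u * ((a : G) * (b : G))⁻¹ * u = (u * (b : G)⁻¹ * u) * (u * (a : G)⁻¹ * u) := by
        calc u * ((a : G) * (b : G))⁻¹ * u = u * (b : G)⁻¹ * 1 * (a : G)⁻¹ * u := by group
          _ = u * (b : G)⁻¹ * (u * u) * (a : G)⁻¹ * u := by rw [huu]
          _ = _ := by group
      have hXa : u * (a : G)⁻¹ * u ∈ N := hconj' _ (N.inv_mem a.2)
      have hXb : u * (b : G)⁻¹ * u ∈ N := hconj' _ (N.inv_mem b.2)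
      rw [e1]
      calc (u * (b : G)⁻¹ * u) * (u * (a : G)⁻¹ * u) * ((a : G) * (b : G))
          = (u * (b : G)⁻¹ * u) * ((u * (a : G)⁻¹ * u) * a) * b := by group
        _ = ((u * (a : G)⁻¹ * u) * a) * (u * (b : G)⁻¹ * u) * b := by
            rw [hNab _ hXb _ (N.mul_mem hXa a.2)]
        _ = _ := by group)
  have hψ : ∀ v : ↥N, ((ψ v : ↥N) : G) = (u * (v : G)⁻¹ * u) * v := fun v => rfl
  let t : ↥(P₀ : Subgroup G) → ↥N := fun p => ⟨p * w * (p : G)⁻¹, hNn.conj_mem w hw p⟩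
  let σ : ↥(P₀ : Subgroup G) → ↥(P₀ : Subgroup G) := fun p =>
    ⟨u * p * u⁻¹, (Subgroup.mem_normalizer_iff.mp hu p).mp p.2⟩
  have hσval : ∀ p, ((σ p : ↥(P₀ : Subgroup G)) : G) = u * p * u := by
    intro p; show u * (p : G) * u⁻¹ = u * p * u; rw [hui]
  have key : (⟨w, hw⟩ : ↥N) ∈ ψ.range := by
    apply avg_lemma ψ.range ⟨w, hw⟩ _ _ t σ
    · -- hσ
      intro p
      apply Subtype.ext
      rw [hσval, hσval]
      calc u * (u * (p : G) * u) * u = (u * u) * p * (u * u) := by group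
        _ = p := by rw [huu, one_mul, mul_one]
    · -- hfix
      intro p hp
      have hp' : u * (p : G) * u = p := by rw [← hσval, hp]
      have hup : u * (p : G) = p * u := by
        calc u * (p : G) = (u * p * u) * u⁻¹ := by group
          _ = p * u := by rw [hp', hui]
      have h1 : (p : G) * d * (p : G)⁻¹ = u * ((p : G) * w * (p : G)⁻¹) := by
        rw [← huw]
        calc (p : G) * (u * w) * (p : G)⁻¹ = ((p : G) * u) * w * (p : G)⁻¹ := by group
          _ = (u * p) * w * (p : G)⁻¹ := by rw [hup]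
          _ = _ := by group
      have h2 : (p : G) * d * (p : G)⁻¹ * d ∈ N := by
        have e : (p : G) * d * (p : G)⁻¹ * d = (u * ((p : G) * w * (p : G)⁻¹) * u) * w := by
          rw [h1, ← huw]; group
        rw [e]
        exact N.mul_mem (hconj' _ (hNn.conj_mem w hw p)) hw
      obtain ⟨v, hv, hpv⟩ := hfus p h2
      refine ⟨⟨v⁻¹, N.inv_mem hv⟩, ?_⟩
      apply Subtype.ext
      rw [hψ]
      show (u * ((v⁻¹ : G))⁻¹ * u) * v⁻¹ = ((p : G) * w * (p : G)⁻¹) * w⁻¹
      -- from hpv : u * (p w p⁻¹) = v * (u * w) * v⁻¹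
      rw [h1, ← huw] at hpv
      have h3 : (p : G) * w * (p : G)⁻¹ = (u * v * u) * w * v⁻¹ := by
        calc (p : G) * w * (p : G)⁻¹ = u⁻¹ * (u * ((p : G) * w * (p : G)⁻¹)) := by group
          _ = u⁻¹ * (v * (u * w) * v⁻¹) := by rw [hpv]
          _ = u * (v * (u * w) * v⁻¹) := by rw [hui]
          _ = _ := by group
      rw [h3, inv_inv]
      calc u * v * u * v⁻¹ = (u * v * u) * (v⁻¹ * w * w⁻¹) := by group
        _ = (u * v * u) * (w * v⁻¹ * w⁻¹) := by rw [hNab v⁻¹ (N.inv_mem hv) w hw]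
        _ = _ := by group
    · -- hpair
      intro p
      refine ⟨t p, ?_⟩
      apply Subtype.ext
      rw [hψ]
      show (u * ((p : G) * w * (p : G)⁻¹)⁻¹ * u) * ((p : G) * w * (p : G)⁻¹)
        = ((p : G) * w * (p : G)⁻¹) * (((σ p : ↥(P₀ : Subgroup G)) : G) * w
            * ((σ p : ↥(P₀ : Subgroup G)) : G)⁻¹)
      rw [hσval]
      have e1 : (u * (p : G) * u) * w * (u * (p : G) * u)⁻¹
          = u * ((p : G) * w * (p : G)⁻¹)⁻¹ * u := by
        calc (u * (p : G) * u) * w * (u * (p : G) * u)⁻¹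
            = u * (p : G) * (u * w * u⁻¹) * (p : G)⁻¹ * u⁻¹ := by group
          _ = u * (p : G) * (u * w * u) * (p : G)⁻¹ * u := by rw [hui]
          _ = u * (p : G) * w⁻¹ * (p : G)⁻¹ * u := by rw [huwu]
          _ = _ := by group
      rw [e1]
      exact hNab _ (hconj' _ (N.inv_mem (hNn.conj_mem w hw p))) _ (hNn.conj_mem w hw p)
    · -- hprod
      have hone : ∏ p, t p = 1 := by
        have hinv : ∀ q : ↥(P₀ : Subgroup G),
            (MulAut.conjNormal (q : G) : MulAut ↥N) (∏ p, t p) = ∏ p, t p := by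
          intro q
          rw [map_prod]
          rw [← Equiv.prod_comp (Equiv.mulLeft q) (fun p => t p)]
          apply Finset.prod_congr rfl
          intro p _
          apply Subtype.ext
          rw [MulAut.conjNormal_apply]
          show (q : G) * ((p : G) * w * (p : G)⁻¹) * (q : G)⁻¹
            = ((q * p : ↥(P₀ : Subgroup G)) : G) * w * ((q * p : ↥(P₀ : Subgroup G)) : G)⁻¹
          rw [Subgroup.coe_mul]; group
        apply Subtype.ext
        apply hNP _ (∏ p, t p).2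
        apply Subgroup.centralizer_le_normalizer
        rw [Subgroup.mem_centralizer_iff]
        intro q hq
        have := congrArg Subtype.val (hinv ⟨q, hq⟩)
        rw [MulAut.conjNormal_apply] at this
        -- this : q * Π * q⁻¹ = Π
        calc q * ((∏ p, t p : ↥N) : G) = (q * ((∏ p, t p : ↥N) : G) * q⁻¹) * q := by group
          _ = ((∏ p, t p : ↥N) : G) * q := by rw [this]
      rw [hone]; exact Subgroup.one_mem _
    · -- hw2
      refine ⟨⟨w, hw⟩, ?_⟩
      apply Subtype.ext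
      rw [hψ]
      show (u * w⁻¹ * u) * w = w * w
      have : u * w⁻¹ * u = w := by
        have := congrArg (·⁻¹) huwu
        simp only [mul_inv_rev, inv_inv, hui] at this
        rw [← mul_assoc] at this
        exact this
      rw [this]
    · -- hodd
      obtain ⟨m, hm⟩ := IsPGroup.iff_card.mp P₀.isPGroup'
      rw [← Nat.card_eq_fintype_card, hm]
      exact Odd.pow (by decide)
  obtain ⟨v, hv⟩ := key
  refine ⟨v, v.2, ?_⟩
  have := congrArg Subtype.val hv
  rw [hψ] at this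
  rw [hui]
  exact this

/-- **The minimal case.** `N` an abelian normal `2`-subgroup which is minimal normal (or trivial),
`G ⧸ N` a `3`-group extended by the involution `d`, and every `G`-conjugate of `d` in `d N` is an
`N`-conjugate: then `d` normalizes a `3`-subgroup covering `O_3(G ⧸ N)`. -/
theorem lemmaB (N : Subgroup G) [hNn : N.Normal] (hN2 : IsPGroup 2 N)
    (hNab : ∀ x ∈ N, ∀ y ∈ N, x * y = y * x)
    (hmin : ∀ Z : Subgroup G, Z.Normal → Z ≤ N → Z = ⊥ ∨ Z = N)
    (A : Subgroup (G ⧸ N)) [hAn : A.Normal] (hA3 : IsPGroup 3 A)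
    {d : G} (hdd : d * d = 1)
    (hAd : ∀ q : G ⧸ N, q ∈ A ∨ q * (d : G ⧸ N) ∈ A)
    (hfus : ∀ g : G, (g * d * g⁻¹) * d ∈ N → ∃ v ∈ N, g * d * g⁻¹ = v * d * v⁻¹) :
    ∃ P : Subgroup G, IsPGroup 3 P ∧ (∀ x ∈ P, d * x * d⁻¹ ∈ P) ∧
      ∀ g : G, (g : G ⧸ N) ∈ A → ∃ n ∈ N, ∃ p ∈ P, g = n * p := by
  have : Fact (Nat.Prime 3) := ⟨Nat.prime_three⟩
  have : Fact (Nat.Prime 2) := ⟨Nat.prime_two⟩
  obtain ⟨P₀, hP₀⟩ := exists_sylow_cover N A hA3 hdd hAd
  have hfr := normalizer_sup_eq_top_of_cover N A P₀ hP₀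
  have hMeq : A.comap (QuotientGroup.mk' N) = (P₀ : Subgroup G) ⊔ N := by
    rw [← hP₀, Subgroup.comap_map_eq, QuotientGroup.ker_mk']
  have hMn : (A.comap (QuotientGroup.mk' N)).Normal := hAn.comap _
  have hdisj : Disjoint N (P₀ : Subgroup G) :=
    IsPGroup.disjoint_of_ne 2 3 (by norm_num) _ _ hN2 P₀.isPGroup'
  suffices hv : ∃ v ∈ N, v * d * v⁻¹ ∈ Subgroup.normalizer ((P₀ : Subgroup G) : Set G) by
    obtain ⟨v, hvN, hvd⟩ := hv
    refine ⟨(P₀ : Subgroup G).comap (MulAut.conj v).toMonoidHom, ?_, ?_, ?_⟩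
    · exact P₀.isPGroup'.comap_of_injective _ (MulAut.conj v).injective
    · intro x hx
      have hx' : v * x * v⁻¹ ∈ (P₀ : Subgroup G) := hx
      show v * (d * x * d⁻¹) * v⁻¹ ∈ (P₀ : Subgroup G)
      have h1 := (Subgroup.mem_normalizer_iff.mp hvd (v * x * v⁻¹)).mp hx'
      have e : v * (d * x * d⁻¹) * v⁻¹ = v * d * v⁻¹ * (v * x * v⁻¹) * (v * d * v⁻¹)⁻¹ := by
        group
      rw [e]; exact h1
    · intro g hg
      have hgM : v * g * v⁻¹ ∈ A.comap (QuotientGroup.mk' N) := by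
        show ((v * g * v⁻¹ : G) : G ⧸ N) ∈ A
        rw [QuotientGroup.mk_mul, QuotientGroup.mk_mul, QuotientGroup.mk_inv]
        exact hAn.conj_mem _ hg _
      rw [hMeq, sup_comm, Subgroup.mem_sup_of_normal_left] at hgM
      obtain ⟨n, hn, p, hp, hnp⟩ := hgM
      refine ⟨v⁻¹ * n * v, ?_, v⁻¹ * p * v, ?_, ?_⟩
      · have := hNn.conj_mem n hn v⁻¹
        simpa using this
      · show v * (v⁻¹ * p * v) * v⁻¹ ∈ (P₀ : Subgroup G)
        have e : v * (v⁻¹ * p * v) * v⁻¹ = p := by group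
        rw [e]; exact hp
      · have e : g = v⁻¹ * (v * g * v⁻¹) * v := by group
        rw [e, ← hnp]; group
  have hd_top : d ∈ Subgroup.normalizer ((P₀ : Subgroup G) : Set G) ⊔ N := by rw [hfr]; trivial
  rw [Subgroup.mem_sup_of_normal_right] at hd_top
  obtain ⟨u, hu, w, hw, huw⟩ := hd_top
  have hCn : (N ⊓ Subgroup.centralizer ((A.comap (QuotientGroup.mk' N) : Subgroup G) : Set G)).Normal :=
    inferInstance
  have hPle : (P₀ : Subgroup G) ≤ A.comap (QuotientGroup.mk' N) := by rw [hMeq]; exact le_sup_left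
  rcases hmin _ hCn inf_le_left with hC0 | hCN
  · -- the main case
    have hdi : d⁻¹ = d := inv_eq_self_of_mul_self hdd
    have hNP : ∀ x ∈ N, x ∈ Subgroup.normalizer ((P₀ : Subgroup G) : Set G) → x = 1 := by
      intro x hxN hxn
      have hcomm : ∀ p ∈ (P₀ : Subgroup G), x * p = p * x := by
        intro p hp
        have h1 : x * p * x⁻¹ * p⁻¹ ∈ N := by
          have h : p * x⁻¹ * p⁻¹ ∈ N := hNn.conj_mem _ (N.inv_mem hxN) p
          have e : x * p * x⁻¹ * p⁻¹ = x * (p * x⁻¹ * p⁻¹) := by group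
          rw [e]; exact N.mul_mem hxN h
        have h2 : x * p * x⁻¹ * p⁻¹ ∈ (P₀ : Subgroup G) :=
          Subgroup.mul_mem _ ((Subgroup.mem_normalizer_iff.mp hxn p).mp hp) (Subgroup.inv_mem _ hp)
        have h3 : x * p * x⁻¹ * p⁻¹ = 1 := Subgroup.disjoint_def.mp hdisj h1 h2
        calc x * p = (x * p * x⁻¹ * p⁻¹) * (p * x) := by group
          _ = p * x := by rw [h3, one_mul]
      have hle : A.comap (QuotientGroup.mk' N) ≤ Subgroup.centralizer {x} := by
        rw [hMeq]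
        apply sup_le
        · intro p hp
          rw [Subgroup.mem_centralizer_iff]
          intro y hy
          rw [Set.mem_singleton_iff] at hy
          rw [hy]; exact hcomm p hp
        · intro n hn
          rw [Subgroup.mem_centralizer_iff]
          intro y hy
          rw [Set.mem_singleton_iff] at hy
          rw [hy]; exact hNab x hxN n hn
      have hxM : x ∈ Subgroup.centralizer ((A.comap (QuotientGroup.mk' N) : Subgroup G) : Set G) := by
        rw [Subgroup.mem_centralizer_iff]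
        intro m hm
        exact (Subgroup.mem_centralizer_iff.mp (hle hm) x rfl).symm
      have hxC : x ∈ N ⊓ Subgroup.centralizer ((A.comap (QuotientGroup.mk' N) : Subgroup G) : Set G) :=
        ⟨hxN, hxM⟩
      rw [hC0] at hxC
      exact Subgroup.mem_bot.mp hxC
    have hu_eq : u = d * w⁻¹ := by rw [← huw]; group
    have huu : u * u = 1 := by
      apply hNP
      · have e : u * u = (d * w⁻¹ * d⁻¹) * w⁻¹ := by rw [hdi, hu_eq]; group
        rw [e]
        exact N.mul_mem (hNn.conj_mem _ (N.inv_mem hw) d) (N.inv_mem hw)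
      · exact Subgroup.mul_mem _ hu hu
    obtain ⟨v, hvN, hv⟩ := exists_coboundary N hNab P₀ hu hw huw hdd huu hNP hfus
    refine ⟨v, hvN, ?_⟩
    have e : v * d * v⁻¹ = u := by
      rw [← huw, ← hv]; group
    rw [e]; exact hu
  · -- `w` centralizes `P₀`
    refine ⟨1, N.one_mem, ?_⟩
    have hwC : w ∈ N ⊓ Subgroup.centralizer ((A.comap (QuotientGroup.mk' N) : Subgroup G) : Set G) := by
      rw [hCN]; exact hw
    have hwcent : w ∈ Subgroup.centralizer ((P₀ : Subgroup G) : Set G) :=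
      Subgroup.centralizer_le (by exact_mod_cast hPle) hwC.2
    have hwn := Subgroup.centralizer_le_normalizer _ hwcent
    simp only [one_mul, inv_one, mul_one]
    rw [← huw]; exact Subgroup.mul_mem _ hu hwn

end lemmaB

end Cfsg.Agent.Helper88.TTPerp
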