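import Mathlib
import Cfsg.Prelude.Def_SporadicB
import Cfsg.Agent.Lib.Helper88.ThreeTrans
import Cfsg.Agent.Lib.Helper49.TTWidth
import Cfsg.Agent.Lib.Helper49.TTThetaCore

set_option autoImplicit false

/-!
# Classes of 3-transpositions on which commuting is an equivalence relation (helper88)

Basic facts: the hypothesis class `TC`, its stability under quotients by normal `2`-subgroups and
under passing to subgroups generated by self-conjugation-closed subsets, conjugacy inside `O_2`,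
and the notion of a section (`IsSection`).
-/

namespace Cfsg.Agent.Helper88.TTPerp

open Cfsg Cfsg.Agent.Helper88

universe u

section general

variable {G : Type*} [Group G]

/-- `R ∪ R d` as a subgroup, for an involution `d` normalizing `R` -/
def adjoin (R : Subgroup G) (d : G) (hdd : d * d = 1) (hn : ∀ x ∈ R, d * x * d⁻¹ ∈ R) :
    Subgroup G where
  carrier := {g | g ∈ R ∨ g * d ∈ R}
  one_mem' := Or.inl R.one_mem
  mul_mem' := by
    have hdi : d⁻¹ = d := inv_eq_self_of_mul_self hdd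
    rintro g h (hg | hg) (hh | hh)
    · exact Or.inl (R.mul_mem hg hh)
    · right
      rw [mul_assoc]; exact R.mul_mem hg hh
    · right
      have h1 : g * h * d = (g * d) * (d * h * d⁻¹) := by
        rw [hdi]
        calc g * h * d = g * 1 * h * d := by group
          _ = g * (d * d) * h * d := by rw [hdd]
          _ = (g * d) * (d * h * d) := by group
      rw [h1]; exact R.mul_mem hg (hn h hh)
    · left
      have h1 : g * h = (g * d) * (d * (h * d) * d⁻¹) := by
        calc g * h = g * 1 * h := by group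
          _ = g * (d * d) * h := by rw [hdd]
          _ = (g * d) * (d * (h * d) * d⁻¹) := by group
      rw [h1]; exact R.mul_mem hg (hn _ hh)
  inv_mem' := by
    have hdi : d⁻¹ = d := inv_eq_self_of_mul_self hdd
    rintro g (hg | hg)
    · exact Or.inl (R.inv_mem hg)
    · right
      have h1 : g⁻¹ * d = d * (g * d)⁻¹ * d⁻¹ := by
        rw [mul_inv_rev, hdi]
        calc g⁻¹ * d = 1 * g⁻¹ * d := by group
          _ = (d * d) * g⁻¹ * d := by rw [hdd]
          _ = d * (d * g⁻¹) * d := by group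
      rw [h1]; exact hn _ (R.inv_mem hg)

theorem mem_adjoin {R : Subgroup G} {d : G} {hdd : d * d = 1} {hn : ∀ x ∈ R, d * x * d⁻¹ ∈ R}
    {g : G} : g ∈ adjoin R d hdd hn ↔ g ∈ R ∨ g * d ∈ R := Iff.rfl

theorem eq_one_of_orderOf_two_three {x : G} {j k : ℕ} (h2 : orderOf x ∣ 2 ^ j)
    (h3 : orderOf x ∣ 3 ^ k) : x = 1 := by
  have h : orderOf x ∣ Nat.gcd (2 ^ j) (3 ^ k) := Nat.dvd_gcd h2 h3
  have hc : Nat.Coprime (2 ^ j) (3 ^ k) := Nat.Coprime.pow _ _ (by norm_num)
  rw [hc] at h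
  exact orderOf_eq_one_iff.mp (Nat.dvd_one.mp h)

theorem eq_one_of_pow_two_three {x : G} {j k : ℕ} (h2 : x ^ 2 ^ j = 1) (h3 : x ^ 3 ^ k = 1) :
    x = 1 :=
  eq_one_of_orderOf_two_three (orderOf_dvd_of_pow_eq_one h2) (orderOf_dvd_of_pow_eq_one h3)

variable {D : Set G}

theorem commute_of_two_pow (hT : TT D) {a b : G} (ha : a ∈ D) (hb : b ∈ D) {j : ℕ}
    (h : (a * b) ^ 2 ^ j = 1) : Commute a b := by
  by_contra hc
  have h3 : (a * b) ^ 3 = 1 := (hT.commute_or_cube ha hb).resolve_left hc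
  have h1 : a * b = 1 := eq_one_of_pow_two_three (k := 1) h (by simpa using h3)
  apply hc
  have h2 : a = b := by
    have := eq_inv_of_mul_eq_one_left h1
    rw [this, hT.inv_eq hb]
  rw [h2]

theorem commute_of_mem (hT : TT D) {a b : G} (ha : a ∈ D) (hb : b ∈ D) {Z : Subgroup G}
    (hZ : IsPGroup 2 Z) (h : a * b ∈ Z) : Commute a b := by
  obtain ⟨j, hj⟩ := hZ ⟨a * b, h⟩
  apply commute_of_two_pow hT ha hb (j := j)
  have := congrArg Subtype.val hj
  simpa using this

theorem commute_of_sq_mem (hT : TT D) {a b : G} (ha : a ∈ D) (hb : b ∈ D) {Z : Subgroup G}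
    (hZ : IsPGroup 2 Z) (h : (a * b) * (a * b) ∈ Z) : Commute a b := by
  by_contra hc
  have h3 : (a * b) ^ 3 = 1 := (hT.commute_or_cube ha hb).resolve_left hc
  have h3' : (a * b) * (a * b) * (a * b) = 1 := by rw [← h3]; simp [pow_succ]
  have h4 : a * b = ((a * b) * (a * b)) * ((a * b) * (a * b)) := by
    calc a * b = ((a * b) * (a * b) * (a * b)) * (a * b) := by rw [h3', one_mul]
      _ = _ := by simp only [mul_assoc]
  exact hc (commute_of_mem hT ha hb hZ (by rw [h4]; exact Z.mul_mem h h))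

/-- The hypothesis class: a generating conjugation-invariant set of 3-transpositions on which
commuting is transitive, with two non-commuting members. -/
structure TC (D : Set G) : Prop where
  tt : TT D
  ne_one : ∀ x ∈ D, x ≠ 1
  gen : Subgroup.closure D = ⊤
  trans : ∀ a ∈ D, ∀ b ∈ D, ∀ c ∈ D, Commute a b → Commute b c → Commute a c
  two : ∃ a ∈ D, ∃ b ∈ D, ¬ Commute a b

/-- a normal `2`-subgroup containing the products of commuting members -/
structure Core (D : Set G) (N : Subgroup G) : Prop where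
  isP : IsPGroup 2 N
  mul_mem : ∀ a ∈ D, ∀ b ∈ D, Commute a b → a * b ∈ N

/-- a section of the commuting classes through `d` -/
def IsSection (D : Set G) (d : G) (D₀ : Set G) : Prop :=
  D₀ ⊆ D ∧ d ∈ D₀ ∧ (∀ a ∈ D₀, ∀ b ∈ D₀, a * b * a⁻¹ ∈ D₀) ∧
    (∀ a ∈ D₀, ∀ b ∈ D₀, Commute a b → a = b) ∧ ∀ x ∈ D, ∃ y ∈ D₀, Commute x y

namespace TC

theorem sim (hC : TC D) {a b : G} (ha : a ∈ D) (hb : b ∈ D) (h : Commute a b) : Sim D a b := by
  intro e he
  exact ⟨fun h1 => hC.trans b hb a ha e he h.symm h1, fun h1 => hC.trans a ha b hb e he h h1⟩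

theorem exists_not_commute (hC : TC D) {a : G} (ha : a ∈ D) : ∃ b ∈ D, ¬ Commute a b := by
  obtain ⟨x, hx, y, hy, hxy⟩ := hC.two
  by_contra h
  push Not at h
  exact hxy (hC.trans x hx a ha y hy (h x hx).symm (h y hy))

theorem not_mem (hC : TC D) {Z : Subgroup G} [hZn : Z.Normal] (hZ : IsPGroup 2 Z) {a : G}
    (ha : a ∈ D) : a ∉ Z := by
  intro haZ
  obtain ⟨b, hb, hab⟩ := hC.exists_not_commute ha
  apply hab
  apply commute_of_sq_mem hC.tt ha hb hZ
  have h1 : b * a * b⁻¹ ∈ Z := hZn.conj_mem a haZ b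
  have h2 : a * b * (a * b) = a * (b * a * b⁻¹) := by rw [hC.tt.inv_eq hb]; group
  rw [h2]; exact Z.mul_mem haZ h1

theorem exists_conj (hC : TC D) {a b : G} (ha : a ∈ D) (hb : b ∈ D) : ∃ g, g * a * g⁻¹ = b := by
  have key : ∀ x ∈ D, ∀ y ∈ D, ¬ Commute x y → ∃ g, g * x * g⁻¹ = y :=
    fun x hx y hy hxy => ⟨x * y, Cfsg.Agent.Helper49.TT_conj_of_not_commute hC.tt hx hy hxy⟩
  by_cases hab : Commute a b
  · obtain ⟨c, hc, hac⟩ := hC.exists_not_commute ha
    have hcb : ¬ Commute c b := fun h => hac (hC.trans a ha b hb c hc hab h.symm)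
    obtain ⟨g1, hg1⟩ := key a ha c hc hac
    obtain ⟨g2, hg2⟩ := key c hc b hb hcb
    refine ⟨g2 * g1, ?_⟩
    rw [← hg2, ← hg1]; group
  · exact key a ha b hb hab

theorem core_pCore [Finite G] (hC : TC D) : Core D (pCore 2 G) where
  isP := by
    have : Fact (Nat.Prime 2) := ⟨Nat.prime_two⟩
    exact pCore_isPGroup 2 G
  mul_mem := fun a ha b hb hab => mul_mem_pCore_two hC.tt ha hb (hC.sim ha hb hab)

/-- commuting members are conjugate under `N` -/
theorem exists_conj_core (hC : TC D) {N : Subgroup G} [hNn : N.Normal] (hN : Core D N) {a b : G}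
    (ha : a ∈ D) (hb : b ∈ D) (hab : Commute a b) : ∃ n ∈ N, n * a * n⁻¹ = b := by
  obtain ⟨c, hc, hac⟩ := hC.exists_not_commute ha
  have hbc : ¬ Commute b c := fun h => hac (hC.trans a ha b hb c hc hab h)
  have habN : a * b ∈ N := hN.mul_mem a ha b hb hab
  refine ⟨c * (a * b) * c⁻¹, hNn.conj_mem _ habN c, ?_⟩
  have hci := hC.tt.inv_eq hc
  have hbr1 : a * c * a = c * a * c := hC.tt.braid ha hc hac
  have hbr2 : b * c * b = c * b * c := hC.tt.braid hb hc hbc
  have hn : c * (a * b) * c⁻¹ = c * a * b * c := by rw [hci]; group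
  have key : (c * a * b * c) * a = b * (c * a * b * c) := by
    calc (c * a * b * c) * a = c * (a * b) * (c * a) := by group
      _ = c * (b * a) * (c * a) := by rw [hab.eq]
      _ = c * b * (a * c * a) := by group
      _ = c * b * (c * a * c) := by rw [hbr1]
      _ = (c * b * c) * a * c := by group
      _ = (b * c * b) * a * c := by rw [hbr2]
      _ = b * c * (b * a) * c := by group
      _ = b * c * (a * b) * c := by rw [hab.eq]
      _ = b * (c * a * b * c) := by group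
  rw [hn]
  calc (c * a * b * c) * a * (c * a * b * c)⁻¹
      = b * (c * a * b * c) * (c * a * b * c)⁻¹ := by rw [key]
    _ = b := by group

theorem commute_mk_iff (hC : TC D) {Z : Subgroup G} [Z.Normal] (hZ : IsPGroup 2 Z) {a b : G}
    (ha : a ∈ D) (hb : b ∈ D) : Commute (a : G ⧸ Z) (b : G ⧸ Z) ↔ Commute a b := by
  constructor
  · intro h
    have h1 : ((a * b : G) : G ⧸ Z) = ((b * a : G) : G ⧸ Z) := by
      rw [QuotientGroup.mk_mul, QuotientGroup.mk_mul]; exact h.eq
    rw [QuotientGroup.eq] at h1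
    have h2 : (a * b)⁻¹ * (b * a) = (b * a) * (b * a) := by
      rw [mul_inv_rev, hC.tt.inv_eq ha, hC.tt.inv_eq hb]
    rw [h2] at h1
    exact (commute_of_sq_mem hC.tt hb ha hZ h1).symm
  · intro h
    show (a : G ⧸ Z) * b = b * a
    rw [← QuotientGroup.mk_mul, ← QuotientGroup.mk_mul, h.eq]

/-- the class is stable under quotients by normal `2`-subgroups -/
theorem quot (hC : TC D) (Z : Subgroup G) [Z.Normal] (hZ : IsPGroup 2 Z) :
    TC ((fun x : G => (x : G ⧸ Z)) '' D) := by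
  refine ⟨⟨?_, ?_, ?_⟩, ?_, ?_, ?_, ?_⟩
  · rintro _ ⟨a, ha, rfl⟩
    show (a : G ⧸ Z) * (a : G ⧸ Z) = 1
    rw [← QuotientGroup.mk_mul, hC.tt.sq a ha]; rfl
  · rintro _ ⟨a, ha, rfl⟩ _ ⟨b, hb, rfl⟩
    rcases hC.tt.prod a ha b hb with h | h
    · left
      show ((a : G ⧸ Z) * (b : G ⧸ Z)) ^ 2 = 1
      rw [← QuotientGroup.mk_mul, ← QuotientGroup.mk_pow, h]; rfl
    · right
      show ((a : G ⧸ Z) * (b : G ⧸ Z)) ^ 3 = 1
      rw [← QuotientGroup.mk_mul, ← QuotientGroup.mk_pow, h]; rfl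
  · intro g
    rintro _ ⟨a, ha, rfl⟩
    induction g using QuotientGroup.induction_on with
    | H g => exact ⟨g * a * g⁻¹, hC.tt.conj g a ha, by simp⟩
  · rintro _ ⟨a, ha, rfl⟩ h1
    have : a ∈ Z := (QuotientGroup.eq_one_iff a).mp h1
    exact hC.not_mem hZ ha this
  · have h1 : Subgroup.closure ((fun x : G => (x : G ⧸ Z)) '' D)
        = (Subgroup.closure D).map (QuotientGroup.mk' Z) := by
      rw [MonoidHom.map_closure]; rfl
    rw [h1, hC.gen, ← MonoidHom.range_eq_map, MonoidHom.range_eq_top]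
    exact QuotientGroup.mk'_surjective Z
  · rintro _ ⟨a, ha, rfl⟩ _ ⟨b, hb, rfl⟩ _ ⟨c, hc, rfl⟩ h1 h2
    have h1' := (hC.commute_mk_iff hZ ha hb).mp h1
    have h2' := (hC.commute_mk_iff hZ hb hc).mp h2
    exact (hC.commute_mk_iff hZ ha hc).mpr (hC.trans a ha b hb c hc h1' h2')
  · obtain ⟨a, ha, b, hb, hab⟩ := hC.two
    exact ⟨_, ⟨a, ha, rfl⟩, _, ⟨b, hb, rfl⟩, fun h => hab ((hC.commute_mk_iff hZ ha hb).mp h)⟩

/-- the class is stable under passing to the subgroup generated by a subset closed under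
conjugation by its members -/
theorem sub (hC : TC D) {D' : Set G} (hD' : D' ⊆ D)
    (hconj : ∀ a ∈ D', ∀ b ∈ D', a * b * a⁻¹ ∈ D') (htwo : ∃ a ∈ D', ∃ b ∈ D', ¬ Commute a b) :
    TC ((Subtype.val : Subgroup.closure D' → G) ⁻¹' D') := by
  have hsq : ∀ a ∈ D', a * a = 1 := fun a ha => hC.tt.sq a (hD' ha)
  refine ⟨⟨?_, ?_, ?_⟩, ?_, ?_, ?_, ?_⟩
  · intro x hx
    apply Subtype.ext
    simpa using hsq x.1 hx
  · intro x hx y hy
    rcases hC.tt.prod x.1 (hD' hx) y.1 (hD' hy) with h | h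
    · left; apply Subtype.ext; simpa using h
    · right; apply Subtype.ext; simpa using h
  · intro g x hx
    show ((g * x * g⁻¹ : Subgroup.closure D') : G) ∈ D'
    have := (Cfsg.Agent.Helper49.conj_mem_iff_of_mem_closure hsq hconj g.2 x.1).mpr hx
    simpa using this
  · intro x hx h1
    exact hC.ne_one x.1 (hD' hx) (by rw [h1]; rfl)
  · exact Subgroup.closure_closure_coe_preimage
  · intro a ha b hb c hc h1 h2
    have h1' : a.1 * b.1 = b.1 * a.1 := by
      have := congrArg Subtype.val h1.eq; simpa using this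
    have h2' : b.1 * c.1 = c.1 * b.1 := by
      have := congrArg Subtype.val h2.eq; simpa using this
    have h3 := hC.trans a.1 (hD' ha) b.1 (hD' hb) c.1 (hD' hc) h1' h2'
    exact Subtype.ext (by simpa using h3.eq)
  · obtain ⟨a, ha, b, hb, hab⟩ := htwo
    refine ⟨⟨a, Subgroup.subset_closure ha⟩, ha, ⟨b, Subgroup.subset_closure hb⟩, hb, ?_⟩
    intro h
    apply hab
    have h1 : a * b = b * a := by
      have := congrArg Subtype.val h.eq
      simpa using this
    exact h1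

/-- the image of `D` in `G ⧸ N` has width one -/
theorem quot_width (hC : TC D) (N : Subgroup G) [N.Normal] (hN : Core D N) :
    ∀ x ∈ (fun x : G => (x : G ⧸ N)) '' D, ∀ y ∈ (fun x : G => (x : G ⧸ N)) '' D,
      Commute x y → x = y := by
  rintro _ ⟨a, ha, rfl⟩ _ ⟨b, hb, rfl⟩ h
  have h1 := (hC.commute_mk_iff hN.isP ha hb).mp h
  have h2 := hN.mul_mem a ha b hb h1
  show (a : G ⧸ N) = (b : G ⧸ N)
  rw [QuotientGroup.eq, hC.tt.inv_eq ha]; exact h2

end TC

end general

/-- `G ⧸ N` is `O_3` extended by the image of `d` -/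
theorem TC.quot_mem_or (h : Cfsg.Agent.Helper20.ZStarHyp.{u}) {G : Type u} [Group G] [Finite G]
    {D : Set G} (hC : TC D) (N : Subgroup G) [N.Normal] (hN : Core D N) {d : G} (hd : d ∈ D) :
    ∀ q : G ⧸ N, q ∈ pCore 3 (G ⧸ N) ∨ q * (d : G ⧸ N) ∈ pCore 3 (G ⧸ N) := by
  have hCq := hC.quot N hN.isP
  have hcore := Cfsg.Agent.Helper49.width_one_core h hCq.tt hCq.ne_one (hC.quot_width N hN)
  have hdd : (d : G ⧸ N) * (d : G ⧸ N) = 1 := hCq.tt.sq _ ⟨d, hd, rfl⟩
  have hNn := pCore_normal 3 (G ⧸ N)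
  have hle : Subgroup.closure ((fun x : G => (x : G ⧸ N)) '' D)
      ≤ adjoin (pCore 3 (G ⧸ N)) (d : G ⧸ N) hdd (fun x hx => hNn.conj_mem x hx _) := by
    rw [Subgroup.closure_le]
    rintro _ ⟨a, ha, rfl⟩
    right
    exact hcore _ ⟨a, ha, rfl⟩ _ ⟨d, hd, rfl⟩
  rw [hCq.gen] at hle
  intro q
  exact hle (Subgroup.mem_top q)

end Cfsg.Agent.Helper88.TTPerp
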