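import Mathlib
import Cfsg.Agent.Lib.Helper88.TTPerpBasic
import Cfsg.Agent.Lib.Helper88.TTPerpAvg

set_option autoImplicit false

/-!
# The complement theorem for classes of 3-transpositions with transitive commuting (helper88)
-/

namespace Cfsg.Agent.Helper88.TTPerp

open Cfsg Cfsg.Agent.Helper88

universe u

/-- the `3`-subgroup generated by the `y * d`, `y` in a closed subset of width one through `d` -/
theorem section_subgroup (h : Cfsg.Agent.Helper20.ZStarHyp.{u}) {G : Type u} [Group G] [Finite G]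
    {D : Set G} (hT : TT D) (hne1 : ∀ x ∈ D, x ≠ 1) {d : G} {E : Set G} (hED : E ⊆ D)
    (hdE : d ∈ E) (hconj : ∀ a ∈ E, ∀ b ∈ E, a * b * a⁻¹ ∈ E)
    (hw : ∀ a ∈ E, ∀ b ∈ E, Commute a b → a = b) :
    IsPGroup 3 (Subgroup.closure {z | ∃ y ∈ E, z = y * d}) ∧
      ∀ x ∈ Subgroup.closure {z | ∃ y ∈ E, z = y * d},
        d * x * d⁻¹ ∈ Subgroup.closure {z | ∃ y ∈ E, z = y * d} := by
  have hd : d ∈ D := hED hdE
  have hdi : d⁻¹ = d := hT.inv_eq hd
  obtain ⟨Q, hQ3, hQ⟩ := Cfsg.Agent.Helper49.width_one_sub h hT hED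
    (fun e he => hne1 e (hED he)) hw hconj
  constructor
  · apply hQ3.to_le
    rw [Subgroup.closure_le]
    rintro _ ⟨y, hy, rfl⟩
    exact hQ y hy d hdE
  · intro x hx
    induction hx using Subgroup.closure_induction with
    | mem z hz =>
      obtain ⟨y, hy, rfl⟩ := hz
      have e : d * (y * d) * d⁻¹ = (y * d)⁻¹ := by
        rw [mul_inv_rev, hdi, hT.inv_eq (hED hy)]
        calc d * (y * d) * d = d * y * (d * d) := by group
          _ = d * y := by rw [hT.sq d hd, mul_one]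
      rw [e]
      exact Subgroup.inv_mem _ (Subgroup.subset_closure ⟨y, hy, rfl⟩)
    | one => simp
    | mul a b _ _ iha ihb =>
      have e : d * (a * b) * d⁻¹ = (d * a * d⁻¹) * (d * b * d⁻¹) := by group
      rw [e]; exact Subgroup.mul_mem _ iha ihb
    | inv a _ iha =>
      have e : d * a⁻¹ * d⁻¹ = (d * a * d⁻¹)⁻¹ := by group
      rw [e]; exact Subgroup.inv_mem _ iha

/-- a section from a `d`-invariant `3`-subgroup covering `O_3(G ⧸ N)` -/
theorem section_of_subgroup {G : Type*} [Group G] {D : Set G} (hC : TC D) (N : Subgroup G)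
    [hNn : N.Normal] (hN : Core D N) (A : Subgroup (G ⧸ N)) {d : G} (hd : d ∈ D)
    (hAd : ∀ q : G ⧸ N, q ∈ A ∨ q * (d : G ⧸ N) ∈ A) (P : Subgroup G) (hP3 : IsPGroup 3 P)
    (hPd : ∀ x ∈ P, d * x * d⁻¹ ∈ P)
    (hcov : ∀ g : G, (g : G ⧸ N) ∈ A → ∃ n ∈ N, ∃ p ∈ P, g = n * p) :
    IsSection D d {x | x ∈ D ∧ x * d ∈ P} := by
  have : Fact (Nat.Prime 3) := ⟨Nat.prime_three⟩
  have : Fact (Nat.Prime 2) := ⟨Nat.prime_two⟩
  have hT := hC.tt
  have hdd : d * d = 1 := hT.sq d hd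
  have hdi : d⁻¹ = d := hT.inv_eq hd
  have hdisj : Disjoint N P := IsPGroup.disjoint_of_ne 2 3 (by norm_num) _ _ hN.isP hP3
  refine ⟨fun x hx => hx.1, ⟨hd, by rw [hdd]; exact P.one_mem⟩, ?_, ?_, ?_⟩
  · rintro a ⟨ha, haP⟩ b ⟨hb, hbP⟩
    refine ⟨hT.conj a b hb, ?_⟩
    have e : a * b * a⁻¹ * d = (a * d) * (d * (b * d) * d⁻¹) * (a * d) := by
      rw [hT.inv_eq ha]
      calc a * b * a * d = a * 1 * b * 1 * a * d := by group
        _ = a * (d * d) * b * (d * d⁻¹) * a * d := by rw [hdd, mul_inv_cancel]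
        _ = _ := by group
    rw [e]
    exact P.mul_mem (P.mul_mem haP (hPd _ hbP)) haP
  · rintro a ⟨ha, haP⟩ b ⟨hb, hbP⟩ hab
    have h1 : a * b ∈ N := hN.mul_mem a ha b hb hab
    have h2 : a * b ∈ P := by
      have e : a * b = (a * d) * (b * d)⁻¹ := by
        rw [mul_inv_rev, hdi, hT.inv_eq hb]
        calc a * b = a * 1 * b := by group
          _ = a * (d * d) * b := by rw [hdd]
          _ = _ := by group
      rw [e]; exact P.mul_mem haP (P.inv_mem hbP)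
    have h3 : a * b = 1 := Subgroup.disjoint_def.mp hdisj h1 h2
    have := eq_inv_of_mul_eq_one_left h3
    rw [this, hT.inv_eq hb]
  · intro x hx
    obtain ⟨g0, hg0⟩ := hC.exists_conj hd hx
    obtain ⟨g, hgA, hg⟩ : ∃ g : G, (g : G ⧸ N) ∈ A ∧ g * d * g⁻¹ = x := by
      rcases hAd (g0 : G ⧸ N) with h | h
      · exact ⟨g0, h, hg0⟩
      · refine ⟨g0 * d, by rw [QuotientGroup.mk_mul]; exact h, ?_⟩
        rw [← hg0, mul_inv_rev, hdi]
        calc g0 * d * d * (d * g0⁻¹) = g0 * (d * d) * d * g0⁻¹ := by group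
          _ = g0 * d * g0⁻¹ := by rw [hdd, mul_one]
    obtain ⟨n, hn, p, hp, rfl⟩ := hcov g hgA
    have hy : p * d * p⁻¹ ∈ D := hT.conj p d hd
    refine ⟨p * d * p⁻¹, ⟨hy, ?_⟩, ?_⟩
    · have e : p * d * p⁻¹ * d = p * (d * p⁻¹ * d⁻¹) := by rw [hdi]; group
      rw [e]; exact P.mul_mem hp (hPd _ (P.inv_mem hp))
    · apply commute_of_mem hT hx hy hN.isP
      rw [← hg]
      have e : n * p * d * (n * p)⁻¹ * (p * d * p⁻¹)
          = n * ((p * d * p⁻¹) * n⁻¹ * (p * d * p⁻¹)⁻¹) := by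
        rw [hT.inv_eq hy]; group
      rw [e]
      exact N.mul_mem hn (hNn.conj_mem _ (N.inv_mem hn) _)

/-- from a section to a `d`-invariant Sylow `3`-subgroup -/
theorem sylow_of_section (h : Cfsg.Agent.Helper20.ZStarHyp.{u}) {G : Type u} [Group G] [Finite G]
    {D : Set G} (hC : TC D) (N : Subgroup G) [hNn : N.Normal] (hN : Core D N) {d : G}
    {D₀ : Set G} (hS : IsSection D d D₀) :
    ∃ P : Sylow 3 G, d ∈ Subgroup.normalizer ((P : Subgroup G) : Set G) ∧
      Subgroup.zpowers d ⊔ (P : Subgroup G) ⊔ N = ⊤ := by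
  have : Fact (Nat.Prime 3) := ⟨Nat.prime_three⟩
  have : Fact (Nat.Prime 2) := ⟨Nat.prime_two⟩
  obtain ⟨hD₀, hdD₀, hconj, hw, hmeet⟩ := hS
  have hT := hC.tt
  have hd : d ∈ D := hD₀ hdD₀
  have hdd : d * d = 1 := hT.sq d hd
  have hdi : d⁻¹ = d := hT.inv_eq hd
  obtain ⟨hP3, hPd⟩ := section_subgroup h hT hC.ne_one hD₀ hdD₀ hconj hw
  set P₁ := Subgroup.closure {z | ∃ y ∈ D₀, z = y * d} with hP₁
  have hdisj : ∀ Q : Subgroup G, IsPGroup 3 Q → Disjoint N Q := fun Q hQ =>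
    IsPGroup.disjoint_of_ne 2 3 (by norm_num) _ _ hN.isP hQ
  -- `d` normalizes `P₁`
  have hnorm : d ∈ Subgroup.normalizer (P₁ : Set G) := by
    rw [Subgroup.mem_normalizer_iff]
    intro x
    refine ⟨hPd x, fun hx => ?_⟩
    have := hPd _ hx
    have e : d * (d * x * d⁻¹) * d⁻¹ = x := by
      rw [hdi]
      calc d * (d * x * d) * d = (d * d) * x * (d * d) := by group
        _ = x := by rw [hdd, one_mul, mul_one]
    rwa [e] at this
  -- generation
  have hxd : ∀ x ∈ D, x * d ∈ N ⊔ P₁ := by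
    intro x hx
    obtain ⟨y, hy, hxy⟩ := hmeet x hx
    have e : x * d = (x * y) * (y * d) := by
      calc x * d = x * 1 * d := by group
        _ = x * (y * y) * d := by rw [hT.sq y (hD₀ hy)]
        _ = _ := by group
    rw [e]
    exact Subgroup.mul_mem _ (Subgroup.mem_sup_left (hN.mul_mem x hx y (hD₀ hy) hxy))
      (Subgroup.mem_sup_right (Subgroup.subset_closure ⟨y, hy, rfl⟩))
  have hgen : Subgroup.zpowers d ⊔ P₁ ⊔ N = ⊤ := by
    rw [eq_top_iff, ← hC.gen, Subgroup.closure_le]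
    intro x hx
    have h1 := hxd x hx
    have e : x = (x * d) * d⁻¹ := by group
    rw [e]
    refine Subgroup.mul_mem _ ?_ (Subgroup.mem_sup_left (Subgroup.mem_sup_left
      (Subgroup.inv_mem _ (Subgroup.mem_zpowers d))))
    have hle : N ⊔ P₁ ≤ Subgroup.zpowers d ⊔ P₁ ⊔ N :=
      sup_le le_sup_right (le_trans le_sup_right le_sup_left)
    exact hle h1
  -- invariance of `N ⊔ P₁` under `d`
  have hMd : ∀ x ∈ N ⊔ P₁, d * x * d⁻¹ ∈ N ⊔ P₁ := by
    intro x hx
    rw [Subgroup.mem_sup_of_normal_left] at hx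
    obtain ⟨n, hn, p, hp, rfl⟩ := hx
    have e : d * (n * p) * d⁻¹ = (d * n * d⁻¹) * (d * p * d⁻¹) := by group
    rw [e]
    exact Subgroup.mul_mem _ (Subgroup.mem_sup_left (hNn.conj_mem n hn d))
      (Subgroup.mem_sup_right (hPd p hp))
  have hall : ∀ x : G, x ∈ N ⊔ P₁ ∨ x * d ∈ N ⊔ P₁ := by
    have hle : Subgroup.closure D ≤ adjoin (N ⊔ P₁) d hdd hMd := by
      rw [Subgroup.closure_le]
      intro x hx
      exact Or.inr (hxd x hx)
    rw [hC.gen] at hle
    intro x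
    exact hle (Subgroup.mem_top x)
  -- a Sylow subgroup containing `P₁`
  obtain ⟨P₂, hP₂⟩ := hP3.exists_le_sylow
  have hP₂le : (P₂ : Subgroup G) ≤ P₁ := by
    intro x hx
    -- `x * x ∈ N ⊔ P₁`
    have hxx : x * x ∈ N ⊔ P₁ := by
      rcases hall x with h1 | h1
      · exact Subgroup.mul_mem _ h1 h1
      · have e : x * x = (x * d) * (d * (x * d) * d⁻¹) := by
          calc x * x = x * 1 * x := by group
            _ = x * (d * d) * x := by rw [hdd]
            _ = _ := by group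
        rw [e]
        exact Subgroup.mul_mem _ h1 (hMd _ h1)
    obtain ⟨k, hk⟩ := P₂.isPGroup' ⟨x, hx⟩
    have hk' : x ^ 3 ^ k = 1 := by
      have := congrArg Subtype.val hk
      simpa using this
    obtain ⟨m, hm⟩ : Odd (3 ^ k) := Odd.pow (by decide)
    have hxM : x ∈ N ⊔ P₁ := by
      have e : x = (x * x) ^ (m + 1) := by
        rw [← pow_two, ← pow_mul]
        have : 2 * (m + 1) = 3 ^ k + 1 := by omega
        rw [this, pow_succ, hk', one_mul]
      rw [e]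
      exact Subgroup.pow_mem _ hxx _
    rw [Subgroup.mem_sup_of_normal_left] at hxM
    obtain ⟨n, hn, p, hp, hnp⟩ := hxM
    have hn2 : n ∈ (P₂ : Subgroup G) := by
      have e : n = x * p⁻¹ := by rw [← hnp]; group
      rw [e]
      exact Subgroup.mul_mem _ hx (Subgroup.inv_mem _ (hP₂ hp))
    have hn1 : n = 1 := Subgroup.disjoint_def.mp (hdisj _ P₂.isPGroup') hn hn2
    rw [← hnp, hn1, one_mul]
    exact hp
  have hPeq : (P₂ : Subgroup G) = P₁ := le_antisymm hP₂le hP₂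
  refine ⟨P₂, ?_, ?_⟩
  · rw [hPeq]; exact hnorm
  · rw [hPeq]; exact hgen

/-- the inductive step through a quotient by a normal subgroup `Z < N` -/
theorem section_of_quot (h : Cfsg.Agent.Helper20.ZStarHyp.{u}) {G : Type u} [Group G] [Finite G]
    {D : Set G} (hC : TC D) (N : Subgroup G) [hNn : N.Normal] (hN : Core D N) (Z : Subgroup G)
    [hZn : Z.Normal] (hZle : Z ≤ N) (hZN : Z ≠ N) {d : G} (hd : d ∈ D) {E : Set (G ⧸ Z)}
    (hE : IsSection ((fun x : G => (x : G ⧸ Z)) '' D) (d : G ⧸ Z) E)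
    (ih : ∀ (H : Subgroup G), H ≠ ⊤ → ∀ (D' : Set H), TC D' → ∀ d' ∈ D',
      ∃ E', IsSection D' d' E') :
    ∃ D₀, IsSection D d D₀ := by
  have : Fact (Nat.Prime 3) := ⟨Nat.prime_three⟩
  have : Fact (Nat.Prime 2) := ⟨Nat.prime_two⟩
  have hZ2 : IsPGroup 2 Z := hN.isP.to_le hZle
  have hCq := hC.quot Z hZ2
  obtain ⟨hED, hdE, hEconj, hEw, hEmeet⟩ := hE
  set D' : Set G := {y | y ∈ D ∧ (y : G ⧸ Z) ∈ E} with hD'
  have hD'D : D' ⊆ D := fun y hy => hy.1
  have hdD' : d ∈ D' := ⟨hd, hdE⟩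
  have hD'conj : ∀ a ∈ D', ∀ b ∈ D', a * b * a⁻¹ ∈ D' := by
    rintro a ⟨ha, haE⟩ b ⟨hb, hbE⟩
    refine ⟨hC.tt.conj a b hb, ?_⟩
    have := hEconj _ haE _ hbE
    simpa using this
  have hD'meet : ∀ x ∈ D, ∃ y ∈ D', Commute x y := by
    intro x hx
    obtain ⟨y', hy'E, hxy'⟩ := hEmeet _ ⟨x, hx, rfl⟩
    obtain ⟨y, hy, rfl⟩ := hED hy'E
    exact ⟨y, ⟨hy, hy'E⟩, (hC.commute_mk_iff hZ2 hx hy).mp hxy'⟩
  have hD'two : ∃ a ∈ D', ∃ b ∈ D', ¬ Commute a b := by
    obtain ⟨a, ha, b, hb, hab⟩ := hC.two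
    obtain ⟨a', ha', haa'⟩ := hD'meet a ha
    obtain ⟨b', hb', hbb'⟩ := hD'meet b hb
    refine ⟨a', ha', b', hb', fun hc => hab ?_⟩
    have h1 := hC.trans a ha a' ha'.1 b' hb'.1 haa' hc
    exact hC.trans a ha b' hb'.1 b hb h1 hbb'.symm
  -- the subgroup generated by `D'` is proper
  have hHtop : Subgroup.closure D' ≠ ⊤ := by
    intro htop
    obtain ⟨hP3, hPd⟩ := section_subgroup h hCq.tt hCq.ne_one hED hdE hEconj hEw
    have hdd' : (d : G ⧸ Z) * (d : G ⧸ Z) = 1 := hCq.tt.sq _ ⟨d, hd, rfl⟩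
    have hall : ∀ q : G ⧸ Z, q ∈ Subgroup.closure {z | ∃ y ∈ E, z = y * (d : G ⧸ Z)} ∨
        q * (d : G ⧸ Z) ∈ Subgroup.closure {z | ∃ y ∈ E, z = y * (d : G ⧸ Z)} := by
      have hle : Subgroup.closure ((fun x : G => (x : G ⧸ Z)) '' D')
          ≤ adjoin (Subgroup.closure {z | ∃ y ∈ E, z = y * (d : G ⧸ Z)}) (d : G ⧸ Z) hdd' hPd := by
        rw [Subgroup.closure_le]
        rintro _ ⟨y, hy, rfl⟩
        exact Or.inr (Subgroup.subset_closure ⟨_, hy.2, rfl⟩)
      have h1 : Subgroup.closure ((fun x : G => (x : G ⧸ Z)) '' D') = ⊤ := by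
        have h2 : Subgroup.closure ((fun x : G => (x : G ⧸ Z)) '' D')
            = (Subgroup.closure D').map (QuotientGroup.mk' Z) := by
          rw [MonoidHom.map_closure]; rfl
        rw [h2, htop, ← MonoidHom.range_eq_map, MonoidHom.range_eq_top]
        exact QuotientGroup.mk'_surjective Z
      rw [h1] at hle
      intro q
      exact hle (Subgroup.mem_top q)
    obtain ⟨n₀, hn₀N, hn₀Z⟩ := SetLike.exists_of_lt (lt_of_le_of_ne hZle hZN)
    have key : ∀ x : G, (∃ j, x ^ 2 ^ j = 1) →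
        (x : G ⧸ Z) ∈ Subgroup.closure {z | ∃ y ∈ E, z = y * (d : G ⧸ Z)} → x ∈ Z := by
      rintro x ⟨j, hj⟩ hxP
      obtain ⟨k, hk⟩ := hP3 ⟨_, hxP⟩
      have hk' : (x : G ⧸ Z) ^ 3 ^ k = 1 := by
        have := congrArg Subtype.val hk
        simpa using this
      have hj' : (x : G ⧸ Z) ^ 2 ^ j = 1 := by rw [← QuotientGroup.mk_pow, hj]; rfl
      exact (QuotientGroup.eq_one_iff x).mp (eq_one_of_pow_two_three hj' hk')
    rcases hall (n₀ : G ⧸ Z) with h1 | h1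
    · apply hn₀Z
      apply key n₀ _ h1
      obtain ⟨j, hj⟩ := hN.isP ⟨n₀, hn₀N⟩
      exact ⟨j, by have := congrArg Subtype.val hj; simpa using this⟩
    · have hT2 : IsPGroup 2 (N ⊔ Subgroup.zpowers d : Subgroup G) :=
        IsPGroup.to_sup_of_normal_left hN.isP (isPGroup_two_zpowers (hC.tt.sq d hd))
      have hmem : n₀ * d ∈ N ⊔ Subgroup.zpowers d :=
        Subgroup.mul_mem _ (Subgroup.mem_sup_left hn₀N)
          (Subgroup.mem_sup_right (Subgroup.mem_zpowers d))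
      have h2 : n₀ * d ∈ Z := by
        apply key (n₀ * d) _ (by rw [QuotientGroup.mk_mul]; exact h1)
        obtain ⟨j, hj⟩ := hT2 ⟨_, hmem⟩
        exact ⟨j, by have := congrArg Subtype.val hj; simpa using this⟩
      apply hC.not_mem hN.isP hd
      have e : d = n₀⁻¹ * (n₀ * d) := by group
      rw [e]
      exact N.mul_mem (N.inv_mem hn₀N) (hZle h2)
  -- apply the induction hypothesis to the subgroup generated by `D'`
  obtain ⟨E', hE'⟩ := ih (Subgroup.closure D') hHtop _ (hC.sub hD'D hD'conj hD'two)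
    ⟨d, Subgroup.subset_closure hdD'⟩ hdD'
  obtain ⟨hE'D, hdE', hE'conj, hE'w, hE'meet⟩ := hE'
  refine ⟨Subtype.val '' E', ?_, ?_, ?_, ?_, ?_⟩
  · rintro _ ⟨z, hz, rfl⟩
    exact hD'D (hE'D hz)
  · exact ⟨_, hdE', rfl⟩
  · rintro _ ⟨a, ha, rfl⟩ _ ⟨b, hb, rfl⟩
    exact ⟨a * b * a⁻¹, hE'conj a ha b hb, by simp⟩
  · rintro _ ⟨a, ha, rfl⟩ _ ⟨b, hb, rfl⟩ hab
    have hab' : a * b = b * a := Subtype.ext (by simpa using hab.eq)
    rw [hE'w a ha b hb hab']
  · intro x hx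
    obtain ⟨y, hy, hxy⟩ := hD'meet x hx
    obtain ⟨z, hz, hyz⟩ := hE'meet ⟨y, Subgroup.subset_closure hy⟩ hy
    refine ⟨z, ⟨z, hz, rfl⟩, ?_⟩
    have hyz' : y * (z : G) = (z : G) * y := by
      have := congrArg Subtype.val hyz.eq
      simpa using this
    exact hC.trans x hx y hy.1 z (hD'D (hE'D hz)) hxy hyz'

/-- **Existence of sections**, by induction on the order of the group. -/
theorem exists_section (h : Cfsg.Agent.Helper20.ZStarHyp.{u}) (n : ℕ) :
    ∀ (G : Type u) [Group G] [Finite G] (D : Set G), Nat.card G = n → TC D →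
      ∀ d ∈ D, ∃ D₀, IsSection D d D₀ := by
  induction n using Nat.strong_induction_on with
  | _ n ih =>
  intro G _ _ D hcard hC d hd
  have : Fact (Nat.Prime 2) := ⟨Nat.prime_two⟩
  have : Fact (Nat.Prime 3) := ⟨Nat.prime_three⟩
  have hNn : (pCore 2 G).Normal := pCore_normal 2 G
  have hN : Core D (pCore 2 G) := hC.core_pCore
  have ihH : ∀ (H : Subgroup G), H ≠ ⊤ → ∀ (D' : Set H), TC D' → ∀ d' ∈ D',
      ∃ E', IsSection D' d' E' := by
    intro H hH D' hD' d' hd'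
    have hlt : Nat.card H < n := by
      rw [← hcard]
      have h1 := Subgroup.card_le_card_group H
      have h2 : Nat.card H ≠ Nat.card G := fun h => hH (Subgroup.eq_top_of_card_eq H h)
      omega
    exact ih _ hlt H D' rfl hD' d' hd'
  by_cases hcase : ∃ Z : Subgroup G, Z.Normal ∧ Z ≤ pCore 2 G ∧ Z ≠ ⊥ ∧ Z ≠ pCore 2 G
  · obtain ⟨Z, hZn, hZle, hZbot, hZN⟩ := hcase
    have hZ2 : IsPGroup 2 Z := hN.isP.to_le hZle
    have hlt : Nat.card (G ⧸ Z) < n := by
      rw [← hcard, Subgroup.card_eq_card_quotient_mul_card_subgroup Z]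
      have h1 : 1 < Nat.card Z := (Subgroup.one_lt_card_iff_ne_bot Z).mpr hZbot
      have h2 : 0 < Nat.card (G ⧸ Z) := Nat.card_pos
      nlinarith
    obtain ⟨E, hE⟩ := ih _ hlt (G ⧸ Z) _ rfl (hC.quot Z hZ2) (d : G ⧸ Z) ⟨d, hd, rfl⟩
    exact section_of_quot h hC (pCore 2 G) hN Z hZle hZN hd hE ihH
  · push Not at hcase
    have hmin : ∀ Z : Subgroup G, Z.Normal → Z ≤ pCore 2 G → Z = ⊥ ∨ Z = pCore 2 G := by
      intro Z hZn hZle
      by_cases hb : Z = ⊥
      · exact Or.inl hb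
      · exact Or.inr (hcase Z hZn hZle hb)
    have hNab : ∀ x ∈ pCore 2 G, ∀ y ∈ pCore 2 G, x * y = y * x := by
      by_cases hb : pCore 2 G = ⊥
      · intro x hx y hy
        rw [hb, Subgroup.mem_bot] at hx hy
        rw [hx, hy]
      · have hnt : Nontrivial ↥(pCore 2 G) := (Subgroup.nontrivial_iff_ne_bot _).mpr hb
        have hnil : Group.IsNilpotent ↥(pCore 2 G) := hN.isP.isNilpotent
        have hlt := Group.IsSolvable.commutator_lt_top_of_nontrivial ↥(pCore 2 G)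
        have hne : ⁅pCore 2 G, pCore 2 G⁆ ≠ pCore 2 G := by
          intro heq
          have h3 : commutator ↥(pCore 2 G) = ⊤ := by
            apply Subgroup.map_injective (Subgroup.subtype_injective (pCore 2 G))
            rw [Subgroup.map_subtype_commutator, heq, ← MonoidHom.range_eq_map,
              Subgroup.range_subtype]
          exact (ne_of_lt hlt) h3
        have hcomm : ⁅pCore 2 G, pCore 2 G⁆ = ⊥ := by
          rcases hmin ⁅pCore 2 G, pCore 2 G⁆ inferInstance (Subgroup.commutator_le_left _ _) with h0 | h1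
          · exact h0
          · exact absurd h1 hne
        rw [Subgroup.commutator_eq_bot_iff_le_centralizer] at hcomm
        intro x hx y hy
        exact (Subgroup.mem_centralizer_iff.mp (hcomm hx) y hy).symm
    have hAn : (pCore 3 (G ⧸ pCore 2 G)).Normal := pCore_normal 3 _
    have hA3 : IsPGroup 3 (pCore 3 (G ⧸ pCore 2 G)) := pCore_isPGroup 3 _
    have hAd := hC.quot_mem_or h (pCore 2 G) hN hd
    have hfus : ∀ g : G, (g * d * g⁻¹) * d ∈ pCore 2 G →
        ∃ v ∈ pCore 2 G, g * d * g⁻¹ = v * d * v⁻¹ := by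
      intro g hg
      have hgd : g * d * g⁻¹ ∈ D := hC.tt.conj g d hd
      have hc : Commute (g * d * g⁻¹) d := commute_of_mem hC.tt hgd hd hN.isP hg
      obtain ⟨v, hv, hvd⟩ := hC.exists_conj_core hN hd hgd hc.symm
      exact ⟨v, hv, hvd.symm⟩
    obtain ⟨P, hP3, hPd, hcov⟩ := lemmaB (pCore 2 G) hN.isP hNab hmin (pCore 3 (G ⧸ pCore 2 G))
      hA3 (hC.tt.sq d hd) hAd hfus
    exact ⟨_, section_of_subgroup hC (pCore 2 G) hN _ hd hAd P hP3 hPd hcov⟩

end Cfsg.Agent.Helper88.TTPerp
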