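import Mathlib
import Cfsg.Agent.Lib.Helper88.Rank3

/-!
# Twins among the transpositions commuting with a given one

For a primitive class `D` of 3-transpositions, suppose that two different members `y, y'` of
`D_x` (the members of `D` other than `x` commuting with `x`) commute with the same members of
`D_x`.  Then no two different members of `D_x` commute.
-/

set_option autoImplicit false

namespace Cfsg.Agent.Helper88.Twin

open Cfsg Cfsg.Agent.Helper88 Cfsg.Agent.Helper88.TTBlock Cfsg.Agent.Helper88.TTStruct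
  Cfsg.Agent.Helper88.TTMod Cfsg.Agent.Helper88.TTPrim Cfsg.Agent.Helper88.Rank3

variable {G : Type*} [Group G]

/-! ### conjugation by involutions -/

theorem cinv {s : G} (hs : s * s = 1) (a b : G) :
    Commute (s * a * s) b ↔ Commute a (s * b * s) := by
  have hi : s⁻¹ = s := inv_eq_self_of_mul_self hs
  have := commute_conj_iff s a b
  rwa [hi] at this

theorem cfix {s b : G} (hs : s * s = 1) (h : Commute s b) : s * b * s = b := by
  rw [h.eq, mul_assoc, hs, mul_one]

theorem cinvol {s : G} (hs : s * s = 1) (a : G) : s * (s * a * s) * s = a := by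
  calc s * (s * a * s) * s = (s * s) * a * (s * s) := by group
    _ = a := by rw [hs, one_mul, mul_one]

theorem cswap {s t : G} (h : Commute s t) (a : G) :
    s * (t * a * t) * s = t * (s * a * s) * t := by
  calc s * (t * a * t) * s = (s * t) * a * (t * s) := by group
    _ = (t * s) * a * (s * t) := by rw [h.eq]
    _ = t * (s * a * s) * t := by group

theorem cconj {s : G} (hs : s * s = 1) (a b : G) :
    Commute (s * a * s) (s * b * s) ↔ Commute a b := by
  rw [cinv hs, cinvol hs]

theorem inv_conj_mem {D : Set G} (hT : TT D) {s a : G} (hs : s ∈ D) (ha : a ∈ D) :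
    s * a * s ∈ D := by
  have := hT.conj s a ha
  rwa [hT.inv_eq hs] at this

theorem conj_ne_iff (g y p : G) : g⁻¹ * y * g ≠ p ↔ y ≠ g * p * g⁻¹ := by
  constructor
  · intro h h'
    apply h
    rw [h']; group
  · intro h h'
    apply h
    rw [← h']; group

/-! ### common neighbours -/

/-- members of `D` other than `p`, `q` commuting with both -/
def tri (D : Set G) (p q : G) : Set G :=
  {w | w ∈ D ∧ w ≠ p ∧ w ≠ q ∧ Commute p w ∧ Commute q w}

theorem cj_tri {D : Set G} (hT : TT D) (g p q : G) :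
    cj g (tri D p q) = tri D (g * p * g⁻¹) (g * q * g⁻¹) := by
  ext y
  rw [mem_cj]
  unfold tri
  simp only [Set.mem_ofPred_eq]
  rw [commute_conj_iff, commute_conj_iff, conj_mem_iff hT, conj_ne_iff, conj_ne_iff]

theorem ncard_tri [Finite G] {D : Set G} (hT : TT D) (g p q : G) :
    (tri D (g * p * g⁻¹) (g * q * g⁻¹)).ncard = (tri D p q).ncard := by
  rw [← cj_tri hT, ncard_cj]

/-- `y` and `y'` are different twins at `x` -/
structure TwinCfg (D : Set G) (x y y' : G) : Prop where
  hx : x ∈ D
  hy : y ∈ dd D x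
  hy' : y' ∈ dd D x
  hne : y ≠ y'
  tw : tri D x y = tri D x y'

theorem TwinCfg.not_commute {D : Set G} {x y y' : G} (h : TwinCfg D x y y') : ¬ Commute y y' := by
  intro hc
  have : y' ∈ tri D x y := ⟨h.hy'.1, h.hy'.2.1, h.hne.symm, h.hy'.2.2, hc⟩
  rw [h.tw] at this
  exact this.2.2.1 rfl

theorem TwinCfg.conj_of_commute {D : Set G} (hT : TT D) {x y y' : G} (h : TwinCfg D x y y')
    {c : G} (hc : Commute c x) : TwinCfg D x (c * y * c⁻¹) (c * y' * c⁻¹) := by
  have e : c * x * c⁻¹ = x := conj_eq_of_commute hc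
  refine ⟨h.hx, ?_, ?_, ?_, ?_⟩
  · have : c * y * c⁻¹ ∈ cj c (dd D x) := conj_mem_cj h.hy
    rwa [cj_dd hT, e] at this
  · have : c * y' * c⁻¹ ∈ cj c (dd D x) := conj_mem_cj h.hy'
    rwa [cj_dd hT, e] at this
  · intro h'
    apply h.hne
    have h3 : c⁻¹ * (c * y * c⁻¹) * c = c⁻¹ * (c * y' * c⁻¹) * c := by rw [h']
    have e' : ∀ t : G, c⁻¹ * (c * t * c⁻¹) * c = t := fun t => by group
    rwa [e', e'] at h3
  · have h1 := cj_tri hT c x y
    have h2 := cj_tri hT c x y'
    rw [e] at h1 h2
    rw [← h1, ← h2, h.tw]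

/-! ### Step A -/

theorem exists_e [Finite G] {D : Set G} (hP : PrimHyp D) {x y y' : G} (h : TwinCfg D x y y') :
    ∃ e ∈ D, Commute e y ∧ ¬ Commute e y' ∧ ¬ Commute e x := by
  have hT : TT D := TT.of_class hP.cls
  have hnc := h.not_commute
  have hyD := h.hy.1
  have hy'D := h.hy'.1
  have hns : ¬ dd D y ⊆ dd D y' := by
    intro hsub
    obtain ⟨g, hg⟩ := exists_conj_of_class hP.cls hyD hy'D
    have hcard : (dd D y').ncard ≤ (dd D y).ncard := by
      rw [← hg, ncard_dd hT]
    have heq := Set.eq_of_subset_of_ncard_le hsub hcard (Set.toFinite _)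
    exact h.hne (hP.simW y hyD y' hy'D heq).symm
  rw [Set.not_subset] at hns
  obtain ⟨e, heY, heY'⟩ := hns
  have hey' : ¬ Commute y' e := by
    intro hc
    apply heY'
    refine ⟨heY.1, ?_, hc⟩
    rintro rfl
    exact hnc heY.2.2
  have hex : ¬ Commute x e := by
    intro hc
    have hexne : e ≠ x := by
      rintro rfl
      exact hey' h.hy'.2.2.symm
    have : e ∈ tri D x y := ⟨heY.1, hexne, heY.2.1, hc, heY.2.2⟩
    rw [h.tw] at this
    exact hey' this.2.2.2.2
  exact ⟨e, heY.1, heY.2.2.symm, fun hc => hey' hc.symm, fun hc => hex hc.symm⟩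

/-! ### Step B -/

theorem commute_e {D : Set G} (hT : TT D) {x y y' e : G} (h : TwinCfg D x y y') (he : e ∈ D)
    (hey : Commute e y) (hey' : ¬ Commute e y') (hex : ¬ Commute e x) :
    ∀ n ∈ tri D x y, Commute n e := by
  intro n hn
  by_contra hne
  have hn' : n ∈ tri D x y' := by rw [← h.tw]; exact hn
  obtain ⟨hnD, hnx, hny, hxn, hyn⟩ := hn
  have hy'n : Commute y' n := hn'.2.2.2.2
  have hxD := h.hx
  have hyD := h.hy.1
  have hy'D := h.hy'.1
  have hxy : Commute x y := h.hy.2.2
  have hxy' : Commute x y' := h.hy'.2.2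
  have hyy' := h.not_commute
  have see := hT.sq e he
  have sxx := hT.sq x hxD
  have syy := hT.sq y hyD
  have sy'y' := hT.sq y' hy'D
  have snn := hT.sq n hnD
  have b_ex : e * x * e = x * e * x := hT.braid he hxD hex
  have b_ey' : e * y' * e = y' * e * y' := hT.braid he hy'D hey'
  have b_en : e * n * e = n * e * n := hT.braid he hnD (fun h => hne h.symm)
  set z : G := e * (y' * (x * (e * n * e) * x) * y') * e with hz
  have hzD : z ∈ D :=
    inv_conj_mem hT he (inv_conj_mem hT hy'D (inv_conj_mem hT hxD (inv_conj_mem hT he hnD)))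
  have e1 : e * (x * (y' * (e * x * e) * y') * x) * e = y' := by
    rw [b_ex, cswap hxy'.symm, cinvol sxx, ← b_ey', cinvol see]
  have e2 : e * (x * (y' * (e * y' * e) * y') * x) * e = x := by
    rw [b_ey', cinvol sy'y', ← b_ex, cinvol see]
  have hxu : Commute x (y' * y * y') := (hxy'.mul_right hxy).mul_right hxy'
  have hnu : Commute n (y' * y * y') := (hy'n.symm.mul_right hyn.symm).mul_right hy'n.symm
  have e3 : e * (x * (y' * (e * y * e) * y') * x) * e = e * (y' * y * y') * e := by
    rw [cfix see hey, cfix sxx hxu]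
  have hzx : Commute z x := by
    rw [hz, cinv see, cinv sy'y', cinv sxx, cinv see, e1]
    exact hy'n.symm
  have hzy' : Commute z y' := by
    rw [hz, cinv see, cinv sy'y', cinv sxx, cinv see, e2]
    exact hxn.symm
  have hzy : ¬ Commute z y := by
    rw [hz, cinv see, cinv sy'y', cinv sxx, cinv see, e3]
    intro hc
    have h1 := (cinv see n (y' * y * y')).mpr hc
    rw [b_en] at h1
    have h2 := (cinv snn e (y' * y * y')).mp h1
    rw [cfix snn hnu] at h2
    have h3 := (cinv sy'y' y e).mp h2.symm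
    rw [← b_ey'] at h3
    have h4 := (cinv see y' y).mp h3.symm
    rw [cfix see hey] at h4
    exact hyy' h4.symm
  have hzx_ne : z ≠ x := by
    intro h'
    apply hzy
    rw [h']
    exact hxy
  have hzy'_ne : z ≠ y' := by
    intro h'
    have h5 : n = e * (x * (y' * (e * z * e) * y') * x) * e := by
      rw [hz, cinvol see, cinvol sy'y', cinvol sxx, cinvol see]
    rw [h', e2] at h5
    exact hnx h5
  have : z ∈ tri D x y' := ⟨hzD, hzx_ne, hzy'_ne, hzx.symm, hzy'.symm⟩
  rw [← h.tw] at this
  exact hzy this.2.2.2.2.symm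

/-! ### Step C -/

theorem bc [Finite G] {D : Set G} (hP : PrimHyp D) {x y y' e : G} (h : TwinCfg D x y y')
    (he : e ∈ D) (hey : Commute e y) (hey' : ¬ Commute e y') (hex : ¬ Commute e x) :
    TwinCfg D y x e := by
  have hT : TT D := TT.of_class hP.cls
  have hyD := h.hy.1
  have hxy : Commute x y := h.hy.2.2
  have hye_ne : e ≠ y := by
    rintro rfl
    exact hex hxy.symm
  have hxe_ne : x ≠ e := by
    rintro rfl
    exact hex (Commute.refl _)
  have hxDy : x ∈ dd D y := ⟨h.hx, h.hy.2.1.symm, hxy.symm⟩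
  have heDy : e ∈ dd D y := ⟨he, hye_ne, hey.symm⟩
  refine ⟨hyD, hxDy, heDy, hxe_ne, ?_⟩
  have hsub : tri D y x ⊆ tri D y e := by
    rintro n ⟨hnD, hny, hnx, hyn, hxn⟩
    have hn : n ∈ tri D x y := ⟨hnD, hnx, hny, hxn, hyn⟩
    have hne := commute_e hT h he hey hey' hex n hn
    refine ⟨hnD, hny, ?_, hyn, hne.symm⟩
    rintro rfl
    exact hex hxn.symm
  obtain ⟨c, hc, hce⟩ := trans_D hP hyD x h.hx e he hxDy.2.1 hye_ne hxDy.2.2 heDy.2.2
  have hcard : (tri D y e).ncard ≤ (tri D y x).ncard := by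
    have := ncard_tri hT c y x
    rw [conj_eq_of_commute hc, hce] at this
    rw [this]
  exact Set.eq_of_subset_of_ncard_le hsub hcard (Set.toFinite _)

/-! ### Steps D, E -/

theorem star [Finite G] {D : Set G} (hP : PrimHyp D) {x y y' e : G} (h : TwinCfg D x y y')
    (he : e ∈ D) (hey : Commute e y) (hey' : ¬ Commute e y') (hex : ¬ Commute e x) :
    ∀ w ∈ dd D x, ¬ Commute w e → tri D x w = tri D x y := by
  have hT : TT D := TT.of_class hP.cls
  intro w hw hwe
  by_cases hwy : Commute w y
  · by_cases hwy_eq : w = y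
    · rw [hwy_eq]
    · exfalso
      apply hwe
      exact commute_e hT h he hey hey' hex w ⟨hw.1, hw.2.1, hwy_eq, hw.2.2, hwy.symm⟩
  · have h2 := bc hP h he hey hey' hex
    have h3 := bc hP h2 hw.1 hw.2.2.symm hwe hwy
    exact h3.tw.symm

theorem star' [Finite G] {D : Set G} (hP : PrimHyp D) {x y y' : G} (h : TwinCfg D x y y') :
    ∀ z ∈ D, ¬ Commute x z → ∀ w₁ ∈ dd D x, ∀ w₂ ∈ dd D x, ¬ Commute w₁ z → ¬ Commute w₂ z →
      tri D x w₁ = tri D x w₂ := by
  have hT : TT D := TT.of_class hP.cls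
  obtain ⟨e, he, hey, hey', hex⟩ := exists_e hP h
  intro z hz hxz
  obtain ⟨c, hc, hce⟩ := trans_A hP h.hx e he z hz (fun hh => hex hh.symm) hxz
  have key : ∀ w ∈ dd D x, ¬ Commute w z → tri D x w = cj c (tri D x y) := by
    intro w hw hwz
    have hw' : c⁻¹ * w * c ∈ dd D x := by
      rw [← mem_cj, cj_dd hT, conj_eq_of_commute hc]
      exact hw
    have hw'e : ¬ Commute (c⁻¹ * w * c) e := by
      intro hcm
      apply hwz
      rw [← hce]
      exact ((commute_conj_iff c e w).2 hcm.symm).symm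
    have h1 := star hP h he hey hey' hex _ hw' hw'e
    rw [← h1, cj_tri hT, conj_eq_of_commute hc]
    congr 1
    group
  intro w₁ hw₁ w₂ hw₂ h1 h2
  rw [key w₁ hw₁ h1, key w₂ hw₂ h2]

/-! ### Step F -/

theorem all_twin [Finite G] {D : Set G} (hP : PrimHyp D) {x y y' : G} (h : TwinCfg D x y y') :
    ∀ y₁ ∈ dd D x, tri D x y₁ = tri D x y := by
  have hT : TT D := TT.of_class hP.cls
  by_contra hcon
  push Not at hcon
  obtain ⟨y₁, hy₁, hne⟩ := hcon
  obtain ⟨e, he, hey, hey', hex⟩ := exists_e hP h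
  have hxD := h.hx
  have hyD := h.hy.1
  have hy'D := h.hy'.1
  have hxy : Commute x y := h.hy.2.2
  have hxy' : Commute x y' := h.hy'.2.2
  obtain ⟨c, hc, hcy⟩ := trans_D hP hxD y hyD y₁ hy₁.1 h.hy.2.1 hy₁.2.1 hxy hy₁.2.2
  have h₁ := h.conj_of_commute hT hc
  rw [hcy] at h₁
  set y₁' : G := c * y' * c⁻¹ with hy₁'
  set e' : G := c * e * c⁻¹ with he'def
  have he' : e' ∈ D := hT.conj c e he
  have he'y₁ : Commute e' y₁ := by
    rw [← hcy]
    exact (Commute.conj_iff c).2 hey
  have he'y₁' : ¬ Commute e' y₁' := by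
    intro hh
    exact hey' ((Commute.conj_iff c).1 hh)
  have he'x : ¬ Commute e' x := by
    intro hh
    rw [← conj_eq_of_commute hc] at hh
    exact hex ((Commute.conj_iff c).1 hh)
  have hS := star hP h he hey hey' hex
  have hS₁ := star hP h₁ he' he'y₁ he'y₁' he'x
  have hye' : Commute y e' := by
    by_contra hh
    exact hne (hS₁ y h.hy hh).symm
  have hy'e' : Commute y' e' := by
    by_contra hh
    apply hne
    rw [← hS₁ y' h.hy' hh, h.tw]
  have hy₁e : Commute y₁ e := by
    by_contra hh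
    exact hne (hS y₁ hy₁ hh)
  have hy₁'e : Commute y₁' e := by
    by_contra hh
    apply hne
    rw [h₁.tw]
    exact hS y₁' h₁.hy' hh
  have see := hT.sq e he
  have se'e' := hT.sq e' he'
  have sxx := hT.sq x hxD
  by_cases hee' : Commute e e'
  · -- Case 2
    have b_ex : e * x * e = x * e * x := hT.braid he hxD hex
    have b_e'x : e' * x * e' = x * e' * x := hT.braid he' hxD he'x
    set z : G := e * (e' * x * e') * e with hz
    have hzD : z ∈ D := inv_conj_mem hT he (inv_conj_mem hT he' hxD)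
    have hzx : Commute z x := by
      rw [hz, b_e'x, cinv see, b_ex, cconj sxx]
      exact hee'.symm
    have hzy : Commute z y := by
      rw [hz, cinv see, cfix see hey, cinv se'e', cfix se'e' hye'.symm]
      exact hxy
    have hc1 : Commute e' (e * y' * e) := (hee'.symm.mul_right hy'e'.symm).mul_right hee'.symm
    have hzy' : ¬ Commute z y' := by
      rw [hz, cinv see, cinv se'e', cfix se'e' hc1]
      intro hh
      have h2 := (cinv see x y').mpr hh
      rw [b_ex] at h2
      have h3 := (cinv sxx e y').mp h2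
      rw [cfix sxx hxy'] at h3
      exact hey' h3
    have hzx_ne : z ≠ x := by
      intro h'
      apply hzy'
      rw [h']
      exact hxy'
    have hzy_ne : z ≠ y := by
      intro h'
      have h5 : x = e' * (e * z * e) * e' := by
        rw [hz, cinvol see, cinvol se'e']
      rw [h', cfix see hey, cfix se'e' hye'.symm] at h5
      exact h.hy.2.1 h5.symm
    have : z ∈ tri D x y := ⟨hzD, hzx_ne, hzy_ne, hzx.symm, hzy.symm⟩
    rw [h.tw] at this
    exact hzy' this.2.2.2.2.symm
  · -- Case 1
    have b : e' * e * e' = e * e' * e := hT.braid he' he (fun hh => hee' hh.symm)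
    set z : G := e' * e * e' with hz
    have hzD : z ∈ D := inv_conj_mem hT he' he
    have hzy' : ¬ Commute z y' := by
      rw [hz, cinv se'e', cfix se'e' hy'e'.symm]
      exact hey'
    have hzy₁' : ¬ Commute z y₁' := by
      rw [b, cinv see, cfix see hy₁'e.symm]
      exact he'y₁'
    have hzy : Commute z y := by
      rw [hz, cinv se'e', cfix se'e' hye'.symm]
      exact hey
    by_cases hxz : Commute x z
    · have hzx_ne : z ≠ x := by
        intro h'
        apply hzy'
        rw [h']
        exact hxy'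
      have hzy_ne : z ≠ y := by
        intro h'
        have h5 : e = e' * z * e' := by
          rw [hz, cinvol se'e']
        rw [h', cfix se'e' hye'.symm] at h5
        apply hex
        rw [h5]
        exact hxy.symm
      have : z ∈ tri D x y := ⟨hzD, hzx_ne, hzy_ne, hxz, hzy.symm⟩
      rw [h.tw] at this
      exact hzy' this.2.2.2.2.symm
    · have h6 := star' hP h z hzD hxz y' h.hy' y₁' h₁.hy'
        (fun hh => hzy' hh.symm) (fun hh => hzy₁' hh.symm)
      apply hne
      rw [h₁.tw, ← h6, h.tw]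

/-- no two different members of `D_x` commute -/
theorem pairwise_not_commute [Finite G] {D : Set G} (hP : PrimHyp D) {x y y' : G}
    (h : TwinCfg D x y y') :
    ∀ w₁ ∈ dd D x, ∀ w₂ ∈ dd D x, w₁ ≠ w₂ → ¬ Commute w₁ w₂ := by
  intro w₁ hw₁ w₂ hw₂ hne hc
  have h1 := all_twin hP h w₁ hw₁
  have h2 := all_twin hP h w₂ hw₂
  have : w₂ ∈ tri D x w₁ := ⟨hw₂.1, hw₂.2.1, hne.symm, hw₂.2.2, hc⟩
  rw [h1, ← h2] at this
  exact this.2.2.1 rfl

end Cfsg.Agent.Helper88.Twin
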