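import Mathlib
import Cfsg.Agent.Lib.Helper88.Twin
import Cfsg.Agent.Lib.Helper88.SrgSpectral
import Cfsg.Agent.Lib.Helper88.SrgNumber
import Cfsg.Agent.Lib.Helper49.TTThetaCore

/-!
# Counting in the twin configuration

With twins at `x`, the set `D_x` has exactly three members.
-/

set_option autoImplicit false

namespace Cfsg.Agent.Helper88.Twin

open Cfsg Cfsg.Agent.Helper88 Cfsg.Agent.Helper88.TTBlock Cfsg.Agent.Helper88.TTStruct
  Cfsg.Agent.Helper88.TTMod Cfsg.Agent.Helper88.TTPrim Cfsg.Agent.Helper88.Rank3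
  Cfsg.Agent.Helper88.Srg

/-- a set of involutions which is a single orbit under the products of its members, these
products lying in a 3-group, has a power of three members -/
theorem ncard_pow_three {G : Type*} [Group G] [Finite G] (Q : Subgroup G) (hQ : IsPGroup 3 Q)
    (F : Set G) (hne : F.Nonempty) (hsq : ∀ a ∈ F, a * a = 1)
    (hQF : ∀ a ∈ F, ∀ b ∈ F, a * b ∈ Q)
    (hconj : ∀ a ∈ F, ∀ b ∈ F, a * b * a⁻¹ ∈ F)
    (hmove : ∀ a ∈ F, ∀ b ∈ F, (a * b) * a * (a * b)⁻¹ = b) :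
    ∃ j : ℕ, F.ncard = 3 ^ j := by
  classical
  obtain ⟨y₀, hy₀⟩ := hne
  set Q₁ : Subgroup G := Subgroup.closure {g | ∃ a ∈ F, ∃ b ∈ F, g = a * b} with hQ₁
  have hQ₁Q : Q₁ ≤ Q := by
    rw [hQ₁, Subgroup.closure_le]
    rintro g ⟨a, ha, b, hb, rfl⟩
    exact hQF a ha b hb
  have hQ₁p : IsPGroup 3 Q₁ := hQ.to_le hQ₁Q
  have hQ₁F : Q₁ ≤ Subgroup.closure F := by
    rw [hQ₁, Subgroup.closure_le]
    rintro g ⟨a, ha, b, hb, rfl⟩
    exact Subgroup.mul_mem _ (Subgroup.subset_closure ha) (Subgroup.subset_closure hb)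
  letI act : MulAction Q₁ G :=
    MulAction.compHom G ((MulAut.conj : G →* MulAut G).comp Q₁.subtype)
  have hsmul : ∀ (q : Q₁) (g : G), q • g = (q : G) * g * (q : G)⁻¹ := fun q g => rfl
  have horb : MulAction.orbit Q₁ y₀ = F := by
    ext w
    rw [MulAction.mem_orbit_iff]
    constructor
    · rintro ⟨q, rfl⟩
      rw [hsmul]
      exact (Cfsg.Agent.Helper49.conj_mem_iff_of_mem_closure hsq hconj (hQ₁F q.2) y₀).2 hy₀
    · intro hw
      refine ⟨⟨y₀ * w, Subgroup.subset_closure ⟨y₀, hy₀, w, hw, rfl⟩⟩, ?_⟩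
      rw [hsmul]
      exact hmove y₀ hy₀ w hw
  obtain ⟨j, hj⟩ := hQ₁p.card_orbit y₀
  refine ⟨j, ?_⟩
  rw [← horb, ← hj, Nat.card_coe_set_eq]

/-- counting the members of a subset of `D` by a sum over `D` -/
theorem sum_ind {G : Type*} {D : Set G} [Fintype D] (S : Set G) (hS : S ⊆ D)
    [DecidablePred (· ∈ S)] :
    (∑ c : D, if (c : G) ∈ S then (1 : ℝ) else 0) = S.ncard := by
  classical
  rw [Finset.sum_boole]
  congr 1
  rw [← Fintype.card_subtype, ← Nat.card_eq_fintype_card, ← Nat.card_coe_set_eq]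
  exact Nat.card_congr (Equiv.subtypeSubtypeEquivSubtype (fun {g} hg => hS hg))

universe u

section count

variable {G : Type u} [Group G] [Finite G] {D : Set G}

/-- the eigenvalue argument -/
theorem spectral (hP : PrimHyp D) {x e : G} (hx : x ∈ D) (he : e ∈ D) (hxe : ¬ Commute x e)
    (hpw : ∀ w₁ ∈ dd D x, ∀ w₂ ∈ dd D x, w₁ ≠ w₂ → ¬ Commute w₁ w₂)
    {m j : ℕ} (hk : (dd D x).ncard = 3 ^ m) (hμ : (tri D x e).ncard = 3 ^ j) (hm : 2 ≤ m)
    (hj : j < m) : False := by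
  classical
  have hT : TT D := TT.of_class hP.cls
  have hk' : ∀ a ∈ D, (dd D a).ncard = 3 ^ m := by
    intro a ha
    obtain ⟨g, hg⟩ := exists_conj_of_class hP.cls hx ha
    rw [← hg, ncard_dd hT, hk]
  have hpw' : ∀ a ∈ D, ∀ w₁ ∈ dd D a, ∀ w₂ ∈ dd D a, w₁ ≠ w₂ → ¬ Commute w₁ w₂ := by
    intro a ha w₁ hw₁ w₂ hw₂ hne hc
    obtain ⟨g, hg⟩ := exists_conj_of_class hP.cls ha hx
    have h1 : g * w₁ * g⁻¹ ∈ dd D x := by
      have : g * w₁ * g⁻¹ ∈ cj g (dd D a) := conj_mem_cj hw₁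
      rwa [cj_dd hT, hg] at this
    have h2 : g * w₂ * g⁻¹ ∈ dd D x := by
      have : g * w₂ * g⁻¹ ∈ cj g (dd D a) := conj_mem_cj hw₂
      rwa [cj_dd hT, hg] at this
    apply hpw _ h1 _ h2
    · intro h'
      apply hne
      have h3 : g⁻¹ * (g * w₁ * g⁻¹) * g = g⁻¹ * (g * w₂ * g⁻¹) * g := by rw [h']
      have e' : ∀ t : G, g⁻¹ * (g * t * g⁻¹) * g = t := fun t => by group
      rwa [e', e'] at h3
    · exact (Commute.conj_iff g).2 hc
  have hμ' : ∀ a ∈ D, ∀ b ∈ D, ¬ Commute a b → (tri D a b).ncard = 3 ^ j := by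
    intro a ha b hb hab
    obtain ⟨g, hg⟩ := exists_conj_of_class hP.cls ha hx
    have hb' : g * b * g⁻¹ ∈ D := hT.conj g b hb
    have hxb' : ¬ Commute x (g * b * g⁻¹) := by
      rw [← hg]
      intro hh
      exact hab ((Commute.conj_iff g).1 hh)
    obtain ⟨c, hc, hcb⟩ := trans_A hP hx _ hb' e he hxb' hxe
    have h1 := ncard_tri hT g a b
    have h2 := ncard_tri hT c x (g * b * g⁻¹)
    rw [conj_eq_of_commute hc, hcb] at h2
    rw [hg] at h1
    rw [← h1, ← h2, hμ]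
  haveI : Fintype D := Fintype.ofFinite D
  haveI : Nonempty D := ⟨⟨x, hx⟩⟩
  let A : Matrix D D ℝ := Matrix.of fun a c => if (c : G) ∈ dd D (a : G) then 1 else 0
  have hA : ∀ a c : D, A a c = if (c : G) ∈ dd D (a : G) then 1 else 0 := fun _ _ => rfl
  have hsym : ∀ a c : D, A a c = A c a := by
    intro a c
    rw [hA, hA]
    exact if_congr ⟨fun h => ⟨a.2, h.2.1.symm, h.2.2.symm⟩, fun h => ⟨c.2, h.2.1.symm, h.2.2.symm⟩⟩
      rfl rfl
  have hrow : ∀ a : D, (∑ c : D, A a c) = ((3 ^ m : ℕ) : ℝ) := by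
    intro a
    simp only [hA]
    rw [sum_ind _ (fun w hw => hw.1), hk' a a.2]
  have hAJ : A * JJ D = ((3 ^ m : ℕ) : ℝ) • JJ D := by
    ext a b
    rw [Matrix.mul_apply, Matrix.smul_apply]
    simp only [JJ, Matrix.of_apply, mul_one, smul_eq_mul]
    exact hrow a
  have hJA : JJ D * A = ((3 ^ m : ℕ) : ℝ) • JJ D := by
    ext a b
    rw [Matrix.mul_apply, Matrix.smul_apply]
    simp only [JJ, Matrix.of_apply, one_mul, smul_eq_mul, mul_one]
    rw [← hrow b]
    exact Finset.sum_congr rfl (fun c _ => hsym c b)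
  have hAAentry : ∀ a b : D, (A * A) a b = ((tri D (a : G) (b : G)).ncard : ℝ) := by
    intro a b
    rw [Matrix.mul_apply, ← sum_ind (tri D (a : G) (b : G)) (fun w hw => hw.1)]
    apply Finset.sum_congr rfl
    intro c _
    rw [hA, hA]
    by_cases h1 : (c : G) ∈ tri D (a : G) (b : G)
    · have h2 : (c : G) ∈ dd D (a : G) := ⟨h1.1, h1.2.1, h1.2.2.2.1⟩
      have h3 : (b : G) ∈ dd D (c : G) := ⟨b.2, h1.2.2.1.symm, h1.2.2.2.2.symm⟩
      rw [if_pos h1, if_pos h2, if_pos h3, mul_one]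
    · rw [if_neg h1]
      by_cases h2 : (c : G) ∈ dd D (a : G)
      · have h3 : (b : G) ∉ dd D (c : G) := by
          intro h3
          exact h1 ⟨h2.1, h2.2.1, h3.2.1.symm, h2.2.2, h3.2.2.symm⟩
        rw [if_neg h3, mul_zero]
      · rw [if_neg h2, zero_mul]
  have hAA : A * A = ((((3 ^ m : ℕ) : ℝ)) - ((3 ^ j : ℕ) : ℝ)) • (1 : Matrix D D ℝ)
      - (((3 ^ j : ℕ) : ℝ)) • A + (((3 ^ j : ℕ) : ℝ)) • JJ D := by
    ext a b
    rw [hAAentry]
    simp only [Matrix.add_apply, Matrix.sub_apply, Matrix.smul_apply, Matrix.one_apply,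
      smul_eq_mul, JJ, Matrix.of_apply, hA]
    by_cases hab : a = b
    · subst hab
      have h1 : tri D (a : G) (a : G) = dd D (a : G) := by
        ext w
        constructor
        · rintro ⟨h1, h2, -, h3, -⟩
          exact ⟨h1, h2, h3⟩
        · rintro ⟨h1, h2, h3⟩
          exact ⟨h1, h2, h2, h3, h3⟩
      have h2 : (a : G) ∉ dd D (a : G) := fun h => h.2.1 rfl
      rw [h1, hk' a a.2, if_pos rfl, if_neg h2]
      ring
    · have hab' : (a : G) ≠ (b : G) := fun h => hab (Subtype.ext h)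
      rw [if_neg hab]
      by_cases hc : Commute (a : G) (b : G)
      · have h1 : tri D (a : G) (b : G) = ∅ := by
          rw [Set.eq_empty_iff_forall_notMem]
          rintro w ⟨hw1, hw2, hw3, hw4, hw5⟩
          exact hpw' a a.2 w ⟨hw1, hw2, hw4⟩ b ⟨b.2, hab'.symm, hc⟩ hw3 hw5.symm
        have h2 : (b : G) ∈ dd D (a : G) := ⟨b.2, hab'.symm, hc⟩
        rw [h1, Set.ncard_empty, if_pos h2]
        simp
      · have h2 : (b : G) ∉ dd D (a : G) := fun h => hc h.2.2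
        rw [hμ' a a.2 b b.2 hc, if_neg h2]
        ring
  have htr : A.trace = 0 := by
    rw [Matrix.trace]
    apply Finset.sum_eq_zero
    intro a _
    rw [Matrix.diag_apply, hA, if_neg]
    exact fun h => h.2.1 rfl
  have h1 := half_case A (3 ^ m) (3 ^ j) hAJ hJA hAA htr (irrational_disc hm hj)
  have h2 := srg_rel A (3 ^ m) (3 ^ j) hAJ hAA
  have hk9 : (9 : ℝ) ≤ ((3 ^ m : ℕ) : ℝ) := by
    have : 3 ^ 2 ≤ 3 ^ m := Nat.pow_le_pow_right (by norm_num) hm
    exact_mod_cast this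
  have hμ0 : (0 : ℝ) ≤ ((3 ^ j : ℕ) : ℝ) := Nat.cast_nonneg _
  nlinarith [mul_nonneg hμ0 (by linarith : (0 : ℝ) ≤ ((3 ^ m : ℕ) : ℝ)),
    mul_self_nonneg (((3 ^ m : ℕ) : ℝ) - 9)]

/-- with twins at `x`, the set `D_x` has three members -/
theorem dd_eq_of_twin (hZ : Cfsg.Agent.Helper20.ZStarHyp.{u}) (hP : PrimHyp D) {x y y' : G}
    (h : TwinCfg D x y y') : dd D x = {y, y', y * y' * y} := by
  classical
  have hT : TT D := TT.of_class hP.cls
  obtain ⟨e, he, hey, hey', hex⟩ := exists_e hP h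
  have hpw := pairwise_not_commute hP h
  have hED : dd D x ⊆ D := fun w hw => hw.1
  have hne1 : ∀ w ∈ dd D x, w ≠ 1 := by
    rintro w hw rfl
    have := hP.cls.1.1 1 hw.1
    simp at this
  have hw1 : ∀ a ∈ dd D x, ∀ b ∈ dd D x, Commute a b → a = b := by
    intro a ha b hb hc
    by_contra hab
    exact hpw a ha b hb hab hc
  have hconjE : ∀ a ∈ dd D x, ∀ b ∈ dd D x, a * b * a⁻¹ ∈ dd D x := by
    intro a ha b hb
    have : a * b * a⁻¹ ∈ cj a (dd D x) := conj_mem_cj hb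
    rwa [cj_dd hT, conj_eq_of_commute ha.2.2.symm] at this
  obtain ⟨Q, hQ, hQE⟩ := Cfsg.Agent.Helper49.width_one_sub hZ hT hED hne1 hw1 hconjE
  have hmoveE : ∀ a ∈ dd D x, ∀ b ∈ dd D x, (a * b) * a * (a * b)⁻¹ = b := by
    intro a ha b hb
    by_cases hab : a = b
    · subst hab
      group
    · exact conj_mul_eq hT ha.1 hb.1 (hpw a ha b hb hab)
  obtain ⟨m, hm⟩ := ncard_pow_three Q hQ (dd D x) ⟨y, h.hy⟩ (fun a ha => hT.sq a ha.1) hQE hconjE
    hmoveE
  have hFE : tri D x e ⊆ dd D x := fun w hw => ⟨hw.1, hw.2.1, hw.2.2.2.1⟩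
  have hey_ne : y ≠ e := by
    rintro rfl
    exact hex h.hy.2.2.symm
  have hyF : y ∈ tri D x e := ⟨h.hy.1, h.hy.2.1, hey_ne, h.hy.2.2, hey⟩
  have hconjF : ∀ a ∈ tri D x e, ∀ b ∈ tri D x e, a * b * a⁻¹ ∈ tri D x e := by
    intro a ha b hb
    have h1 := hconjE a (hFE ha) b (hFE hb)
    refine ⟨h1.1, h1.2.1, ?_, h1.2.2, ?_⟩
    · intro h'
      apply hex
      rw [← h']
      exact h1.2.2.symm
    · exact (ha.2.2.2.2.mul_right hb.2.2.2.2).mul_right ha.2.2.2.2.inv_right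
  obtain ⟨j, hj⟩ := ncard_pow_three Q hQ (tri D x e) ⟨y, hyF⟩ (fun a ha => hT.sq a ha.1)
    (fun a ha b hb => hQE a (hFE ha) b (hFE hb)) hconjF
    (fun a ha b hb => hmoveE a (hFE ha) b (hFE hb))
  have hy'F : y' ∉ tri D x e := fun hh => hey' hh.2.2.2.2
  have hlt : (tri D x e).ncard < (dd D x).ncard :=
    Set.ncard_lt_ncard ⟨hFE, fun hsub => hy'F (hsub h.hy')⟩ (Set.toFinite _)
  have hjm : j < m := by
    rw [hj, hm] at hlt
    exact (Nat.pow_lt_pow_iff_right (by norm_num)).1 hlt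
  have hm2 : ¬ 2 ≤ m := fun hm2 =>
    spectral hP h.hx he (fun hh => hex hh.symm) hpw hm hj hm2 hjm
  have hm1 : m = 1 := by omega
  rw [hm1, pow_one] at hm
  -- the three members
  have hyy' := h.not_commute
  have h3 : y * y' * y ∈ dd D x := by
    have := hconjE y h.hy y' h.hy'
    rwa [hT.inv_eq h.hy.1] at this
  have hne2 : y * y' * y ≠ y := by
    intro h'
    apply h.hne
    have h5 : y * (y * y' * y) * y = y * y * y := by rw [h']
    rw [cinvol (hT.sq y h.hy.1), hT.sq y h.hy.1, one_mul] at h5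
    exact h5.symm
  have hne3 : y * y' * y ≠ y' := by
    intro h'
    apply hyy'
    show y * y' = y' * y
    have h5 : y * y' * y * y = y' * y := by rw [h']
    rwa [mul_assoc, hT.sq y h.hy.1, mul_one] at h5
  symm
  apply Set.eq_of_subset_of_ncard_le
  · intro w hw
    rcases hw with rfl | rfl | rfl
    · exact h.hy
    · exact h.hy'
    · exact h3
  · rw [hm]
    have : ({y, y', y * y' * y} : Set G).ncard = 3 := by
      rw [Set.ncard_eq_three]
      exact ⟨y, y', y * y' * y, h.hne, hne2.symm, hne3.symm, rfl⟩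
    rw [this]
  · exact Set.toFinite _

end count

end Cfsg.Agent.Helper88.Twin
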